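/-
helper47: piece RK of CALL S1352 (helper22, B&G 14.2): the primes of kappa(M) have rank one in M.
-/
import Cfsg.Agent.Helper22.BG14Defs
import Cfsg.Agent.Helper23.Uniq

set_option autoImplicit false

namespace Cfsg.Agent.Helper47

open Cfsg Subgroup Cfsg.Agent.Helper23

universe u

variable {G : Type u} [Group G] [Finite G]

/-- PIECE RK: the primes of `κ(M)` have `p`-rank one in `M`. -/
theorem bg14_rank_of_kappa {M : Subgroup G} {q : ℕ} (hq : q ∈ kappa M) : PRankLE q 1 ↥M := by
  have hqp : q.Prime := hq.1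
  have := Fact.mk hqp
  intro A _ hAe
  have hAq : IsPGroup q A := fun a => ⟨1, by
    rw [pow_one]
    exact Subtype.ext (by simpa using hAe a a.2)⟩
  obtain ⟨P, hP⟩ := hAq.exists_le_sylow
  have hPc : IsCyclic P := (hq.2.2.2 P).1
  have hAcyc : IsCyclic A :=
    isCyclic_of_injective (Subgroup.inclusion hP) (Subgroup.inclusion_injective hP)
  have hexp : Monoid.exponent A = Nat.card A := IsCyclic.exponent_eq_card
  have hdvd : Monoid.exponent A ∣ q := by
    apply Monoid.exponent_dvd_of_forall_pow_eq_one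
    rintro ⟨a, ha⟩
    apply Subtype.ext
    simpa using hAe a ha
  rw [hexp] at hdvd
  rw [pow_one]
  exact Nat.le_of_dvd hqp.pos hdvd

end Cfsg.Agent.Helper47
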