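/-
helper47: piece SET2 of CALL S1352 (helper22, B&G 14.2): the Sylow q-subgroup of a cyclic Hall kappa(M)-subgroup.
-/
import Cfsg.Agent.Helper22.BG14Defs
import Cfsg.Agent.Helper23.Uniq

set_option autoImplicit false

namespace Cfsg.Agent.Helper47

open Cfsg Subgroup Cfsg.Agent.Helper23

universe u

variable {G : Type u} [Group G] [Finite G]

/-- The image in `G` of a Sylow `q`-subgroup of the Hall `κ(M)`-subgroup `K`, `q ∈ κ(M)`, has
index in `M` prime to `q`. -/
theorem bg14_sylow_of_hall_aux {M K : Subgroup G} (hK : IsPiHallOf (kappa M) K M)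
    {q : ℕ} [Fact q.Prime] (hq : q ∈ kappa M) (P : Sylow q ↥K) :
    ¬ q ∣ ((P : Subgroup ↥K).map K.subtype).relIndex M := by
  have hqp : q.Prime := hq.1
  have hQK : (P : Subgroup ↥K).map K.subtype ≤ K := Subgroup.map_subtype_le _
  rw [← Subgroup.relIndex_mul_relIndex _ _ _ hQK hK.1]
  apply hqp.not_dvd_mul
  · have h1 : ((P : Subgroup ↥K).map K.subtype).relIndex K = (P : Subgroup ↥K).index := by
      have h2 : ((P : Subgroup ↥K).map K.subtype).subgroupOf K = (P : Subgroup ↥K) :=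
        Subgroup.comap_map_eq_self_of_injective K.subtype_injective _
      rw [Subgroup.relIndex, h2]
    rw [h1]
    exact P.not_dvd_index
  · exact hK.2.2 q hqp hq

/-- PIECE SET2: the Sylow `q`-subgroup of the cyclic Hall `κ(M)`-subgroup `K`, `q ∈ κ(M)`. -/
theorem bg14_sylow_of_hall {M K : Subgroup G} (hKc : IsCyclic K) (hK : IsPiHallOf (kappa M) K M)
    {q : ℕ} (hq : q ∈ kappa M) :
    ∃ Q : Subgroup G, Q ≤ K ∧ IsPGroup q Q ∧ Q ≠ ⊥ ∧ IsCyclic Q ∧ ¬ q ∣ Q.relIndex M := by
  have hqp : q.Prime := hq.1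
  have := Fact.mk hqp
  obtain ⟨P⟩ : Nonempty (Sylow q ↥K) := Sylow.nonempty
  have hQK : (P : Subgroup ↥K).map K.subtype ≤ K := Subgroup.map_subtype_le _
  have hidx := bg14_sylow_of_hall_aux hK hq P
  refine ⟨(P : Subgroup ↥K).map K.subtype, hQK, P.2.map _, ?_, ?_, hidx⟩
  · intro hbot
    rw [hbot, Subgroup.relIndex_bot_left] at hidx
    exact hidx hq.2.1
  · exact isCyclic_of_injective (Subgroup.inclusion hQK) (Subgroup.inclusion_injective hQK)

end Cfsg.Agent.Helper47
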