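/-
helper47: piece SET4 of CALL S1352 (helper22, B&G 14.2): a subgroup of order q with nontrivial centralizer in M_sigma.
-/
import Cfsg.Agent.Helper22.BG14Defs
import Cfsg.Agent.Helper23.Uniq

set_option autoImplicit false

namespace Cfsg.Agent.Helper47

open Cfsg Subgroup Cfsg.Agent.Helper23

universe u

variable {G : Type u} [Group G] [Finite G]

/-- PIECE SET4 (definition of `κ`): a subgroup of order `q` of a Sylow `q`-subgroup `Q` of `M`
with nontrivial centralizer in `M_σ`. -/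
theorem bg14_kappa_cent {M Q : Subgroup G} {q : ℕ} (hq : q ∈ kappa M) (hQM : Q ≤ M)
    (hQq : IsPGroup q Q) (hQi : ¬ q ∣ Q.relIndex M) :
    ∃ Q₁ : Subgroup G, Q₁ ≤ Q ∧ Nat.card Q₁ = q ∧ sigmaCore M ⊓ centralizer (Q₁ : Set G) ≠ ⊥ := by
  have hqp : q.Prime := hq.1
  have := Fact.mk hqp
  have hQ' : IsPGroup q (Q.subgroupOf M) := hQq.comap_subtype
  have hidx : ¬ q ∣ (Q.subgroupOf M).index := hQi
  obtain ⟨-, x, hxP, hx1, y, hyσ, hy1, hcomm⟩ := hq.2.2.2 (hQ'.toSylow hidx)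
  have hxQ : (x : G) ∈ Q := by
    have hxP' : x ∈ Q.subgroupOf M := hxP
    exact Subgroup.mem_subgroupOf.mp hxP'
  have hx1' : (x : G) ≠ 1 := fun h => hx1 (Subtype.ext h)
  obtain ⟨k, hk⟩ := hQq ⟨(x : G), hxQ⟩
  have hk' : (x : G) ^ q ^ k = 1 := by
    have := congrArg Subtype.val hk
    simpa using this
  obtain ⟨j, -, hj⟩ := (Nat.dvd_prime_pow hqp).mp (orderOf_dvd_of_pow_eq_one hk')
  have hj0 : j ≠ 0 := by
    rintro rfl
    rw [pow_zero, orderOf_eq_one_iff] at hj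
    exact hx1' hj
  obtain ⟨i, rfl⟩ := Nat.exists_eq_succ_of_ne_zero hj0
  have hord : orderOf ((x : G) ^ q ^ i) = q := by
    rw [orderOf_pow_of_dvd (pow_ne_zero _ hqp.ne_zero) (by rw [hj]; exact pow_dvd_pow q (Nat.le_succ i)),
      hj, pow_succ, Nat.mul_div_cancel_left _ (pow_pos hqp.pos i)]
  refine ⟨Subgroup.zpowers ((x : G) ^ q ^ i), ?_, ?_, ?_⟩
  · rw [Subgroup.zpowers_le]
    exact Q.pow_mem hxQ _
  · rw [Nat.card_zpowers, hord]
  · intro hbot
    have hy : y ∈ sigmaCore M ⊓ centralizer ((Subgroup.zpowers ((x : G) ^ q ^ i) : Subgroup G) : Set G) := by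
      refine Subgroup.mem_inf.mpr ⟨hyσ, ?_⟩
      rw [Subgroup.mem_centralizer_iff]
      intro h hh
      obtain ⟨n, rfl⟩ := Subgroup.mem_zpowers_iff.mp hh
      have h1 : Commute (x : G) y := hcomm
      exact ((h1.pow_left (q ^ i)).zpow_left n).eq
    rw [hbot, Subgroup.mem_bot] at hy
    exact hy1 hy

end Cfsg.Agent.Helper47
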