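import Cfsg.Agent.Helper47.PIrr

set_option autoImplicit false

namespace Cfsg.Agent.Helper47

open scoped commutatorElement Pointwise

section syl

variable {G : Type*} [Group G] [Finite G] {p : ℕ} [hp : Fact p.Prime]

/-- a subgroup `Q` of a Sylow subgroup `P` with `N_P(Q) ≤ Q` equals `P` (normalizers grow) -/
theorem eq_sylow_of_normalizer_inf_le {Q : Subgroup G} (P : Sylow p G) (hQP : Q ≤ (P : Subgroup G))
    (h : (P : Subgroup G) ⊓ Subgroup.normalizer (Q : Set G) ≤ Q) : (P : Subgroup G) = Q := by
  haveI : Group.IsNilpotent ↥(P : Subgroup G) := P.isPGroup'.isNilpotent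
  have hnc : NormalizerCondition ↥(P : Subgroup G) := Group.normalizerCondition_of_isNilpotent
  rw [normalizerCondition_iff_only_full_group_self_normalizing] at hnc
  have h1 : Subgroup.normalizer ((Q.subgroupOf (P : Subgroup G) : Subgroup ↥(P : Subgroup G)) : Set ↥(P : Subgroup G))
      = Q.subgroupOf (P : Subgroup G) := by
    apply le_antisymm _ Subgroup.le_normalizer
    rw [← Subgroup.subgroupOf_normalizer_eq hQP]
    intro y hy
    rw [Subgroup.mem_subgroupOf] at hy ⊢
    exact h ⟨y.2, hy⟩
  have h2 := hnc _ h1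
  rw [Subgroup.subgroupOf_eq_top] at h2
  exact le_antisymm h2 hQP

/-- a proper subgroup lies in a coatom (finite group) -/
theorem exists_coatom_ge {K : Subgroup G} (hK : K ≠ ⊤) : ∃ M : Subgroup G, IsCoatom M ∧ K ≤ M :=
  (eq_top_or_exists_le_coatom K).resolve_left hK

theorem isCoatom_map_conj {M : Subgroup G} (hM : IsCoatom M) (g : G) :
    IsCoatom (M.map (MulAut.conj g).toMonoidHom) := by
  apply isCoatom_map_of_surjective (MulAut.conj g).surjective _ hM
  intro x hx
  rw [MonoidHom.mem_ker] at hx
  have : x = 1 := (MulAut.conj g).injective (by simpa using hx)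
  rw [this]
  exact M.one_mem

end syl

end Cfsg.Agent.Helper47
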