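import Cfsg.Agent.Helper1.BGSDefs

/-!
# Helper47: PIECE D1 of CALL S1351D (helper1): tilde sets of maximal subgroups with disjoint
sigma-sets are disjoint.
-/

set_option autoImplicit false

namespace Cfsg.Agent.Helper47

open Cfsg Subgroup Cfsg.Agent.Helper1

universe u v

variable {G : Type u} [Group G]

/-- D1: tilde sets of maximal subgroups with disjoint sigma-sets are disjoint. -/
theorem bgs_tilde_disj [Finite G] (hG : IsMinSimpleOddOrder G) {M N : Subgroup G} (hM : IsCoatom M)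
    (hN : IsCoatom N) (hd : ∀ p : ℕ, p ∈ sigma M → p ∉ sigma N) :
    Disjoint (starTilde M) (starTilde N) := by
  rw [Set.disjoint_left]
  rintro t ⟨a, ⟨ha, ha1⟩, r, hr, y, hty⟩ ⟨a', ⟨ha', ha'1⟩, r', hr', y', hty'⟩
  have ha1' : a ≠ 1 := fun h => ha1 (Set.mem_singleton_iff.mpr h)
  have ha'1' : a' ≠ 1 := fun h => ha'1 (Set.mem_singleton_iff.mpr h)
  have ha0 : a ∈ sigmaCore M := ha
  have ha'0 : a' ∈ sigmaCore N := ha'
  obtain ⟨c, hc⟩ : ∃ c : G, c = y⁻¹ * y' := ⟨_, rfl⟩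
  have hN' : IsCoatom (N.map (MulAut.conj c).toMonoidHom) :=
    Cfsg.Agent.Helper47.isCoatom_map_conj hN c
  have hkey : a * r = (c * a' * c⁻¹) * (c * r' * c⁻¹) := by
    have h1 : y * (a * r) * y⁻¹ = y' * (a' * r') * y'⁻¹ := by rw [← hty, ← hty']
    have h2 : a * r = y⁻¹ * (y * (a * r) * y⁻¹) * y := by group
    rw [h2, h1, hc]
    group
  have ha'' : c * a' * c⁻¹ ∈ sigmaCore (N.map (MulAut.conj c).toMonoidHom) := by
    rw [Cfsg.Agent.Helper54.bg14t_mem_sigmaCore_conj]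
    have e : c⁻¹ * (c * a' * c⁻¹) * c = a' := by group
    rw [e]
    exact ha'0
  have ha''1 : c * a' * c⁻¹ ≠ 1 := by
    intro h
    apply ha'1'
    have e : a' = c⁻¹ * (c * a' * c⁻¹) * c := by group
    rw [e, h]
    group
  have hr'' : c * r' * c⁻¹ ∈ supportR (N.map (MulAut.conj c).toMonoidHom) (c * a' * c⁻¹) := by
    rw [Cfsg.Agent.Helper54.bg14t_supportR_conj hG hN ha'0 ha'1' c]
    exact ⟨r', hr', by simp [MulAut.conj_apply]⟩
  by_cases hne : a = c * a' * c⁻¹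
  · have hox : orderOf a ≠ 1 := fun h => ha1' (orderOf_eq_one_iff.mp h)
    obtain ⟨q, hq, hqd⟩ := Nat.exists_prime_and_dvd hox
    have hqM : q ∈ sigma M := Cfsg.Agent.Helper54.bg14t_mem_sigma_of_dvd ha0 hq hqd
    have hqN' : q ∈ sigma (N.map (MulAut.conj c).toMonoidHom) :=
      Cfsg.Agent.Helper54.bg14t_mem_sigma_of_dvd ha'' hq (by rw [← hne]; exact hqd)
    rw [Cfsg.Agent.Helper54.bg14t_sigma_conj] at hqN'
    exact hd q hqM hqN'
  · exact Cfsg.Agent.Helper54.bg14t_1433 hG M (N.map (MulAut.conj c).toMonoidHom) hM hN' a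
      (c * a' * c⁻¹) ha0 ha'' ha1' ha''1 hne r hr (c * r' * c⁻¹) hr'' hkey

end Cfsg.Agent.Helper47
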