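import Cfsg.Agent.Helper23.BG1210
import Cfsg.Agent.Helper1.Gaschutz2

/-!
# S1421 piece P1c: a complement of a non-Frattini line with the same exponent
-/

set_option autoImplicit false

namespace Cfsg.Agent.Helper47

open Cfsg Subgroup Cfsg.Agent.Helper23

universe u

variable {G : Type u} [Group G] [Finite G]

/-- The subgroup `K ⟨y⟩` inside a subgroup `P` whose elements commute. -/
def bgMulZpowers (P K : Subgroup G) (hKP : K ≤ P) (hPc : ∀ x ∈ P, ∀ y ∈ P, x * y = y * x) (y : G)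
    (hy : y ∈ P) : Subgroup G where
  carrier := {g | ∃ k ∈ K, ∃ i : ℤ, g = k * y ^ i}
  mul_mem' := by
    rintro _ _ ⟨k, hk, i, rfl⟩ ⟨k', hk', j, rfl⟩
    refine ⟨k * k', K.mul_mem hk hk', i + j, ?_⟩
    have hc : y ^ i * k' = k' * y ^ i := hPc _ (P.zpow_mem hy i) _ (hKP hk')
    calc k * y ^ i * (k' * y ^ j) = k * (y ^ i * k') * y ^ j := by group
      _ = k * (k' * y ^ i) * y ^ j := by rw [hc]
      _ = k * k' * y ^ (i + j) := by rw [zpow_add]; group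
  one_mem' := ⟨1, K.one_mem, 0, by simp⟩
  inv_mem' := by
    rintro _ ⟨k, hk, i, rfl⟩
    refine ⟨k⁻¹, K.inv_mem hk, -i, ?_⟩
    have hc : y ^ i * k = k * y ^ i := hPc _ (P.zpow_mem hy i) _ (hKP hk)
    rw [mul_inv_rev, zpow_neg, ← mul_inv_rev, ← mul_inv_rev, hc]

theorem bg1210_exists_compl {p : ℕ} [Fact p.Prime] {E P A₀ : Subgroup G}
    (hPE : P ≤ E) (hPc : ∀ x ∈ P, ∀ y ∈ P, x * y = y * x)
    (hA₀P : A₀ ≤ P) (hsq : ∀ u ∈ E, u ^ p ∈ A₀ → u ^ p = 1) :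
    ∃ K : Subgroup G, K ≤ P ∧ K ⊓ A₀ = ⊥ ∧ A₀ ⊔ K = P := by
  classical
  have hp : p.Prime := Fact.out
  have hpow : ∀ g ∈ Subgroup.closure {g : G | ∃ x ∈ P, g = x ^ p}, ∃ x ∈ P, g = x ^ p := by
    intro g hg
    induction hg using Subgroup.closure_induction with
    | mem g hg => exact hg
    | one => exact ⟨1, P.one_mem, by simp⟩
    | mul a b _ _ ha hb =>
      obtain ⟨x, hx, rfl⟩ := ha
      obtain ⟨y, hy, rfl⟩ := hb
      exact ⟨x * y, P.mul_mem hx hy, (Commute.mul_pow (show Commute x y from hPc x hx y hy) p).symm⟩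
    | inv a _ ha =>
      obtain ⟨x, hx, rfl⟩ := ha
      exact ⟨x⁻¹, P.inv_mem hx, (inv_pow x p).symm⟩
  obtain ⟨Pp, hPp⟩ : ∃ Pp : Subgroup G, Pp = Subgroup.closure {g : G | ∃ x ∈ P, g = x ^ p} :=
    ⟨_, rfl⟩
  have hPpmem : ∀ x ∈ P, x ^ p ∈ Pp := by
    intro x hx
    rw [hPp]
    exact Subgroup.subset_closure ⟨x, hx, rfl⟩
  have hPpP : Pp ≤ P := by
    rw [hPp, Subgroup.closure_le]
    rintro g ⟨x, hx, rfl⟩
    exact P.pow_mem hx p
  have hPpA : Pp ⊓ A₀ = ⊥ := by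
    rw [eq_bot_iff]
    rintro g ⟨hg1, hg2⟩
    rw [hPp] at hg1
    obtain ⟨x, hx, rfl⟩ := hpow g hg1
    exact Subgroup.mem_bot.mpr (hsq x (hPE hx) hg2)
  obtain ⟨K, hKmax⟩ : ∃ K, Maximal (fun K : Subgroup G => Pp ≤ K ∧ K ≤ P ∧ K ⊓ A₀ = ⊥) K :=
    Set.Finite.exists_maximal
      (Set.toFinite {K : Subgroup G | Pp ≤ K ∧ K ≤ P ∧ K ⊓ A₀ = ⊥}) ⟨Pp, le_refl _, hPpP, hPpA⟩
  obtain ⟨⟨hPpK, hKP, hKA⟩, hmax⟩ := hKmax
  refine ⟨K, hKP, hKA, le_antisymm (sup_le hA₀P hKP) ?_⟩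
  intro y hy
  obtain ⟨K', hK'⟩ : ∃ K' : Subgroup G, K' = bgMulZpowers P K hKP hPc y hy := ⟨_, rfl⟩
  have hK'mem : ∀ g, g ∈ K' ↔ ∃ k ∈ K, ∃ i : ℤ, g = k * y ^ i := by
    intro g
    rw [hK']
    rfl
  have hKK' : K ≤ K' := fun k hk => (hK'mem k).mpr ⟨k, hk, 0, by simp⟩
  have hyK' : y ∈ K' := (hK'mem y).mpr ⟨1, K.one_mem, 1, by simp⟩
  have hK'P : K' ≤ P := by
    intro g hg
    obtain ⟨k, hk, i, rfl⟩ := (hK'mem g).mp hg
    exact P.mul_mem (hKP hk) (P.zpow_mem hy i)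
  by_cases hK'A : K' ⊓ A₀ = ⊥
  · have h1 := hmax ⟨hPpK.trans hKK', hK'P, hK'A⟩ hKK'
    exact Subgroup.mem_sup_right (h1 hyK')
  · obtain ⟨a, ha, ha1⟩ : ∃ a ∈ K' ⊓ A₀, a ≠ 1 := by
      by_contra hcon
      apply hK'A
      rw [eq_bot_iff]
      intro a ha
      by_contra h1
      exact hcon ⟨a, ha, fun h => h1 (Subgroup.mem_bot.mpr h)⟩
    obtain ⟨haK', haA⟩ := ha
    obtain ⟨k, hk, i, rfl⟩ := (hK'mem a).mp haK'
    by_cases hpi : (p : ℤ) ∣ i
    · exfalso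
      obtain ⟨j, rfl⟩ := hpi
      have h1 : y ^ ((p : ℤ) * j) ∈ K := by
        apply hPpK
        have h2 : y ^ ((p : ℤ) * j) = (y ^ j) ^ p := by
          rw [mul_comm, zpow_mul, zpow_natCast]
        rw [h2]
        exact hPpmem _ (P.zpow_mem hy j)
      have h2 : k * y ^ ((p : ℤ) * j) ∈ K ⊓ A₀ := ⟨K.mul_mem hk h1, haA⟩
      rw [hKA] at h2
      exact ha1 (Subgroup.mem_bot.mp h2)
    · have hg : Int.gcd i (p : ℤ) = 1 := by
        rw [Int.gcd_comm, Int.gcd_eq_natAbs, Int.natAbs_natCast]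
        exact (Nat.Prime.coprime_iff_not_dvd hp).mpr (fun h => hpi (Int.natCast_dvd.mpr h))
      have hbez := Int.gcd_eq_gcd_ab i (p : ℤ)
      rw [hg] at hbez
      have hyi : y ^ i ∈ A₀ ⊔ K := by
        have h1 : y ^ i = k⁻¹ * (k * y ^ i) := by group
        rw [h1]
        exact Subgroup.mul_mem _ (Subgroup.mem_sup_right (K.inv_mem hk)) (Subgroup.mem_sup_left haA)
      have hyp : y ^ (p : ℤ) ∈ A₀ ⊔ K := by
        apply Subgroup.mem_sup_right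
        apply hPpK
        rw [zpow_natCast]
        exact hPpmem y hy
      have h3 : y = (y ^ i) ^ (Int.gcdA i (p : ℤ)) * (y ^ (p : ℤ)) ^ (Int.gcdB i (p : ℤ)) := by
        rw [← zpow_mul, ← zpow_mul, ← zpow_add, ← hbez]
        simp
      rw [h3]
      exact Subgroup.mul_mem _ (Subgroup.zpow_mem _ hyi _) (Subgroup.zpow_mem _ hyp _)

theorem bg1210_nonab_compl {p : ℕ} [Fact p.Prime] {E P A₀ : Subgroup G}
    (hPE : P ≤ E) (hP : IsPGroup p P)
    (hPsyl : ∀ Q : Subgroup G, Q ≤ E → IsPGroup p Q → P ≤ Q → Q = P)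
    (hPc : ∀ x ∈ P, ∀ y ∈ P, x * y = y * x)
    (hA₀P : A₀ ≤ P) (hA₀ : Nat.card A₀ = p) (hEA₀ : E ≤ normalizer (A₀ : Set G))
    (hsq : ∀ u ∈ E, u ^ p ∈ A₀ → u ^ p = 1) (hP2 : p ^ 2 ∣ Nat.card P) :
    ∃ E₀ : Subgroup G, E₀ ≤ E ∧ E₀ ⊓ A₀ = ⊥ ∧ Monoid.exponent E₀ = Monoid.exponent E := by
  classical
  have hp : p.Prime := Fact.out
  have hA₀E : A₀ ≤ E := hA₀P.trans hPE
  obtain ⟨K, hKP, hKA, hsup⟩ := bg1210_exists_compl hPE hPc hA₀P hsq
  -- Gaschütz inside `E`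
  have hKn : (A₀.subgroupOf E).Normal :=
    (Subgroup.normal_subgroupOf_iff_le_normalizer hA₀E).mpr hEA₀
  have hKc : IsMulCommutative ↥(A₀.subgroupOf E) :=
    ⟨⟨fun a b => Subtype.ext (Subtype.ext (hPc _ (hA₀P a.2) _ (hA₀P b.2)))⟩⟩
  have hcardA : Nat.card ↥(A₀.subgroupOf E) = p := by
    rw [← hA₀]
    exact Nat.card_congr (Subgroup.subgroupOfEquivOfLe hA₀E).toEquiv
  have hcop : (Nat.card ↥(A₀.subgroupOf E)).Coprime (P.subgroupOf E).index := by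
    rw [hcardA]
    have hsyl : ¬ p ∣ (P.subgroupOf E).index := by
      let S : Sylow p ↥E :=
        { toSubgroup := P.subgroupOf E
          isPGroup' := hP.comap_subtype
          is_maximal' := by
            intro Q hQ hle
            have h1 : Q.map E.subtype = P := by
              apply hPsyl _ (Subgroup.map_subtype_le Q) (hQ.map E.subtype)
              intro x hx
              exact ⟨⟨x, hPE hx⟩, hle hx, rfl⟩
            rw [← h1]
            exact (Subgroup.comap_map_eq_self_of_injective (Subgroup.subtype_injective E) Q).symm }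
      exact S.not_dvd_index
    exact (Nat.Prime.coprime_iff_not_dvd hp).mpr hsyl
  have hAK : K.subgroupOf E ⊓ A₀.subgroupOf E = ⊥ := by
    rw [eq_bot_iff]
    rintro x ⟨hx1, hx2⟩
    have h1 : (x : G) ∈ K ⊓ A₀ := ⟨hx1, hx2⟩
    rw [hKA] at h1
    exact Subgroup.mem_bot.mpr (Subtype.ext (Subgroup.mem_bot.mp h1))
  have hKA' : A₀.subgroupOf E ⊔ K.subgroupOf E = P.subgroupOf E := by
    rw [← Subgroup.subgroupOf_sup hA₀E (hKP.trans hPE), hsup]
  obtain ⟨H, hH⟩ := Cfsg.Agent.Helper1.gaschutz_exists (A₀.subgroupOf E) (P.subgroupOf E) hcop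
    (K.subgroupOf E) hAK hKA'
  refine ⟨H.map E.subtype, Subgroup.map_subtype_le H, ?_, ?_⟩
  · rw [eq_bot_iff]
    rintro x ⟨⟨h, hh, rfl⟩, hx2⟩
    have h1 : h ∈ A₀.subgroupOf E ⊓ H := ⟨hx2, hh⟩
    rw [hH.disjoint.eq_bot] at h1
    rw [Subgroup.mem_bot.mp h1]
    exact Subgroup.mem_bot.mpr rfl
  · -- the exponent
    obtain ⟨e₀, he₀⟩ : ∃ e₀ : ℕ, e₀ = Monoid.exponent ↥(H.map E.subtype) := ⟨_, rfl⟩
    rw [← he₀]
    have hpowE₀ : ∀ h ∈ H.map E.subtype, h ^ e₀ = 1 := by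
      intro h hh
      have h1 : (⟨h, hh⟩ : ↥(H.map E.subtype)) ^ e₀ = 1 := by
        rw [he₀]
        exact Monoid.pow_exponent_eq_one _
      exact congrArg Subtype.val h1
    have hdecomp : ∀ y ∈ E, ∃ a ∈ A₀, ∃ h ∈ H.map E.subtype, y = a * h := by
      intro y hy
      obtain ⟨x, hx⟩ := hH.2 ⟨y, hy⟩
      refine ⟨((x.1 : ↥E) : G), x.1.2, ((x.2 : ↥E) : G), ⟨(x.2 : ↥E), x.2.2, rfl⟩, ?_⟩
      have h1 := congrArg Subtype.val hx
      exact h1.symm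
    have hpowA : ∀ a ∈ A₀, ∀ h ∈ E, ∀ n : ℕ, ∃ a' ∈ A₀, (a * h) ^ n = a' * h ^ n := by
      intro a ha h hh n
      induction n with
      | zero => exact ⟨1, A₀.one_mem, by simp⟩
      | succ n ih =>
        obtain ⟨a', ha', hn⟩ := ih
        refine ⟨a' * (h ^ n * a * (h ^ n)⁻¹), A₀.mul_mem ha' ?_, ?_⟩
        · exact (Subgroup.mem_normalizer_iff.mp (hEA₀ (E.pow_mem hh n)) a).mp ha
        · rw [pow_succ, hn, pow_succ]
          group
    have hyA : ∀ y ∈ E, y ^ e₀ ∈ A₀ := by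
      intro y hy
      obtain ⟨a, ha, h, hh, rfl⟩ := hdecomp y hy
      obtain ⟨a', ha', hn⟩ := hpowA a ha h (Subgroup.map_subtype_le H hh) e₀
      rw [hn, hpowE₀ h hh, mul_one]
      exact ha'
    have hpe₀ : p ∣ e₀ := by
      have hcard : Nat.card ↥(A₀.subgroupOf E) * Nat.card ↥H = Nat.card ↥E := hH.card_mul_card
      rw [hcardA] at hcard
      have h1 : p ^ 2 ∣ Nat.card ↥E := hP2.trans (Subgroup.card_dvd_of_le hPE)
      have h2 : p ∣ Nat.card ↥H := by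
        rw [← hcard, pow_two] at h1
        exact (Nat.mul_dvd_mul_iff_left hp.pos).mp h1
      obtain ⟨x, hx⟩ := exists_prime_orderOf_dvd_card' p h2
      have hxmem : ((x : ↥E) : G) ∈ H.map E.subtype := ⟨(x : ↥E), x.2, rfl⟩
      have h3 : orderOf (⟨((x : ↥E) : G), hxmem⟩ : ↥(H.map E.subtype)) = p := by
        rw [Subgroup.orderOf_mk, Subgroup.orderOf_coe, Subgroup.orderOf_coe, hx]
      rw [he₀, ← h3]
      exact Monoid.order_dvd_exponent _
    obtain ⟨m, hm⟩ := hpe₀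
    have hyone : ∀ y ∈ E, y ^ e₀ = 1 := by
      intro y hy
      have h1 : (y ^ m) ^ p ∈ A₀ := by
        rw [← pow_mul, mul_comm, ← hm]
        exact hyA y hy
      have h2 := hsq (y ^ m) (E.pow_mem hy m) h1
      rw [← pow_mul, mul_comm, ← hm] at h2
      exact h2
    apply Nat.dvd_antisymm
    · rw [he₀]
      apply Monoid.exponent_dvd_of_forall_pow_eq_one
      intro g
      have h1 : (⟨(g : G), Subgroup.map_subtype_le H g.2⟩ : ↥E) ^ Monoid.exponent ↥E = 1 :=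
        Monoid.pow_exponent_eq_one _
      have h2 : (g : G) ^ Monoid.exponent ↥E = 1 := congrArg Subtype.val h1
      exact Subtype.ext h2
    · apply Monoid.exponent_dvd_of_forall_pow_eq_one
      intro g
      exact Subtype.ext (hyone (g : G) g.2)

end Cfsg.Agent.Helper47
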