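import Mathlib
import Cfsg.Agent.S1414
import Cfsg.Agent.Helper47.BG15bTools

/-!
# CALL S1437 (BG15b), piece BETA (helper47): for `q ∉ β(M)` the normal `q`-complement of `M_σ`
(S1414) is a complement of the Sylow `q`-subgroup `Q`.
-/

set_option autoImplicit false

namespace Cfsg.Agent.Helper47

open Cfsg Subgroup

universe u

variable {G : Type u} [Group G] [Finite G]

/-- BETA. If `q ∉ β(M)` then `M_σ` has a normal `q`-complement, a complement of `Q`. -/
theorem bg15b_normal_compl (hG : IsMinSimpleOddOrder G) {M Q : Subgroup G} (hM : IsCoatom M)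
    (hQS : Q ≤ sigmaCore M) {q : ℕ} (hq : q.Prime) (hQq : IsPGroup q Q)
    (hQi : ¬ q ∣ Q.relIndex (sigmaCore M)) (hqM : q ∣ Nat.card M) (hβ : q ∉ beta M) :
    ∃ D' : Subgroup G, IsComplIn Q D' (sigmaCore M) ∧
      sigmaCore M ≤ normalizer (D' : Set G) := by
  obtain ⟨P, N, hNn, hNP⟩ := ((Cfsg.Agent.S1414.result hG M hM).2.2.2.2 q hq hqM hβ).2.1
  have hqF : Fact q.Prime := ⟨hq⟩
  have hcm : Nat.card N * Nat.card (P : Subgroup ↥(sigmaCore M)) = Nat.card ↥(sigmaCore M) :=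
    hNP.card_mul_card
  obtain ⟨k, hk⟩ : ∃ k, k = (Nat.card ↥(sigmaCore M)).factorization q := ⟨_, rfl⟩
  have hP : Nat.card (P : Subgroup ↥(sigmaCore M)) = q ^ k := by
    rw [hk]
    exact P.card_eq_multiplicity
  have hD : Nat.card (N.map (sigmaCore M).subtype) = Nat.card N :=
    Subgroup.card_map_of_injective (sigmaCore M).subtype_injective
  have hDS : N.map (sigmaCore M).subtype ≤ sigmaCore M := Subgroup.map_subtype_le _
  have hrel : Nat.card (N.map (sigmaCore M).subtype) *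
      (N.map (sigmaCore M).subtype).relIndex (sigmaCore M) = Nat.card (sigmaCore M) :=
    Cfsg.Agent.Helper35.card_mul_relIndex_of_le hDS
  have hN0 : 0 < Nat.card N := Nat.card_pos
  have hrelP : (N.map (sigmaCore M).subtype).relIndex (sigmaCore M) = q ^ k := by
    rw [hD, ← hcm, hP] at hrel
    exact Nat.eq_of_mul_eq_mul_left hN0 hrel
  refine ⟨N.map (sigmaCore M).subtype, bg15b_complIn_of_hall hq hQS hDS hQq hQi ?_ ?_, ?_⟩
  · rw [hD]
    intro hdvd
    have h1 : q ^ (k + 1) ∣ Nat.card ↥(sigmaCore M) := by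
      rw [← hcm, hP, pow_succ, mul_comm (Nat.card N)]
      exact Nat.mul_dvd_mul_left _ hdvd
    rw [hk] at h1
    exact Nat.pow_succ_factorization_not_dvd Nat.card_pos.ne' hq h1
  · intro p hp hdvd
    rw [hrelP] at hdvd
    exact (Nat.prime_dvd_prime_iff_eq hp hq).mp (hp.dvd_of_dvd_pow hdvd)
  · apply bg15b_norm_of_conj
    intro s hs d hd
    obtain ⟨n, hn, rfl⟩ := Subgroup.mem_map.mp hd
    exact Subgroup.mem_map.mpr ⟨⟨s, hs⟩ * n * ⟨s, hs⟩⁻¹, hNn.conj_mem n hn ⟨s, hs⟩, rfl⟩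

end Cfsg.Agent.Helper47
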