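import Cfsg.Agent.Helper1.C9Defs
import Cfsg.Agent.S1375
import Cfsg.Agent.S1420
import Cfsg.Agent.S1403
import Cfsg.Agent.Helper54.BG14T
import Cfsg.Agent.Helper54.BG65TAU2A
import Cfsg.Agent.Helper47.BG14RK
import Cfsg.Agent.Helper51.Replace
import Cfsg.Agent.Helper20.BG13P4

/-!
# CALL C9 (helper1, S1376), piece RSY (helper47): a non-cyclic Sylow `r`-subgroup `R` of `U` with
`N_G(R) ≤ M`.

Route: `Helper54.bg14t_core` + uniqueness in S1375 give a prime `p ∈ σ(M) ∩ τ₂(N)`;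
`Helper54.bg65_tau2_A` (for `N`, `E := M ⊓ N`) gives an elementary abelian `A ≤ M ⊓ N = U ⊔ K` of
order `p²`; as `p ∤ |K|` (`κ(N)` has rank one) and `U` is normal of index `|K|` in `U K`, `A ≤ U`;
a Sylow `p`-subgroup `R` of `U` over `A` is not cyclic, and S1420 clause 3 gives `N_G(R) ≤ M`.
-/

set_option autoImplicit false

namespace Cfsg.Agent.Helper47

open Cfsg Subgroup

universe u

variable {G : Type u} [Group G] [Finite G]

theorem c9_R (hG : IsMinSimpleOddOrder G) {M N K U : Subgroup G} (hM : IsCoatom M)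
    (hN : IsCoatom N) {x : G} (hx : x ∈ sigmaCore M) (hx1 : x ≠ 1)
    (hxM : ¬ centralizer ({x} : Set G) ≤ M) (hxN : centralizer ({x} : Set G) ≤ N)
    (hKU : IsSigmaDecomposition N K U) (hK1 : K ≠ ⊥) (hUK : U ⊔ K = M ⊓ N) :
    ∃ (r : ℕ) (_ : Fact r.Prime) (R : Sylow r U), r ∣ Nat.card U ∧
      normalizer ((((R : Subgroup U).map U.subtype : Subgroup G)) : Set G) ≤ M := by
  have hBU : Cfsg.Agent.Helper22.BGUniq G :=
    fun K hK h1 h2 => Cfsg.Agent.S1403.result hG K hK h1 h2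
  obtain ⟨L, p, Y, hL, -, -, hpσM, hpτ, -, -, -, -, hCL, -⟩ :=
    Cfsg.Agent.Helper54.bg14t_core hG hM hx hx1 hxM
  obtain ⟨N', ⟨hN', hxN'⟩, huniq, -, -, -, hEN', -⟩ :=
    Cfsg.Agent.S1375.result hG M hM x hx hx1 hxM
  have e1 : L = N' := huniq L hL hCL
  have e2 : N = N' := huniq N hN hxN
  rw [← e2] at e1 hEN'
  rw [e1] at hpτ
  have hp : p.Prime := hpτ.1
  have hpF : Fact p.Prime := ⟨hp⟩
  obtain ⟨A, hAE, hAcard, -, hAc, hAe, -, -⟩ := Cfsg.Agent.Helper54.bg65_tau2_A hG hN hEN' hpτ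
  -- `p ∤ |K|`
  have hpK : ¬ p ∣ Nat.card K := by
    intro hd
    exact hpτ.2.2.2 (Cfsg.Agent.Helper47.bg14_rank_of_kappa (hKU.hall.2.1 p hp hd))
  -- `K ⊓ U = ⊥`
  have hKUbot : K ⊓ U = ⊥ := by
    have h1 := hKU.compl.2.2.1
    rw [eq_bot_iff]
    intro y hy
    rw [← h1]
    exact ⟨hy.2, Subgroup.mem_sup_left hy.1⟩
  have hcard := Cfsg.Agent.Helper51.card_sup_mul_card_inf_of_le_normalizer K U hKU.normal
  rw [hKUbot, Subgroup.card_bot, mul_one] at hcard
  have hnorm : (U.subgroupOf (K ⊔ U)).Normal :=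
    Subgroup.normal_subgroupOf_sup_of_le_normalizer hKU.normal
  have hidx : (U.subgroupOf (K ⊔ U)).index = Nat.card K := by
    have h1 : U.relIndex (K ⊔ U) * Nat.card U = Nat.card ↥(K ⊔ U) := by
      have h2 := Subgroup.relIndex_mul_relIndex ⊥ U (K ⊔ U) bot_le le_sup_right
      rw [Subgroup.relIndex_bot_left, Subgroup.relIndex_bot_left] at h2
      rw [mul_comm]
      exact h2
    rw [hcard] at h1
    exact Nat.eq_of_mul_eq_mul_right Nat.card_pos h1
  -- `A ≤ U`
  have hAU : A ≤ U := by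
    intro a ha
    have haE : a ∈ K ⊔ U := by
      rw [sup_comm, hUK]
      exact hAE ha
    have h1 : (⟨a, haE⟩ : ↥(K ⊔ U)) ^ (U.subgroupOf (K ⊔ U)).index ∈ U.subgroupOf (K ⊔ U) :=
      Subgroup.pow_index_mem _ _
    rw [hidx] at h1
    have h2 : a ^ Nat.card K ∈ U := by
      have h2' := Subgroup.mem_subgroupOf.mp h1
      simpa using h2'
    have hcop : (Nat.card K).Coprime p := ((Nat.Prime.coprime_iff_not_dvd hp).mpr hpK).symm
    obtain ⟨m, -, hm⟩ := Nat.exists_mul_mod_eq_one_of_coprime hcop hp.one_lt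
    have h3 : a ^ (Nat.card K * m) = a := by
      rw [← Nat.div_add_mod (Nat.card K * m) p, hm, pow_add, pow_mul, hAe a ha, one_pow, one_mul,
        pow_one]
    rw [← h3, pow_mul]
    exact Subgroup.pow_mem _ h2 m
  have hAp : IsPGroup p A := IsPGroup.of_card (n := 2) hAcard
  obtain ⟨R, hR⟩ := (hAp.comap_subtype (K := U)).exists_le_sylow
  refine ⟨p, hpF, R, ?_, ?_⟩
  · have h1 : Nat.card A ∣ Nat.card U := Subgroup.card_dvd_of_le hAU
    rw [hAcard] at h1
    exact (dvd_pow_self p two_ne_zero).trans h1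
  · obtain ⟨E, hE, -⟩ := Cfsg.Agent.Helper20.bg13_exists_compl_ge hG hBU hM (K := ⊥) bot_le
      (by rw [Subgroup.card_bot]; exact Nat.coprime_one_left _)
    have h3 := (Cfsg.Agent.S1420.result hG M hM E hE).2.2.1
    apply h3 p _ hpσM (R.isPGroup'.map _)
    · intro y hy
      obtain ⟨y', -, rfl⟩ := hy
      have h4 : (y' : G) ∈ U ⊔ K := Subgroup.mem_sup_left y'.2
      rw [hUK] at h4
      exact h4.1
    · intro hcyc
      have hAR : A ≤ (R : Subgroup U).map U.subtype := by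
        intro a ha
        exact ⟨⟨a, hAU ha⟩, hR (Subgroup.mem_subgroupOf.mpr ha), rfl⟩
      have hcycA : IsCyclic ↥A :=
        isCyclic_of_surjective (Subgroup.subgroupOfEquivOfLe hAR).toMonoidHom
          (Subgroup.subgroupOfEquivOfLe hAR).surjective
      obtain ⟨g, hg⟩ := IsCyclic.exists_generator (α := ↥A)
      have h5 : orderOf g = Nat.card A := orderOf_eq_card_of_forall_mem_zpowers hg
      have h6 : orderOf g ∣ p := by
        apply orderOf_dvd_of_pow_eq_one
        apply Subtype.ext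
        have := hAe g g.2
        simpa using this
      rw [h5, hAcard] at h6
      have h7 := Nat.le_of_dvd hp.pos h6
      have h8 := hp.two_le
      nlinarith

end Cfsg.Agent.Helper47
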