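import Cfsg.Agent.Helper1.C9Defs
import Cfsg.Agent.S1364
import Cfsg.Agent.S1372
import Cfsg.Agent.S1418
import Cfsg.Agent.S1431
import Cfsg.Agent.Helper19.ThompsonThesis

/-!
# CALL C9 (helper1, S1376), piece TF (helper47): the case `L_σ` nilpotent.
-/

set_option autoImplicit false

namespace Cfsg.Agent.Helper47

open Cfsg Subgroup
open Cfsg.Agent.Helper1 (C9)

universe u

variable {G : Type u} [Group G] [Finite G]

/-- Common core of TE / TF: a Sylow `|K|`-subgroup of `L_σ` inside `M` forces `M = L`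
(S1431 clause 3 for `L`). -/
theorem c9_sylow_in_M47 (hG : IsMinSimpleOddOrder G) {M N K U L : Subgroup G} {x : G}
    (h : C9 M N K U L x) (hML : M ≠ L)
    (S : Sylow (Nat.card K) ↥(sigmaCore L))
    (hS : (S : Subgroup ↥(sigmaCore L)).map (sigmaCore L).subtype ≤ M) : False := by
  have hKp : (Nat.card K).Prime := (Cfsg.Agent.S1372.result hG N h.hN K U h.hKU h.hK1 h.hU1).1
  have hKL1 : sigmaCore N ⊓ centralizer (K : Set G) ≠ ⊥ :=
    (Cfsg.Agent.S1364.result hG N h.hN K U h.hKU h.hK1).2.1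
  have h3 := (Cfsg.Agent.S1431.result hG L h.hL _ h.hKstH hKL1).2.2.1
  have hKeq : sigmaCore L ⊓ centralizer
      ((sigmaCore N ⊓ centralizer (K : Set G) : Subgroup G) : Set G) = K := h.hKst.symm
  have hdvd : Nat.card K ∣ Nat.card ↥(sigmaCore L ⊓ centralizer
      ((sigmaCore N ⊓ centralizer (K : Set G) : Subgroup G) : Set G)) := by rw [hKeq]
  obtain ⟨hU, hSL, -⟩ := h3 (Nat.card K) hKp hdvd S
  obtain ⟨M', -, hM'⟩ := hU
  have e1 := hM' M ⟨h.hM, hS⟩
  have e2 := hM' L ⟨h.hL, hSL⟩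
  exact hML (e1.trans e2.symm)

theorem c9_nilcase (hG : IsMinSimpleOddOrder G) {M N K U L : Subgroup G} {x : G}
    (h : C9 M N K U L x) (hML : M ≠ L) {r : ℕ} (hr : r ∈ tau2 M) (hrk : r ≠ Nat.card K)
    {A : Subgroup G} (hA : A ≤ M ⊓ L ∧ IsElementaryAbelian r A ∧ Nat.card A = r ^ 2)
    (hAL : A ≤ sigmaCore L) (hnil : Group.IsNilpotent ↥(sigmaCore L)) : False := by
  have hKp : (Nat.card K).Prime := (Cfsg.Agent.S1372.result hG N h.hN K U h.hKU h.hK1 h.hU1).1
  have hrp : r.Prime := hr.1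
  have := Fact.mk hrp
  have := Fact.mk hKp
  have hCA : centralizer (A : Set G) ≤ M :=
    ((Cfsg.Agent.S1418.result hG M h.hM (M ⊓ L) h.hE r hr A hA).2.1.1).trans inf_le_left
  obtain ⟨S⟩ : Nonempty (Sylow (Nat.card K) ↥(sigmaCore L)) := inferInstance
  apply c9_sylow_in_M47 hG h hML S
  intro s hs
  obtain ⟨s', hs', rfl⟩ := hs
  apply hCA
  refine Subgroup.mem_centralizer_iff.mpr ?_
  intro a ha
  obtain ⟨j, hj⟩ := S.isPGroup' ⟨s', hs'⟩
  have hs1 : s' ^ (Nat.card K) ^ j = 1 := by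
    have := congrArg Subtype.val hj
    simpa using this
  have ha1 : (⟨a, hAL ha⟩ : ↥(sigmaCore L)) ^ (r ^ 2) = 1 := by
    apply Subtype.ext
    have h1 := pow_card_eq_one' (G := ↥A) (x := ⟨a, ha⟩)
    rw [hA.2.2] at h1
    have h2 := congrArg Subtype.val h1
    simpa using h2
  have hcop : (r ^ 2).Coprime (Nat.card K ^ j) :=
    Nat.Coprime.pow _ _ ((Nat.coprime_primes hrp hKp).mpr hrk)
  have h4 := Cfsg.Agent.Helper19.commute_of_coprime_of_nilpotent ↥(sigmaCore L)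
    ⟨a, hAL ha⟩ s' (r ^ 2) (Nat.card K ^ j) hcop ha1 hs1
  exact congrArg Subtype.val h4

end Cfsg.Agent.Helper47
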