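import Cfsg.Agent.Helper1.C9Defs
import Cfsg.Agent.S1364
import Cfsg.Agent.S1372
import Cfsg.Agent.S1418
import Cfsg.Agent.S1431
import Cfsg.Agent.Helper20.BG65SUBS
import Cfsg.Agent.Helper47.C9TF

/-!
# CALL C9 (helper1, S1376), piece TE (helper47): `|K| ∉ τ₂(M)` when the `|K|`-subgroups are abelian.
-/

set_option autoImplicit false

namespace Cfsg.Agent.Helper47

open Cfsg Subgroup
open Cfsg.Agent.Helper1 (C9)

universe u

variable {G : Type u} [Group G] [Finite G]

theorem c9_kA (hG : IsMinSimpleOddOrder G) {M N K U L : Subgroup G} {x : G}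
    (h : C9 M N K U L x) (hML : M ≠ L) (hk : Nat.card K ∈ tau2 M) {A : Subgroup G}
    (hA : A ≤ M ⊓ L ∧ IsElementaryAbelian (Nat.card K) A ∧ Nat.card A = Nat.card K ^ 2)
    (hab : ∀ P : Subgroup G, IsPGroup (Nat.card K) P → ∀ a ∈ P, ∀ b ∈ P, a * b = b * a) :
    False := by
  have hKp : (Nat.card K).Prime := hk.1
  have := Fact.mk hKp
  have hCA : centralizer (A : Set G) ≤ M :=
    ((Cfsg.Agent.S1418.result hG M h.hM (M ⊓ L) h.hE (Nat.card K) hk A hA).2.1.1).trans
      inf_le_left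
  have hKσL : K ≤ sigmaCore L := h.hKst.le.trans inf_le_left
  have hkσ : Nat.card K ∈ sigma L :=
    Cfsg.Agent.Helper23.mem_of_dvd_card_piCoreOf (sigma L) L hKp (Subgroup.card_dvd_of_le hKσL)
  have hAL : A ≤ sigmaCore L := by
    refine Cfsg.Agent.Helper20.bg65_le_sigmaCore hG h.hL (hA.1.trans inf_le_right) ?_
    intro s hs hsd
    rw [hA.2.2] at hsd
    rw [(Nat.prime_dvd_prime_iff_eq hs hKp).mp (hs.dvd_of_dvd_pow hsd)]
    exact hkσ
  have hAp : IsPGroup (Nat.card K) A := IsPGroup.of_card (n := 2) hA.2.2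
  obtain ⟨S, hS⟩ := (hAp.comap_subtype (K := sigmaCore L)).exists_le_sylow
  apply c9_sylow_in_M47 hG h hML S
  have hS'p : IsPGroup (Nat.card K)
      ((S : Subgroup ↥(sigmaCore L)).map (sigmaCore L).subtype) := S.isPGroup'.map _
  have hAS : A ≤ (S : Subgroup ↥(sigmaCore L)).map (sigmaCore L).subtype := by
    intro a ha
    exact ⟨⟨a, hAL ha⟩, hS (show (⟨a, hAL ha⟩ : ↥(sigmaCore L)) ∈ A.subgroupOf (sigmaCore L) from
      Subgroup.mem_subgroupOf.mpr ha), rfl⟩
  intro s hs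
  apply hCA
  refine Subgroup.mem_centralizer_iff.mpr ?_
  intro a ha
  exact hab _ hS'p a (hAS ha) s hs

end Cfsg.Agent.Helper47
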