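import Cfsg.Agent.Helper23.BG65Defs
import Cfsg.Agent.Helper22.BG10b
import Cfsg.Agent.Helper23.FittingHall
import Cfsg.Agent.Helper23.Trans
import Cfsg.Agent.Helper35.HallCoprime
import Cfsg.Agent.S1403

/-!
# CALL S1435 (BG65), piece ECOP (helper47): a complement of `H_σ` in `H` is a `σ(H)'`-group.
-/

set_option autoImplicit false

namespace Cfsg.Agent.Helper47

open Cfsg Subgroup

open scoped commutatorElement

universe u

variable {G : Type u} [Group G] [Finite G] {M K U Mstar H : Subgroup G}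

/-- ECOP. A complement `E` of `H_σ` in `H` is a `σ(H)'`-group. -/
theorem bg65_E_coprime (hG : IsMinSimpleOddOrder G) {H E : Subgroup G} (hH : IsCoatom H)
    (hE : IsComplIn E (sigmaCore H) H) :
    (∀ Q : Subgroup G, Q ≤ E → (Nat.card (sigmaCore H)).Coprime (Nat.card Q)) ∧
      ∀ x ∈ E, ∀ q : ℕ, q.Prime → q ∣ orderOf x → q ∉ sigma H := by
  have hU : Cfsg.Agent.Helper22.BGUniq G :=
    fun K hK h1 h2 => Cfsg.Agent.S1403.result hG K hK h1 h2
  obtain ⟨⟨hle, hpi, hidx⟩, -, -⟩ := Cfsg.Agent.Helper22.bg10_sigma_hall hG hU hH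
  have hcard : Nat.card H = Nat.card E * Nat.card (sigmaCore H) :=
    Cfsg.Agent.Helper23.card_of_isComplIn E (sigmaCore H) H hE
  have hrel : Nat.card (sigmaCore H) * (sigmaCore H).relIndex H = Nat.card H :=
    Cfsg.Agent.Helper35.card_mul_relIndex_of_le hle
  have hrelE : (sigmaCore H).relIndex H = Nat.card E := by
    have h1 : Nat.card (sigmaCore H) * (sigmaCore H).relIndex H =
        Nat.card (sigmaCore H) * Nat.card E := by rw [hrel, hcard, mul_comm]
    exact Nat.eq_of_mul_eq_mul_left Nat.card_pos h1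
  have hnot : ∀ q : ℕ, q.Prime → q ∈ sigma H → ¬ q ∣ Nat.card E := by
    intro q hq hqs
    rw [← hrelE]
    exact hidx q hq hqs
  constructor
  · intro Q hQ
    apply Nat.coprime_of_dvd
    intro q hq h1 h2
    exact hnot q hq (hpi q hq h1) (h2.trans (Subgroup.card_dvd_of_le hQ))
  · intro x hx q hq hqx hqs
    apply hnot q hq hqs
    have h1 : orderOf x ∣ Nat.card E := by
      have h2 := orderOf_dvd_natCard (⟨x, hx⟩ : E)
      rwa [Subgroup.orderOf_mk] at h2
    exact hqx.trans h1

end Cfsg.Agent.Helper47
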