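import Cfsg.Agent.Helper23.BG65Defs
import Cfsg.Agent.Helper23.Trans
import Cfsg.Agent.S1378

/-!
# CALL S1435 (BG65), piece MSINT (helper47): `M* ∩ H_σ = 1`.
-/

set_option autoImplicit false

namespace Cfsg.Agent.Helper47

open Cfsg Subgroup

open scoped commutatorElement

universe u

variable {G : Type u} [Group G] [Finite G] {M K U Mstar H : Subgroup G}

/-- MSINT. `M* ∩ H_σ = 1`. -/
theorem bg65_Ms_inter (c : Cfsg.Agent.Helper23.BG65Ctx M K U Mstar)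
    (h : Cfsg.Agent.Helper23.BG65H M K U Mstar H) :
    Mstar ⊓ sigmaCore H = ⊥ := by
  have hG := c.hG
  -- `σ(M*) ∩ σ(H) = ∅`
  have hdisj : ∀ q : ℕ, q ∈ sigma Mstar → q ∈ sigma H → False := by
    intro q h1 h2
    obtain ⟨g, hg⟩ := (Cfsg.Agent.S1378.result hG).2 Mstar H c.hMstar h.hH ⟨q, h1, h2⟩
    exact h.hnMs g hg
  have hT : sigmaCore Mstar ⊓ sigmaCore H = ⊥ := by
    rw [← Subgroup.card_eq_one]
    by_contra h1
    obtain ⟨q, hq, hqT⟩ := Nat.exists_prime_and_dvd h1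
    exact hdisj q
      (Cfsg.Agent.Helper23.mem_of_dvd_card_piCoreOf (sigma Mstar) Mstar hq
        (hqT.trans (Subgroup.card_dvd_of_le inf_le_left)))
      (Cfsg.Agent.Helper23.mem_of_dvd_card_piCoreOf (sigma H) H hq
        (hqT.trans (Subgroup.card_dvd_of_le inf_le_right)))
  obtain ⟨k, hk, hk1⟩ : ∃ k ∈ K, k ≠ 1 := by
    by_contra hno
    apply c.hK1
    rw [Subgroup.eq_bot_iff_forall]
    intro x hx
    by_contra hx1
    exact hno ⟨x, hx, hx1⟩
  have hkσ : k ∈ sigmaCore Mstar := by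
    have h1 : k ∈ sigmaCore Mstar ⊓
        centralizer ((sigmaCore M ⊓ centralizer (K : Set G) : Subgroup G) : Set G) := by
      rw [← c.hKst]
      exact hk
    exact h1.1
  have hMn : Mstar ≤ normalizer ((sigmaCore Mstar : Subgroup G) : Set G) :=
    Cfsg.Agent.Helper23.le_normalizer_piCoreOf (sigma Mstar) Mstar
  have hHn : H ≤ normalizer ((sigmaCore H : Subgroup G) : Set G) :=
    Cfsg.Agent.Helper23.le_normalizer_piCoreOf (sigma H) H
  rw [eq_bot_iff]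
  intro d hd
  have hd1 : d * k * d⁻¹ ∈ sigmaCore Mstar :=
    (Subgroup.mem_normalizer_iff.mp (hMn hd.1) k).mp hkσ
  have hd2 : k * d⁻¹ * k⁻¹ ∈ sigmaCore H :=
    (Subgroup.mem_normalizer_iff.mp (hHn (h.hKH hk)) d⁻¹).mp ((sigmaCore H).inv_mem hd.2)
  have hc1 : d * k * d⁻¹ * k⁻¹ ∈ sigmaCore Mstar :=
    (sigmaCore Mstar).mul_mem hd1 ((sigmaCore Mstar).inv_mem hkσ)
  have hc2 : d * k * d⁻¹ * k⁻¹ ∈ sigmaCore H := by
    have h3 : d * k * d⁻¹ * k⁻¹ = d * (k * d⁻¹ * k⁻¹) := by group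
    rw [h3]
    exact (sigmaCore H).mul_mem hd.2 hd2
  have hc : d * k * d⁻¹ * k⁻¹ ∈ sigmaCore Mstar ⊓ sigmaCore H := ⟨hc1, hc2⟩
  rw [hT, Subgroup.mem_bot] at hc
  have hcomm : k * d = d * k := by
    have h4 : d * k = (d * k * d⁻¹ * k⁻¹) * (k * d) := by group
    rw [h4, hc, one_mul]
  rw [Subgroup.mem_bot]
  exact h.hfpf k hk hk1 d hd.2 hcomm

end Cfsg.Agent.Helper47
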