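import Cfsg.Agent.Helper23.BG65Defs
import Cfsg.Agent.Helper23.Trans
import Cfsg.Agent.Helper55.BGFpf

/-!
# CALL S1435 (BG65), piece WCENT (helper47): `H_σ` centralizes `[Q, K]`.
-/

set_option autoImplicit false

namespace Cfsg.Agent.Helper47

open Cfsg Subgroup

open scoped commutatorElement

universe u

variable {G : Type u} [Group G] [Finite G] {M K U Mstar H : Subgroup G}

/-- WCENT. `H_σ` centralizes `[Q, K]` for a `p'`-subgroup `Q ≤ H` of order prime to `|H_σ|`
normalized by `K`. -/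
theorem bg65_W_cent (h : Cfsg.Agent.Helper23.BG65H M K U Mstar H) {Q : Subgroup G} (hQH : Q ≤ H)
    (hKQ : K ≤ normalizer (Q : Set G)) (hpQ : ¬ Nat.card K ∣ Nat.card Q)
    (hcop : (Nat.card (sigmaCore H)).Coprime (Nat.card Q)) :
    sigmaCore H ≤ centralizer ((⁅Q, K⁆ : Subgroup G) : Set G) := by
  have hodd : Odd (Nat.card G) := h.hG.1
  have hHn : H ≤ normalizer ((sigmaCore H : Subgroup G) : Set G) :=
    Cfsg.Agent.Helper23.le_normalizer_piCoreOf (sigma H) H
  have hpN : ¬ Nat.card K ∣ Nat.card (sigmaCore H) := fun hdvd =>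
    h.hpσ (Cfsg.Agent.Helper23.mem_of_dvd_card_piCoreOf (sigma H) H h.hKp hdvd)
  have hgen : ∀ q ∈ Q, ∀ k ∈ K, ⁅q, k⁆ ∈ centralizer ((sigmaCore H : Subgroup G) : Set G) := by
    intro q hq k hk
    by_cases hk1 : k = 1
    · rw [hk1, commutatorElement_one_right]
      exact Subgroup.one_mem _
    · have hkp : k ^ Nat.card K = 1 := by
        have h1 : (⟨k, hk⟩ : K) ^ Nat.card K = 1 := pow_card_eq_one'
        exact congrArg Subtype.val h1
      have h2 := Cfsg.Agent.Helper55.bg_fpf_comm_centralizes hodd h.hKp (sigmaCore H) Q k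
        h.hnil (hQH.trans hHn) (hHn (h.hKH hk)) (hKQ hk) hkp hpN hpQ hcop
        (fun a ha hka => h.hfpf k hk hk1 a ha hka) q hq
      have h3 : k * q * k⁻¹ * q⁻¹ ∈ centralizer ((sigmaCore H : Subgroup G) : Set G) :=
        Subgroup.mem_centralizer_iff.mpr (fun a ha => (h2 a ha).symm)
      have h4 : ⁅q, k⁆ = (k * q * k⁻¹ * q⁻¹)⁻¹ := by
        rw [commutatorElement_def]
        group
      rw [h4]
      exact Subgroup.inv_mem _ h3
  have hle : ⁅Q, K⁆ ≤ centralizer ((sigmaCore H : Subgroup G) : Set G) :=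
    Subgroup.commutator_le.mpr hgen
  intro a ha
  refine Subgroup.mem_centralizer_iff.mpr (fun w hw => ?_)
  exact (Subgroup.mem_centralizer_iff.mp (hle hw) a ha).symm

end Cfsg.Agent.Helper47
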