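import Cfsg.Agent.Helper47.FrakM

set_option autoImplicit false

namespace Cfsg.Agent.Helper47

open scoped commutatorElement Pointwise

local notation "cj(" g "," Q ")" => Subgroup.map (MulEquiv.toMonoidHom (MulAut.conj g)) Q

section frakh

variable {G : Type*} [Group G] [Finite G] {p : ℕ} [Fact p.Prime]

theorem cj_pCoreOf_le (g : G) (L : Subgroup G) :
    cj(g, Cfsg.pCoreOf p L) ≤ Cfsg.pCoreOf p (cj(g, L)) := by
  refine le_pCoreOf (cj_mono (pCoreOf_le p L)) (isPGroup_cj (pCoreOf_isPGroup L) g) ?_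
  rw [normalizer_cj]
  exact cj_mono (le_normalizer_pCoreOf L)

theorem pCoreOf_cj (g : G) (L : Subgroup G) :
    Cfsg.pCoreOf p (cj(g, L)) = cj(g, Cfsg.pCoreOf p L) := by
  apply le_antisymm _ (cj_pCoreOf_le g L)
  have h := cj_pCoreOf_le (p := p) g⁻¹ (cj(g, L))
  rw [cj_cj, inv_mul_cancel, cj_one] at h
  rw [le_cj_iff]
  exact h

/-- the ambient form of characteristic `p` is invariant under conjugation -/
theorem charP_cj {L : Subgroup G}
    (h : L ⊓ Subgroup.centralizer (Cfsg.pCoreOf p L : Set G) ≤ Cfsg.pCoreOf p L) (g : G) :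
    cj(g, L) ⊓ Subgroup.centralizer (Cfsg.pCoreOf p (cj(g, L)) : Set G) ≤
      Cfsg.pCoreOf p (cj(g, L)) := by
  rw [pCoreOf_cj, centralizer_cj, ← cj_inf]
  exact cj_mono h

/-- in a group `H` of characteristic `p` containing a weakly closed `p`-subgroup `O` with
`C_H(O) ≤ O`, every subgroup between `O` and `H` has characteristic `p` -/
theorem wc_charP_between {O H P : Subgroup G} (hOp : IsPGroup p ↥O)
    (hwc : Cfsg.IsWeaklyClosedSubgroup p O) (hCO : H ⊓ Subgroup.centralizer (O : Set G) ≤ O)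
    (hH : H ⊓ Subgroup.centralizer (Cfsg.pCoreOf p H : Set G) ≤ Cfsg.pCoreOf p H)
    (hOP : O ≤ P) (hPH : P ≤ H) :
    P ⊓ Subgroup.centralizer (Cfsg.pCoreOf p P : Set G) ≤ Cfsg.pCoreOf p P := by
  obtain ⟨-, -, h3⟩ := wc_charP_core hOp hwc (X := H) (V := Cfsg.pCoreOf p H) (L := P) hOP hPH hCO
    (pCoreOf_isPGroup H) (le_normalizer_pCoreOf H) hH
  exact le_pCoreOf inf_le_left (h3.to_le (inf_le_inf_right _ hPH))
    (le_normalizer_inf_centralizer_pCoreOf P)

end frakh

end Cfsg.Agent.Helper47
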