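import Cfsg.Agent.Helper23.FittingHall
import Cfsg.Agent.Helper23.Trans
import Cfsg.Agent.Helper51.Replace
import Cfsg.Agent.Helper35.HallCoprime
import Cfsg.Agent.Helper47.BG15bTools
import Cfsg.Agent.S1365

/-!
# CALL BG17 (S1381), piece WC (helper47): `K` is a complement of `M' = U M_σ` in `M`.
-/

set_option autoImplicit false

namespace Cfsg.Agent.Helper47

open Cfsg Subgroup

universe u

variable {G : Type u} [Group G] [Finite G]

/-- Orders in the standard factorisation: `|U M_σ| = |U| |M_σ|`, `|M| = |U M_σ| |K|`. -/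
theorem bg17_wc_cards {M K U : Subgroup G} (hKU : IsSigmaDecomposition M K U) :
    Nat.card ↥(U ⊔ sigmaCore M) = Nat.card U * Nat.card (sigmaCore M) ∧
      Nat.card M = Nat.card ↥(U ⊔ sigmaCore M) * Nat.card K := by
  have hUM : U ≤ M := hKU.compl.1
  have hKM : K ≤ M := hKU.hall.1
  have hSn : M ≤ normalizer ((sigmaCore M : Subgroup G) : Set G) :=
    Cfsg.Agent.Helper23.le_normalizer_piCoreOf (sigma M) M
  -- `K ⊓ M_σ = ⊥`
  have hKS : K ⊓ sigmaCore M = ⊥ := by
    rw [← Subgroup.card_eq_one]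
    by_contra h1
    obtain ⟨p, hp, hpd⟩ := Nat.exists_prime_and_dvd h1
    have hk := hKU.hall.2.1 p hp (hpd.trans (Subgroup.card_dvd_of_le inf_le_left))
    have hs : p ∈ sigma M := Cfsg.Agent.Helper23.mem_of_dvd_card_piCoreOf (sigma M) M hp
      (hpd.trans (Subgroup.card_dvd_of_le inf_le_right))
    exact hk.2.2.1 hs
  have hUS : U ⊓ sigmaCore M = ⊥ := by
    rw [eq_bot_iff, ← hKU.compl.2.2.1]
    exact inf_le_inf_left U le_sup_right
  have h1 := Cfsg.Agent.Helper51.card_sup_mul_card_inf_of_le_normalizer K (sigmaCore M)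
    (hKM.trans hSn)
  have h2 := Cfsg.Agent.Helper51.card_sup_mul_card_inf_of_le_normalizer U (sigmaCore M)
    (hUM.trans hSn)
  rw [hKS, Subgroup.card_bot, mul_one] at h1
  rw [hUS, Subgroup.card_bot, mul_one] at h2
  have h3 := Cfsg.Agent.Helper23.card_of_isComplIn U (K ⊔ sigmaCore M) M hKU.compl
  refine ⟨h2, ?_⟩
  rw [h3, h1, h2]
  ring

/-- WC. `K` is a complement of `M' = U M_σ` (S1365) in `M`. -/
theorem bg17_W1_compl (hG : IsMinSimpleOddOrder G) {M K U : Subgroup G} (hM : IsCoatom M)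
    (hKU : IsSigmaDecomposition M K U) (hK1 : K ≠ ⊥) : IsComplIn ⁅M, M⁆ K M := by
  have hder : ⁅M, M⁆ = U ⊔ sigmaCore M := (Cfsg.Agent.S1365.result hG M hM K U hKU hK1).1
  have hUM : U ≤ M := hKU.compl.1
  have hKM : K ≤ M := hKU.hall.1
  have hSM : sigmaCore M ≤ M := Subgroup.map_subtype_le _
  obtain ⟨-, hcard⟩ := bg17_wc_cards hKU
  rw [hder]
  have hrel : K.relIndex M = Nat.card ↥(U ⊔ sigmaCore M) := by
    have h1 := Cfsg.Agent.Helper35.card_mul_relIndex_of_le hKM
    rw [hcard, mul_comm] at h1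
    exact Nat.eq_of_mul_eq_mul_right Nat.card_pos h1
  have hinf : (U ⊔ sigmaCore M) ⊓ K = ⊥ := by
    rw [← Subgroup.card_eq_one]
    by_contra h1
    obtain ⟨p, hp, hpd⟩ := Nat.exists_prime_and_dvd h1
    have hk := hKU.hall.2.1 p hp (hpd.trans (Subgroup.card_dvd_of_le inf_le_right))
    apply hKU.hall.2.2 p hp hk
    rw [hrel]
    exact hpd.trans (Subgroup.card_dvd_of_le inf_le_left)
  exact bg15b_complIn_of_card (sup_le hUM hSM) hKM hinf hcard.le

end Cfsg.Agent.Helper47
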