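import Mathlib
import Cfsg.Agent.S1375
import Cfsg.Agent.Helper54.BG14T4
import Cfsg.Agent.Helper47.Syl

/-!
# CALL BG36 (helper2, row S1436), piece KE3 (helper47, double): transport of S1375 along a
conjugation.
-/

set_option autoImplicit false

namespace Cfsg.Agent.Helper47

open Cfsg Subgroup

universe u

variable {G : Type u} [Group G] [Finite G]

theorem bg36_conj_setup (hG : IsMinSimpleOddOrder G) {M N Ms : Subgroup G} (hM : IsCoatom M)
    {x g : G} (hx : x ∈ sigmaCore M) (hx1 : x ≠ 1) (hxM : ¬ centralizer ({x} : Set G) ≤ M)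
    (hN : IsCoatom N) (hxN : centralizer ({x} : Set G) ≤ N) (hMs : IsCoatom Ms)
    (hNg : N = Ms.map (MulAut.conj g).toMonoidHom) :
    g⁻¹ * x * g ∈ Ms ∧ orderOf (g⁻¹ * x * g) = orderOf x ∧
      ∀ K₂ U₂ : Subgroup G, IsSigmaDecomposition Ms K₂ U₂ → g⁻¹ * x * g ∈ U₂ ⊔ sigmaCore Ms := by
  have hxC : x ∈ centralizer ({x} : Set G) := Cfsg.Agent.Helper54.bg14t_mem_cent.mpr rfl
  have hM' : IsCoatom (M.map (MulAut.conj g⁻¹).toMonoidHom) :=
    Cfsg.Agent.Helper47.isCoatom_map_conj hM _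
  have hback : ∀ z : G, g⁻¹⁻¹ * (g⁻¹ * z * g) * g⁻¹ = z := by
    intro z
    group
  have hx' : g⁻¹ * x * g ∈ sigmaCore (M.map (MulAut.conj g⁻¹).toMonoidHom) := by
    rw [Cfsg.Agent.Helper54.bg14t_mem_sigmaCore_conj, hback]
    exact hx
  have hx'1 : g⁻¹ * x * g ≠ 1 := by
    intro h
    apply hx1
    have h2 := hback x
    rw [h] at h2
    rw [← h2]
    group
  have hxeq : g⁻¹ * x * g = g⁻¹ * x * g⁻¹⁻¹ := by rw [inv_inv]
  -- membership in the centralizer of the conjugate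
  have hcent : ∀ w : G, w ∈ centralizer ({g⁻¹ * x * g} : Set G) ↔
      g * w * g⁻¹ ∈ centralizer ({x} : Set G) := by
    intro w
    rw [hxeq, Cfsg.Agent.Helper54.bg14t_mem_cent_conj, inv_inv]
  have hx'M : ¬ centralizer ({g⁻¹ * x * g} : Set G) ≤ M.map (MulAut.conj g⁻¹).toMonoidHom := by
    intro h
    apply hxM
    intro z hz
    have h1 : g⁻¹ * z * g ∈ centralizer ({g⁻¹ * x * g} : Set G) := by
      rw [hcent]
      have e : g * (g⁻¹ * z * g) * g⁻¹ = z := by group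
      rw [e]
      exact hz
    have h2 := h h1
    rw [Cfsg.Agent.Helper54.bg14t_mem_map_conj, hback] at h2
    exact h2
  obtain ⟨N'', -, huniq, -, -, -, -, hlast⟩ :=
    Cfsg.Agent.S1375.result hG (M.map (MulAut.conj g⁻¹).toMonoidHom) hM' (g⁻¹ * x * g) hx' hx'1 hx'M
  have hCMs : centralizer ({g⁻¹ * x * g} : Set G) ≤ Ms := by
    intro w hw
    have h1 := hxN ((hcent w).mp hw)
    rw [hNg, Cfsg.Agent.Helper54.bg14t_mem_map_conj] at h1
    have e : g⁻¹ * (g * w * g⁻¹) * g = w := by group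
    rw [e] at h1
    exact h1
  have hMsN : Ms = N'' := huniq Ms hMs hCMs
  refine ⟨?_, ?_, ?_⟩
  · have h1 := hxN hxC
    rw [hNg, Cfsg.Agent.Helper54.bg14t_mem_map_conj] at h1
    exact h1
  · have h1 := (MulAut.conj g⁻¹).orderOf_eq x
    rw [MulAut.conj_apply] at h1
    rw [hxeq]
    exact h1
  · intro K₂ U₂ hdec
    rw [hMsN] at hdec ⊢
    exact (hlast K₂ U₂ hdec).2.1.2

end Cfsg.Agent.Helper47
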