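import Cfsg.Agent.Helper23.FittingHall
import Cfsg.Agent.Helper1.BG152Main
import Cfsg.Agent.Helper1.CNOdd2
import Cfsg.Agent.Helper4.BG17FH2a
import Cfsg.Agent.Helper47.BG17WC
import Cfsg.Agent.S1355
import Cfsg.Agent.S1365

/-!
# CALL BG17 (S1381), piece FH2 (helper47): `(M')_F = M_F`.
-/

set_option autoImplicit false

namespace Cfsg.Agent.Helper47

open Cfsg Subgroup

universe u

variable {G : Type u} [Group G] [Finite G]

theorem bg17_fh2_nil (N : Subgroup G) : Group.IsNilpotent ↥(fittingHallOf N) := by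
  have h1 : Group.IsNilpotent ↥(fittingHall ↥N) :=
    Cfsg.Agent.Helper1.cnodd_fittingHall_isNilpotent ↥N
  have h2 : Group.IsNilpotent ↥((fittingHall ↥N).map N.subtype) :=
    Group.nilpotent_of_mulEquiv ((fittingHall ↥N).equivMapOfInjective N.subtype
      N.subtype_injective)
  exact h2

omit [Finite G] in
theorem bg17_fh2_der_norm (M : Subgroup G) : M ≤ normalizer ((⁅M, M⁆ : Subgroup G) : Set G) := by
  apply bg15b_norm_of_conj
  intro m hm y hy
  have hyM : y ∈ M := Cfsg.Agent.Helper23.commutator_self_le M hy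
  have h1 : m * y * m⁻¹ * y⁻¹ ∈ ⁅M, M⁆ := by
    rw [← commutatorElement_def]
    exact Subgroup.commutator_mem_commutator hm hyM
  have h2 : m * y * m⁻¹ = (m * y * m⁻¹ * y⁻¹) * y := by group
  rw [h2]
  exact Subgroup.mul_mem _ h1 hy

/-- FH2. `(M')_F = M_F`. -/
theorem bg17_fittingHall_comm (hG : IsMinSimpleOddOrder G) {M K U : Subgroup G}
    (hM : IsCoatom M) (hKU : IsSigmaDecomposition M K U) (hK1 : K ≠ ⊥) :
    fittingHallOf ⁅M, M⁆ = fittingHallOf M := by
  have h55 := Cfsg.Agent.S1355.result hG M hM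
  have hder : ⁅M, M⁆ = U ⊔ sigmaCore M := (Cfsg.Agent.S1365.result hG M hM K U hKU hK1).1
  have hM'M : ⁅M, M⁆ ≤ M := Cfsg.Agent.Helper23.commutator_self_le M
  have hKM : K ≤ M := hKU.hall.1
  obtain ⟨-, hcard⟩ := bg17_wc_cards hKU
  rw [← hder] at hcard
  -- `[M : M'] = |K|`, `K.relIndex M = |M'|`
  have hrelM' : (⁅M, M⁆ : Subgroup G).relIndex M = Nat.card K := by
    have h1 := Cfsg.Agent.Helper35.card_mul_relIndex_of_le hM'M
    rw [hcard] at h1
    exact Nat.eq_of_mul_eq_mul_left Nat.card_pos h1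
  have hrelK : K.relIndex M = Nat.card ↥(⁅M, M⁆ : Subgroup G) := by
    have h1 := Cfsg.Agent.Helper35.card_mul_relIndex_of_le hKM
    rw [hcard, mul_comm] at h1
    exact Nat.eq_of_mul_eq_mul_right Nat.card_pos h1
  have hcopK : (Nat.card ↥(⁅M, M⁆ : Subgroup G)).Coprime (Nat.card K) := by
    apply Nat.coprime_of_dvd
    intro p hp h1 h2
    apply hKU.hall.2.2 p hp (hKU.hall.2.1 p hp h2)
    rw [hrelK]
    exact h1
  have hTM' : fittingHallOf ⁅M, M⁆ ≤ ⁅M, M⁆ := Subgroup.map_subtype_le _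
  have hFM' : fittingHallOf M ≤ ⁅M, M⁆ := h55.2.1.trans h55.2.2.1
  apply le_antisymm
  · -- `(M')_F ≤ M_F`
    apply Cfsg.Agent.Helper23.le_fittingHallOf M _ (hTM'.trans hM'M)
      (Cfsg.Agent.Helper4.bg17_fittingHall_char ⁅M, M⁆ M (bg17_fh2_der_norm M))
      (bg17_fh2_nil _)
    rw [← Subgroup.relIndex_mul_relIndex _ _ _ hTM' hM'M, hrelM']
    apply Nat.Coprime.mul_right
    · exact Cfsg.Agent.Helper1.bg152_fittingHallOf_hall ⁅M, M⁆
    · exact Nat.Coprime.coprime_dvd_left (Subgroup.card_dvd_of_le hTM') hcopK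
  · -- `M_F ≤ (M')_F`
    apply Cfsg.Agent.Helper23.le_fittingHallOf ⁅M, M⁆ _ hFM'
      (hM'M.trans (Cfsg.Agent.Helper1.bg152_le_normalizer_fittingHallOf M))
      (bg17_fh2_nil _)
    have h1 := Cfsg.Agent.Helper1.bg152_fittingHallOf_hall M
    rw [← Subgroup.relIndex_mul_relIndex _ _ _ hFM' hM'M] at h1
    exact Nat.Coprime.coprime_dvd_right (Dvd.intro _ rfl) h1

end Cfsg.Agent.Helper47
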