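import Cfsg.Statements.S1383
import Cfsg.Agent.S1403
import Cfsg.Agent.Helper1.BG108
import Cfsg.Agent.Helper22.BG10b
import Cfsg.Agent.Helper23.Rank2Fit
import Cfsg.Agent.Helper23.Trans
import Cfsg.Agent.Helper20.BG65SUBS
import Cfsg.Agent.Helper51.Basic

/-!
# CALL BG83 (helper25, row S1383), piece NARROW (helper47): the Sylow `p`-subgroup `P` of `M_σ`
is narrow when `p ∉ β(M)`.
-/

set_option autoImplicit false

namespace Cfsg.Agent.Helper47

open Cfsg Subgroup

universe u

/-- `PRankLE` pulls back along injective homomorphisms. -/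
theorem pRankLE_of_injective47 {p k : ℕ} {R R' : Type*} [Group R] [Group R'] (f : R' →* R)
    (hf : Function.Injective f) (h : PRankLE p k R) : PRankLE p k R' := by
  intro A hAc hAe
  have h1 := h (A.map f)
    (Cfsg.Agent.Helper51.isMulCommutative_of_comm (by
      rintro _ ⟨a, ha, rfl⟩ _ ⟨b, hb, rfl⟩
      have := Cfsg.Agent.Helper51.comm_of_mem hAc ha hb
      rw [← map_mul, this, map_mul]))
    (by
      rintro _ ⟨a, ha, rfl⟩
      rw [← map_pow, hAe a ha, map_one])
  rwa [Subgroup.card_map_of_injective hf] at h1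

/-- `IsNarrow` is invariant under isomorphism. -/
theorem isNarrow_of_mulEquiv47 {p : ℕ} {R R' : Type*} [Group R] [Group R'] (e : R ≃* R')
    (h : IsNarrow p R) : IsNarrow p R' := by
  rcases h with h | ⟨R₀, R₁, h0, h1, h2, h3, h4⟩
  · exact Or.inl (pRankLE_of_injective47 e.symm.toMonoidHom e.symm.injective h)
  · refine Or.inr ⟨R₀.map e.toMonoidHom, R₁.map e.toMonoidHom, ?_, ?_, ?_, ?_, ?_⟩
    · rw [Subgroup.card_map_of_injective e.injective]
      exact h0
    · have := h1
      exact isCyclic_of_surjective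
        (R₁.equivMapOfInjective e.toMonoidHom e.injective).toMonoidHom
        (R₁.equivMapOfInjective e.toMonoidHom e.injective).surjective
    · rw [← Subgroup.map_inf _ _ _ e.injective, h2, Subgroup.map_bot]
    · rintro _ ⟨a, ha, rfl⟩ _ ⟨b, hb, rfl⟩
      rw [← map_mul, ← map_mul, h3 a ha b hb]
    · rw [← Subgroup.map_sup, h4]
      ext x
      constructor
      · rintro ⟨y, hy, rfl⟩
        refine Subgroup.mem_centralizer_iff.mpr ?_
        rintro _ ⟨a, ha, rfl⟩
        have hy' := Subgroup.mem_centralizer_iff.mp hy a ha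
        rw [← map_mul, ← map_mul, hy']
      · intro hx
        refine ⟨e.symm x, ?_, by simp⟩
        refine Subgroup.mem_centralizer_iff.mpr ?_
        intro a ha
        apply e.injective
        have hx' := Subgroup.mem_centralizer_iff.mp hx (e a) ⟨a, ha, rfl⟩
        simpa using hx'

variable {G : Type u} [Group G] [Finite G]

theorem bg83_narrow (hG : IsMinSimpleOddOrder G) {M : Subgroup G} (hM : IsCoatom M) (p : ℕ)
    [Fact p.Prime] (P : Subgroup G) (hPH : P ≤ sigmaCore M) (hP : IsPGroup p P)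
    (hmax : ∀ Q : Subgroup G, Q ≤ sigmaCore M → IsPGroup p Q → Q ≤ P)
    (hp : p ∣ Nat.card (sigmaCore M)) (hβ : p ∉ beta M) : IsNarrow p ↥P := by
  by_cases hr : PRankLE p 2 ↥P
  · exact Or.inl hr
  have hpp : p.Prime := Fact.out
  have hBU : Cfsg.Agent.Helper22.BGUniq G :=
    fun K hK h1 h2 => Cfsg.Agent.S1403.result hG K hK h1 h2
  have hσM : sigmaCore M ≤ M := Cfsg.Agent.Helper23.piCoreOf_le (sigma M) M
  have hPM : P ≤ M := hPH.trans hσM
  have hrM : ¬ PRankLE p 2 ↥M := fun h => hr (Cfsg.Agent.Helper23.pRankLE_of_le hPM h)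
  have hni : ¬ IsIdealPrime p G := fun h => hβ ⟨⟨hpp, hrM⟩, h⟩
  have hpσ : p ∈ sigma M := Cfsg.Agent.Helper23.mem_of_dvd_card_piCoreOf (sigma M) M hpp hp
  have hidx : ¬ p ∣ M.index := by
    intro hd
    have h1 := (Cfsg.Agent.Helper22.bg10_sigma_hall hG hBU hM).2.1.2 p hpp hpσ
    exact h1 (hd.trans (Subgroup.index_dvd_of_le hσM))
  have hp2 : p ≠ 2 := by
    intro h2
    have hodd : Odd (Nat.card G) := hG.1
    have hd : p ∣ Nat.card G := hp.trans (Subgroup.card_subgroup_dvd_card _)
    rw [h2] at hd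
    exact (Nat.not_even_iff_odd.mpr hodd) (even_iff_two_dvd.mpr hd)
  obtain ⟨S, hS⟩ := (hP.comap_subtype (K := M)).exists_le_sylow
  have hnar := Cfsg.Agent.Helper1.bg108_sylow_narrow hp2 hidx hrM hni S
  have hSp : IsPGroup p ((S : Subgroup ↥M).map M.subtype) := S.isPGroup'.map _
  have hS' : (S : Subgroup ↥M).map M.subtype = P := by
    apply le_antisymm
    · apply hmax _ _ hSp
      apply Cfsg.Agent.Helper20.bg65_le_sigmaCore hG hM
      · rintro _ ⟨y, -, rfl⟩
        exact y.2
      · intro s hs hsd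
        obtain ⟨n, hn⟩ := IsPGroup.iff_card.mp hSp
        rw [hn] at hsd
        rw [(Nat.prime_dvd_prime_iff_eq hs hpp).mp (hs.dvd_of_dvd_pow hsd)]
        exact hpσ
    · intro a ha
      exact ⟨⟨a, hPM ha⟩, hS (Subgroup.mem_subgroupOf.mpr ha), rfl⟩
  have e : ↥(S : Subgroup ↥M) ≃* ↥P :=
    ((S : Subgroup ↥M).equivMapOfInjective M.subtype M.subtype_injective).trans
      (MulEquiv.subgroupCongr hS')
  exact isNarrow_of_mulEquiv47 e hnar

end Cfsg.Agent.Helper47
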