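import Cfsg.Agent.Helper47.KFam
import Cfsg.Prelude.Def_CaseTheorems

set_option autoImplicit false

namespace Cfsg.Agent.Helper47

open scoped commutatorElement Pointwise

section qs

/-- internal consequences of quasisimplicity of the image `S N / N` -/
theorem qs_of_map_mk {X : Type*} [Group X] (N : Subgroup X) [N.Normal] (S : Subgroup X)
    (h : Cfsg.IsQuasisimple ↥(S.map (QuotientGroup.mk' N))) :
    S ≤ ⁅S, S⁆ ⊔ N ∧ ¬ S ≤ N ∧
      ∀ D : Subgroup X, D ≤ S → S ≤ Subgroup.normalizer (D : Set X) →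
        ⁅D, S⁆ ≤ N ∨ S ≤ D ⊔ N := by
  obtain ⟨hperf, hsimple⟩ := h
  obtain ⟨π, hπ⟩ : ∃ π : X →* X ⧸ N, π = QuotientGroup.mk' N := ⟨_, rfl⟩
  rw [← hπ] at hperf hsimple
  have hker : π.ker = N := by rw [hπ]; exact QuotientGroup.ker_mk' N
  have hone : ∀ x : X, π x = 1 → x ∈ N := by
    intro x hx
    rw [← hker]; exact hx
  have hTT : ⁅S.map π, S.map π⁆ = S.map π := Subgroup.isPerfect_iff.mp hperf
  refine ⟨?_, ?_, ?_⟩
  · have h1 : (⁅S, S⁆).map π = S.map π := by rw [Subgroup.map_commutator]; exact hTT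
    have h2 : S ≤ ⁅S, S⁆ ⊔ π.ker := by
      rw [← Subgroup.comap_map_eq, h1]
      exact Subgroup.le_comap_map π S
    rwa [hker] at h2
  · intro hSN
    have hTbot : S.map π = ⊥ := by
      rw [Subgroup.map_eq_bot_iff, hker]; exact hSN
    have hsub : Subsingleton ↥(S.map π) := by
      rw [hTbot]; infer_instance
    have hnt : Nontrivial (↥(S.map π) ⧸ Subgroup.center ↥(S.map π)) := hsimple.toNontrivial
    have hsub2 : Subsingleton (↥(S.map π) ⧸ Subgroup.center ↥(S.map π)) :=
      (QuotientGroup.mk'_surjective _).subsingleton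
    exact not_subsingleton _ hsub2
  · intro D hDS hSD
    have hTD : S.map π ≤ Subgroup.normalizer ((D.map π : Subgroup (X ⧸ N)) : Set (X ⧸ N)) :=
      (Subgroup.map_mono hSD).trans (Subgroup.le_normalizer_map π)
    have hDT : D.map π ≤ S.map π := Subgroup.map_mono hDS
    haveI hn : ((D.map π).subgroupOf (S.map π)).Normal :=
      Subgroup.normal_subgroupOf_of_le_normalizer hTD
    have hn2 : (((D.map π).subgroupOf (S.map π)).map
        (QuotientGroup.mk' (Subgroup.center ↥(S.map π)))).Normal :=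
      Subgroup.Normal.map hn _ (QuotientGroup.mk'_surjective _)
    rcases hsimple.eq_bot_or_eq_top_of_normal _ hn2 with hbot | htop
    · left
      rw [Subgroup.map_eq_bot_iff, QuotientGroup.ker_mk'] at hbot
      rw [Subgroup.commutator_le]
      intro d hd s hs
      have hdT : (⟨π d, hDT ⟨d, hd, rfl⟩⟩ : ↥(S.map π)) ∈ (D.map π).subgroupOf (S.map π) := by
        rw [Subgroup.mem_subgroupOf]; exact ⟨d, hd, rfl⟩
      have hc := Subgroup.mem_center_iff.mp (hbot hdT) ⟨π s, ⟨s, hs, rfl⟩⟩
      have hc' : π s * π d = π d * π s := congrArg Subtype.val hc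
      apply hone
      rw [map_commutatorElement, commutatorElement_eq_one_iff_commute]
      exact hc'.symm
    · right
      have h1 : (D.map π).subgroupOf (S.map π) ⊔ Subgroup.center ↥(S.map π) = ⊤ := by
        have h0 := Subgroup.comap_map_eq (QuotientGroup.mk' (Subgroup.center ↥(S.map π)))
          ((D.map π).subgroupOf (S.map π))
        rw [htop, Subgroup.comap_top, QuotientGroup.ker_mk'] at h0
        exact h0.symm
      have h2 : (⊤ : Subgroup ↥(S.map π)) ≤ (D.map π).subgroupOf (S.map π) := by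
        have h5 : ⁅(D.map π).subgroupOf (S.map π) ⊔ Subgroup.center ↥(S.map π),
            (⊤ : Subgroup ↥(S.map π))⁆ ≤ (D.map π).subgroupOf (S.map π) := by
          apply commutator_sup_le
          · rw [Subgroup.normalizer_eq_top_iff.mpr hn]; exact le_top
          · exact Subgroup.commutator_le_left _ _
          · have h3 : ⁅Subgroup.center ↥(S.map π), (⊤ : Subgroup ↥(S.map π))⁆ = ⊥ := by
              rw [Subgroup.commutator_eq_bot_iff_le_centralizer, Subgroup.coe_top,
                Subgroup.centralizer_univ]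
            rw [h3]; exact bot_le
        rw [h1] at h5
        rw [← hperf.commutator_eq_top, commutator_def]
        exact h5
      have h3 : S.map π ≤ D.map π := by
        intro t ht
        have := h2 (Subgroup.mem_top (⟨t, ht⟩ : ↥(S.map π)))
        exact Subgroup.mem_subgroupOf.mp this
      have h4 : S ≤ D ⊔ π.ker := by
        rw [← Subgroup.comap_map_eq]
        exact (Subgroup.le_comap_map π S).trans (Subgroup.comap_mono h3)
      rwa [hker] at h4

/-- a perfect group whose normal subgroups are central modulo `N` or supplement `N` has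
quasisimple quotient by `N` -/
theorem qs_quotient {X : Type*} [Group X] (N : Subgroup X) [N.Normal]
    (h1 : commutator X = ⊤) (h2 : N ≠ ⊤)
    (h3 : ∀ D : Subgroup X, D.Normal → ⁅D, ⊤⁆ ≤ N ∨ D ⊔ N = ⊤) :
    Cfsg.IsQuasisimple (X ⧸ N) := by
  haveI hperfX : Group.IsPerfect X := ⟨h1⟩
  have hs := QuotientGroup.mk'_surjective N
  have hperf : Group.IsPerfect (X ⧸ N) := Group.IsPerfect.ofSurjective hs
  refine ⟨hperf, ?_⟩
  have hZ : Subgroup.center (X ⧸ N) ≠ ⊤ := by
    intro hZ
    have hcomm : commutator (X ⧸ N) = ⊥ := by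
      rw [commutator_def, Subgroup.commutator_eq_bot_iff_le_centralizer, Subgroup.coe_top,
        Subgroup.centralizer_univ, hZ]
    rw [hperf.commutator_eq_top] at hcomm
    apply h2
    rw [eq_top_iff]
    intro x _
    have hx : (QuotientGroup.mk' N x) ∈ (⊤ : Subgroup (X ⧸ N)) := trivial
    rw [hcomm, Subgroup.mem_bot] at hx
    exact (QuotientGroup.eq_one_iff x).mp hx
  haveI hnt : Nontrivial ((X ⧸ N) ⧸ Subgroup.center (X ⧸ N)) := by
    by_contra hcon
    rw [not_nontrivial_iff_subsingleton] at hcon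
    apply hZ
    rw [eq_top_iff]
    intro x _
    have : (QuotientGroup.mk' (Subgroup.center (X ⧸ N)) x) = 1 := Subsingleton.elim _ _
    exact (QuotientGroup.eq_one_iff x).mp this
  refine ⟨fun H hH => ?_⟩
  have hs2 := QuotientGroup.mk'_surjective (Subgroup.center (X ⧸ N))
  obtain ⟨f, hf⟩ : ∃ f : X →* (X ⧸ N) ⧸ Subgroup.center (X ⧸ N),
      f = (QuotientGroup.mk' (Subgroup.center (X ⧸ N))).comp (QuotientGroup.mk' N) := ⟨_, rfl⟩
  have hfs : Function.Surjective f := by rw [hf]; exact hs2.comp hs
  have hDn : (H.comap f).Normal := Subgroup.Normal.comap hH f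
  have hHmap : (H.comap f).map f = H := Subgroup.map_comap_eq_self_of_surjective hfs H
  have hND : N ≤ H.comap f := by
    intro n hn
    rw [Subgroup.mem_comap, hf]
    have : QuotientGroup.mk' N n = 1 := (QuotientGroup.eq_one_iff n).mpr hn
    show (QuotientGroup.mk' (Subgroup.center (X ⧸ N))) (QuotientGroup.mk' N n) ∈ H
    rw [this, map_one]; exact H.one_mem
  rcases h3 _ hDn with hc | ht
  · left
    rw [eq_bot_iff, ← hHmap]
    rintro _ ⟨d, hd, rfl⟩
    rw [Subgroup.mem_bot, hf]
    show (QuotientGroup.mk' (Subgroup.center (X ⧸ N))) (QuotientGroup.mk' N d) = 1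
    apply (QuotientGroup.eq_one_iff _).mpr
    rw [Subgroup.mem_center_iff]
    intro y
    obtain ⟨x, rfl⟩ := hs y
    have h4 : ⁅d, x⁆ ∈ N := hc (Subgroup.commutator_mem_commutator hd (Subgroup.mem_top x))
    have h5 : QuotientGroup.mk' N ⁅d, x⁆ = 1 := (QuotientGroup.eq_one_iff _).mpr h4
    rw [map_commutatorElement, commutatorElement_eq_one_iff_commute] at h5
    exact h5.symm
  · right
    have hD : H.comap f = ⊤ := by
      rw [← ht]; exact (sup_eq_left.mpr hND).symm
    rw [← hHmap, hD, ← MonoidHom.range_eq_map, MonoidHom.range_eq_top]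
    exact hfs

end qs

end Cfsg.Agent.Helper47
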