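import Cfsg.Agent.Helper47.FrakH3

set_option autoImplicit false

namespace Cfsg.Agent.Helper47

open scoped commutatorElement Pointwise

local notation "cj(" g "," Q ")" => Subgroup.map (MulEquiv.toMonoidHom (MulAut.conj g)) Q

section wcf

variable {G : Type*} [Group G]

/-- three subgroups lemma modulo a normal subgroup -/
theorem wcf_commutator_commutator_le_of_rotate {A B C N : Subgroup G} [N.Normal]
    (h1 : ⁅⁅B, C⁆, A⁆ ≤ N) (h2 : ⁅⁅C, A⁆, B⁆ ≤ N) : ⁅⁅A, B⁆, C⁆ ≤ N := by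
  have key : ∀ X Y Z : Subgroup G, ⁅⁅X, Y⁆, Z⁆ ≤ N ↔
      ⁅⁅X.map (QuotientGroup.mk' N), Y.map (QuotientGroup.mk' N)⁆,
        Z.map (QuotientGroup.mk' N)⁆ = ⊥ := by
    intro X Y Z
    rw [← Subgroup.map_commutator, ← Subgroup.map_commutator, Subgroup.map_eq_bot_iff,
      QuotientGroup.ker_mk']
  rw [key] at h1 h2 ⊢
  exact Subgroup.commutator_commutator_eq_bot_of_rotate h1 h2

/-- three subgroups lemma modulo a subgroup `N` normalized by `M ≥ A, B, C` -/
theorem wcf_commutator_commutator_le_of_rotate_rel {A B C N M : Subgroup G}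
    (hA : A ≤ M) (hB : B ≤ M) (hC : C ≤ M) (hN : M ≤ Subgroup.normalizer (N : Set G))
    (h1 : ⁅⁅B, C⁆, A⁆ ≤ N) (h2 : ⁅⁅C, A⁆, B⁆ ≤ N) : ⁅⁅A, B⁆, C⁆ ≤ N := by
  haveI : (N.subgroupOf M).Normal := Subgroup.normal_subgroupOf_of_le_normalizer hN
  have key : ∀ X Y Z : Subgroup G, X ≤ M → Y ≤ M → Z ≤ M → (⁅⁅X, Y⁆, Z⁆ ≤ N ↔
      ⁅⁅X.subgroupOf M, Y.subgroupOf M⁆, Z.subgroupOf M⁆ ≤ N.subgroupOf M) := by
    intro X Y Z hX hY hZ
    have e : (⁅⁅X.subgroupOf M, Y.subgroupOf M⁆, Z.subgroupOf M⁆).map M.subtype =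
        ⁅⁅X, Y⁆, Z⁆ := by
      rw [Subgroup.map_commutator, Subgroup.map_commutator, Subgroup.subgroupOf_map_subtype,
        Subgroup.subgroupOf_map_subtype, Subgroup.subgroupOf_map_subtype, inf_eq_left.mpr hX,
        inf_eq_left.mpr hY, inf_eq_left.mpr hZ]
    rw [← e, Subgroup.map_le_iff_le_comap]
    rfl
  rw [key _ _ _ hB hC hA] at h1
  rw [key _ _ _ hC hA hB] at h2
  rw [key _ _ _ hA hB hC]
  exact wcf_commutator_commutator_le_of_rotate h1 h2

theorem wcf_commutator_le_left {K H : Subgroup G} (h : H ≤ Subgroup.normalizer (K : Set G)) :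
    ⁅K, H⁆ ≤ K := by
  rw [Subgroup.commutator_le]
  intro k hk x hx
  have h1 : x * k⁻¹ * x⁻¹ ∈ K := (Subgroup.mem_normalizer_iff.mp (h hx) _).mp (K.inv_mem hk)
  have e : ⁅k, x⁆ = k * (x * k⁻¹ * x⁻¹) := by simp [commutatorElement_def, mul_assoc]
  rw [e]
  exact K.mul_mem hk h1

theorem wcf_commutator_le_right {K H : Subgroup G} (h : K ≤ Subgroup.normalizer (H : Set G)) :
    ⁅K, H⁆ ≤ H := by
  rw [Subgroup.commutator_le]
  intro k hk x hx
  have h1 : k * x * k⁻¹ ∈ H := (Subgroup.mem_normalizer_iff.mp (h hk) _).mp hx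
  have e : ⁅k, x⁆ = (k * x * k⁻¹) * x⁻¹ := by simp [commutatorElement_def, mul_assoc]
  rw [e]
  exact H.mul_mem h1 (H.inv_mem hx)

variable [Finite G] {p : ℕ} [hp : Fact p.Prime]

theorem wcf_normalizer_le_normalizer_weakClosure (Q L : Subgroup G) :
    Subgroup.normalizer (L : Set G) ≤
      Subgroup.normalizer ((Cfsg.weakClosure Q L : Subgroup G) : Set G) := by
  intro n hn
  rw [← cj_eq_self_iff]
  apply cj_eq_of_le
  have e : cj(n, Cfsg.weakClosure Q L) =
      ⨆ g : {g : G // cj(g, Q) ≤ L}, cj(n, cj((g : G), Q)) := by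
    unfold Cfsg.weakClosure
    rw [Subgroup.map_iSup]
  rw [e]
  apply iSup_le
  rintro ⟨g, hg⟩
  rw [cj_cj]
  have : cj(n * g, Q) ≤ L := by
    rw [← cj_cj]
    calc cj(n, cj(g, Q)) ≤ cj(n, L) := cj_mono hg
      _ = L := cj_eq_self_iff.mpr hn
  exact le_weakClosure this

theorem wcf_weakClosure_idem (Q L : Subgroup G) :
    Cfsg.weakClosure Q L ≤ Cfsg.weakClosure Q (Cfsg.weakClosure Q L) := by
  conv_lhs => unfold Cfsg.weakClosure
  apply iSup_le
  rintro ⟨g, hg⟩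
  exact le_weakClosure (le_weakClosure hg)

/-- if `O^p(X) ≤ P C` with `P` a `p`-group normalizing `C`, then `O^p(X) ≤ C` -/
theorem wcf_pResidual_map_le_of_le_sup {X C P K : Subgroup G}
    (hK : K = (Cfsg.pResidual p ↥X).map X.subtype) (hP : IsPGroup p ↥P)
    (hPC : P ≤ Subgroup.normalizer (C : Set G)) (hX : K ≤ P ⊔ C) : K ≤ C := by
  subst hK
  have key : ∀ g : ↥X, (orderOf g).Coprime p → (g : G) ∈ C := by
    intro g hg
    have hcop : (orderOf (g : G)).Coprime p := by rw [Subgroup.orderOf_coe]; exact hg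
    have hmem : (g : G) ∈ (Cfsg.pResidual p ↥X).map X.subtype :=
      ⟨g, mem_pResidual_of_coprime hg, rfl⟩
    exact mem_of_coprime_of_mem_sup_of_le_normalizer hP hPC (hX hmem) hcop
  unfold Cfsg.pResidual
  rw [MonoidHom.map_closure, Subgroup.closure_le]
  rintro _ ⟨g, hg, rfl⟩
  exact key g hg

/-- if `h` maps `K = O^p(X)` into `P K` with `P` a `p`-group normalizing `K`, then `h`
normalizes `K` -/
theorem wcf_mem_normalizer_pResidual_map {X P K : Subgroup G}
    (hK : K = (Cfsg.pResidual p ↥X).map X.subtype) (hP : IsPGroup p ↥P)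
    (hPK : P ≤ Subgroup.normalizer (K : Set G)) {h : G} (hh : cj(h, K) ≤ P ⊔ K) :
    h ∈ Subgroup.normalizer (K : Set G) := by
  rw [← cj_eq_self_iff]
  apply cj_eq_of_le
  have key : ∀ g : ↥X, (orderOf g).Coprime p → h * (g : G) * h⁻¹ ∈ K := by
    intro g hg
    have hcop : (orderOf (h * (g : G) * h⁻¹)).Coprime p := by
      have e : orderOf (h * (g : G) * h⁻¹) = orderOf (g : G) :=
        orderOf_conj_equiv (MulAut.conj h) (g : G)
      rw [e, Subgroup.orderOf_coe]; exact hg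
    have hmem : (g : G) ∈ K := by
      rw [hK]; exact ⟨g, mem_pResidual_of_coprime hg, rfl⟩
    exact mem_of_coprime_of_mem_sup_of_le_normalizer hP hPK (hh (cj_mem hmem)) hcop
  conv_lhs => rw [hK]; unfold Cfsg.pResidual
  rw [MonoidHom.map_closure, MonoidHom.map_closure, Subgroup.closure_le]
  rintro _ ⟨_, ⟨g, hg, rfl⟩, rfl⟩
  exact key g hg

/-- for a weakly closed `p`-subgroup `Q` and `X` generated by conjugates of `Q`:
`[O^p(X), Q] = O^p(X)` -/
theorem wcf_commutator_pResidual_eq {Q : Subgroup G} (hQp : IsPGroup p ↥Q)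
    (hwc : Cfsg.IsWeaklyClosedSubgroup p Q) {X K : Subgroup G} (hQX : Q ≤ X)
    (hX : X ≤ Cfsg.weakClosure Q X) (hK : K = (Cfsg.pResidual p ↥X).map X.subtype) :
    ⁅K, Q⁆ = K := by
  have hXK : X ≤ Subgroup.normalizer (K : Set G) := by
    rw [hK]; exact le_normalizer_pResidual_map X
  have hKX : K ≤ X := by rw [hK]; exact Subgroup.map_subtype_le _
  obtain ⟨T, hT⟩ := (hQp.comap_subtype (K := X)).exists_le_sylow
  have hQT : Q ≤ (T : Subgroup ↥X).map X.subtype := by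
    intro x hx
    exact ⟨⟨x, hQX hx⟩, hT (Subgroup.mem_comap.mpr hx), rfl⟩
  have hTN : (T : Subgroup ↥X).map X.subtype ≤ Subgroup.normalizer (Q : Set G) :=
    Subgroup.le_normalizer.trans (wc_normalizer_le hwc (T.isPGroup'.map _) hQT)
  have hTX : (T : Subgroup ↥X).map X.subtype ≤ X := Subgroup.map_subtype_le _
  have hsup : K ⊔ (T : Subgroup ↥X).map X.subtype = X := by
    have h2 := congrArg (Subgroup.map X.subtype) (pResidual_sup_sylow T)
    rw [Subgroup.map_sup, ← MonoidHom.range_eq_map, Subgroup.range_subtype, ← hK] at h2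
    exact h2
  have hCK : ⁅K, Q⁆ ≤ K := wcf_commutator_le_left (hQX.trans hXK)
  have hNC : X ≤ Subgroup.normalizer ((⁅K, Q⁆ : Subgroup G) : Set G) := by
    conv_lhs => rw [← hsup]
    refine sup_le (le_normalizer_commutator_left K Q) ?_
    refine le_trans ?_ (normalizer_inf_normalizer_le_normalizer_commutator K Q)
    exact le_inf (hTX.trans hXK) hTN
  have hNM : X ≤ Subgroup.normalizer ((⁅K, Q⁆ ⊔ Q : Subgroup G) : Set G) := by
    conv_lhs => rw [← hsup]
    refine sup_le ?_ ?_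
    · intro r hr
      rw [← cj_eq_self_iff]
      apply cj_eq_of_le
      rw [cj_sup]
      refine sup_le ?_ ?_
      · exact (cj_eq_self_iff.mpr (hNC (hKX hr))).le.trans le_sup_left
      · rintro _ ⟨q, hq, rfl⟩
        have e : (MulAut.conj r).toMonoidHom q = ⁅r, q⁆ * q := by
          simp [commutatorElement_def]
        rw [e]
        exact Subgroup.mul_mem _
          (Subgroup.mem_sup_left (Subgroup.commutator_mem_commutator hr hq))
          (Subgroup.mem_sup_right hq)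
    · refine le_trans ?_ (Subgroup.normalizer_inf_normalizer_le_normalizer_sup _ _)
      exact le_inf (hTX.trans hNC) hTN
  have hXM : X ≤ ⁅K, Q⁆ ⊔ Q := by
    refine hX.trans ?_
    unfold Cfsg.weakClosure
    apply iSup_le
    rintro ⟨g, hg⟩
    obtain ⟨k, hk, e⟩ := wc_conj_in_subgroup hQp hwc hQX hg
    show cj(g, Q) ≤ _
    rw [e]
    calc cj(k, Q) ≤ cj(k, ⁅K, Q⁆ ⊔ Q) := cj_mono le_sup_right
      _ = ⁅K, Q⁆ ⊔ Q := cj_eq_self_iff.mpr (hNM hk)
  apply le_antisymm hCK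
  apply wcf_pResidual_map_le_of_le_sup hK hQp (hQX.trans hNC)
  exact hKX.trans (hXM.trans (by rw [sup_comm]))

/-- conjugates of a weakly closed `Q` inside `X ≥ Q` are conjugate to `Q` under `O^p(X)` -/
theorem wcf_conj_pResidual {Q : Subgroup G} (hQp : IsPGroup p ↥Q)
    (hwc : Cfsg.IsWeaklyClosedSubgroup p Q) {X : Subgroup G} (hQX : Q ≤ X) {g : G}
    (hg : cj(g, Q) ≤ X) :
    ∃ r ∈ (Cfsg.pResidual p ↥X).map X.subtype, cj(g, Q) = cj(r, Q) := by
  obtain ⟨k, hk, e⟩ := wc_conj_in_subgroup hQp hwc hQX hg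
  obtain ⟨T, hT⟩ := (hQp.comap_subtype (K := X)).exists_le_sylow
  have hQT : Q ≤ (T : Subgroup ↥X).map X.subtype := by
    intro x hx
    exact ⟨⟨x, hQX hx⟩, hT (Subgroup.mem_comap.mpr hx), rfl⟩
  have hTN : (T : Subgroup ↥X).map X.subtype ≤ Subgroup.normalizer (Q : Set G) :=
    Subgroup.le_normalizer.trans (wc_normalizer_le hwc (T.isPGroup'.map _) hQT)
  have htop := pResidual_sup_sylow T
  have hmem : (⟨k, hk⟩ : ↥X) ∈
      ((Cfsg.pResidual p ↥X ⊔ (T : Subgroup ↥X) : Subgroup ↥X) : Set ↥X) := by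
    rw [htop]; exact Subgroup.mem_top _
  rw [Subgroup.normal_mul] at hmem
  obtain ⟨r, hr, s, hs, hrs⟩ := Set.mem_mul.mp hmem
  refine ⟨(r : G), ⟨r, hr, rfl⟩, ?_⟩
  have hrs' : (r : G) * (s : G) = k := congrArg Subtype.val hrs
  have hsN : cj((s : G), Q) = Q := cj_eq_self_iff.mpr (hTN ⟨s, hs, rfl⟩)
  rw [e, ← hrs', ← cj_cj, hsN]

end wcf

end Cfsg.Agent.Helper47
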