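import Cfsg.Agent.Helper47.WCL

set_option autoImplicit false

namespace Cfsg.Agent.Helper47

open scoped commutatorElement Pointwise

local notation "cj(" g "," Q ")" => Subgroup.map (MulEquiv.toMonoidHom (MulAut.conj g)) Q

section asym

variable {G : Type*} [Group G] {p : ℕ}

theorem inv_mem_union_pow (A B : Subgroup G) (k : ℕ) {w : G}
    (hw : w ∈ ((A : Set G) ∪ (B : Set G)) ^ k) : w⁻¹ ∈ ((A : Set G) ∪ (B : Set G)) ^ k := by
  have h1 : ((A : Set G) ∪ (B : Set G))⁻¹ = (A : Set G) ∪ (B : Set G) := by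
    rw [Set.union_inv, inv_coe_set, inv_coe_set]
  have h2 : w⁻¹ ∈ (((A : Set G) ∪ (B : Set G)) ^ k)⁻¹ := Set.inv_mem_inv.mpr hw
  rw [← inv_pow, h1] at h2
  exact h2

/-- word-length induction for the subgroup generated by two subgroups -/
theorem sup_induction_words (A B : Subgroup G) (P : G → Prop)
    (h : ∀ k : ℕ, ∀ w ∈ ((A : Set G) ∪ (B : Set G)) ^ k, P w) : ∀ w ∈ A ⊔ B, P w := by
  let T : Subgroup G :=
    { carrier := {w | ∃ k : ℕ, w ∈ ((A : Set G) ∪ (B : Set G)) ^ k}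
      mul_mem' := by
        rintro a b ⟨k, hk⟩ ⟨l, hl⟩
        exact ⟨k + l, by rw [pow_add]; exact Set.mul_mem_mul hk hl⟩
      one_mem' := ⟨0, by rw [pow_zero]; exact Set.one_mem_one⟩
      inv_mem' := by
        rintro a ⟨k, hk⟩
        exact ⟨k, inv_mem_union_pow A B k hk⟩ }
  have hA : A ≤ T := fun a ha => ⟨1, by rw [pow_one]; exact Or.inl ha⟩
  have hB : B ≤ T := fun b hb => ⟨1, by rw [pow_one]; exact Or.inr hb⟩
  intro w hw
  obtain ⟨k, hk⟩ := (sup_le hA hB) hw
  exact h k w hk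

/-- asymmetry: if `Y^g` and `Y^(g⁻¹)` normalize `Y` then `Y^g` centralizes `Y` -/
theorem asym_comm {Y : Subgroup G} (hasym : ¬ Cfsg.IsSymmetricIn Y) {g : G}
    (h1 : cj(g, Y) ≤ Subgroup.normalizer (Y : Set G))
    (h2 : cj(g⁻¹, Y) ≤ Subgroup.normalizer (Y : Set G)) :
    cj(g, Y) ≤ Subgroup.centralizer (Y : Set G) := by
  by_contra h
  apply hasym
  refine ⟨g, ?_, le_inf ?_ ?_⟩
  · intro hbot
    apply h
    rw [Subgroup.le_centralizer_iff]
    exact Subgroup.commutator_eq_bot_iff_le_centralizer.mp hbot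
  · exact Subgroup.le_normalizer_iff_commutator_le_left.mp h1
  · apply Subgroup.le_normalizer_iff_commutator_le_right.mp
    rw [normalizer_cj, le_cj_iff]
    exact h2

/-- word induction: all conjugates of `Y` under `⟨A, B⟩` stay inside `O = C_S(Y)` -/
theorem asym_words {Y O S : Subgroup G} (hasym : ¬ Cfsg.IsSymmetricIn Y) (hYO : Y ≤ O)
    (hSN : S ≤ Subgroup.normalizer (Y : Set G))
    (hO : S ⊓ Subgroup.centralizer (Y : Set G) ≤ O) (A B : Subgroup G)
    (hA : ∀ x ∈ A, cj(x, O) ≤ S) (hB : ∀ x ∈ B, cj(x, O) ≤ S) :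
    ∀ w ∈ A ⊔ B, cj(w, Y) ≤ O := by
  apply sup_induction_words
  intro k
  induction k with
  | zero =>
    intro w hw
    rw [pow_zero, Set.mem_one] at hw
    rw [hw, cj_one]
    exact hYO
  | succ k ih =>
    have key : ∀ w ∈ ((A : Set G) ∪ (B : Set G)) ^ (k + 1), cj(w, Y) ≤ S := by
      intro w hw
      rw [pow_succ'] at hw
      obtain ⟨x, hx, w', hw', rfl⟩ := Set.mem_mul.mp hw
      rw [← cj_cj]
      refine (cj_mono (ih w' hw')).trans ?_
      rcases hx with hx | hx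
      · exact hA x hx
      · exact hB x hx
    intro w hw
    have h1 := key w hw
    have h2 := key w⁻¹ (inv_mem_union_pow A B (k + 1) hw)
    exact (le_inf h1 (asym_comm hasym (h1.trans hSN) (h2.trans hSN))).trans hO

end asym

end Cfsg.Agent.Helper47
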