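import Cfsg.Agent.Helper47.YStar

set_option autoImplicit false

namespace Cfsg.Agent.Helper47

open scoped commutatorElement Pointwise

local notation "cj(" g "," Q ")" => Subgroup.map (MulEquiv.toMonoidHom (MulAut.conj g)) Q

section avg

variable {G : Type*} [Group G]

/-- averaging (trace) over `L / T` of a `T`-fixed element `z` of a commutative subgroup `Z`
normalized by `L`: produces an `L`-fixed element `w` with `w ≡ z ^ |L : T|` modulo `W` -/
theorem exists_central_avg [Finite G] {L Z T W : Subgroup G}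
    (hZn : L ≤ Subgroup.normalizer (Z : Set G))
    (hZc : ∀ a ∈ Z, ∀ b ∈ Z, a * b = b * a) {z : G} (hz : z ∈ Z)
    (hzT : ∀ t ∈ T, t * z = z * t) (hW : W ≤ Z)
    (hWz : ∀ g ∈ L, g * z * g⁻¹ * z⁻¹ ∈ W) :
    ∃ w ∈ Z, (∀ l ∈ L, l * w = w * l) ∧ w * (z ^ (T.relIndex L))⁻¹ ∈ W := by
  classical
  letI : CommGroup ↥Z :=
    { (inferInstance : Group ↥Z) with
      mul_comm := fun a b => Subtype.ext (hZc a a.2 b b.2) }
  haveI : Fintype (↥L ⧸ T.subgroupOf L) := Fintype.ofFinite _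
  have hconj : ∀ l : ↥L, ∀ x ∈ Z, (l : G) * x * (l : G)⁻¹ ∈ Z := by
    intro l x hx
    exact (Subgroup.mem_normalizer_iff.mp (hZn l.2) x).mp hx
  let f : (↥L ⧸ T.subgroupOf L) → ↥Z :=
    fun q => ⟨(q.out : G) * z * (q.out : G)⁻¹, hconj q.out z hz⟩
  have hf : ∀ (l : ↥L) (q : ↥L ⧸ T.subgroupOf L),
      ((f (l • q) : ↥Z) : G) = (l : G) * (f q : G) * (l : G)⁻¹ := by
    intro l q
    show ((l • q).out : G) * z * ((l • q).out : G)⁻¹ =
      (l : G) * ((q.out : G) * z * (q.out : G)⁻¹) * (l : G)⁻¹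
    have h1 : (((l • q).out : ↥L) : ↥L ⧸ T.subgroupOf L) = ((l * q.out : ↥L) : ↥L ⧸ T.subgroupOf L) := by
      rw [QuotientGroup.out_eq']
      conv_lhs => rw [← QuotientGroup.out_eq' q]
      rfl
    rw [QuotientGroup.eq] at h1
    have h2 : (((l • q).out : ↥L) : G)⁻¹ * ((l : G) * (q.out : G)) ∈ T := by
      have := Subgroup.mem_subgroupOf.mp h1
      simpa using this
    have h3 := hzT _ h2
    have e : (l : G) * ((q.out : G) * z * (q.out : G)⁻¹) * (l : G)⁻¹ =
        ((l • q).out : G) * (((((l • q).out : ↥L) : G)⁻¹ * ((l : G) * (q.out : G))) * z) *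
          ((q.out : G)⁻¹ * (l : G)⁻¹) := by group
    rw [e, h3]
    group
  let w : ↥Z := ∏ q : ↥L ⧸ T.subgroupOf L, f q
  refine ⟨(w : G), w.2, ?_, ?_⟩
  · intro l hl
    let φ : ↥Z →* ↥Z :=
      { toFun := fun x => ⟨l * (x : G) * l⁻¹, hconj ⟨l, hl⟩ x x.2⟩
        map_one' := by apply Subtype.ext; simp
        map_mul' := by intro a b; apply Subtype.ext; simp }
    have h1 : φ w = w := by
      show φ (∏ q : ↥L ⧸ T.subgroupOf L, f q) = ∏ q : ↥L ⧸ T.subgroupOf L, f q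
      rw [map_prod]
      have h2 : ∀ q : ↥L ⧸ T.subgroupOf L, φ (f q) = f ((⟨l, hl⟩ : ↥L) • q) := by
        intro q
        apply Subtype.ext
        rw [hf]
        rfl
      simp only [h2]
      exact Fintype.prod_equiv (MulAction.toPerm (⟨l, hl⟩ : ↥L)) _ _ (fun _ => rfl)
    have h3 : l * (w : G) * l⁻¹ = (w : G) := congrArg Subtype.val h1
    calc l * (w : G) = l * (w : G) * l⁻¹ * l := by group
      _ = (w : G) * l := by rw [h3]
  · let z' : ↥Z := ⟨z, hz⟩
    have h1 : ∏ q : ↥L ⧸ T.subgroupOf L, (f q * z'⁻¹) = w * (z' ^ (T.relIndex L))⁻¹ := by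
      rw [Finset.prod_mul_distrib, Finset.prod_const, Finset.card_univ, ← Nat.card_eq_fintype_card,
        inv_pow]
      rfl
    have h2 : ∏ q : ↥L ⧸ T.subgroupOf L, (f q * z'⁻¹) ∈ W.subgroupOf Z := by
      apply Subgroup.prod_mem
      intro q _
      rw [Subgroup.mem_subgroupOf]
      exact hWz _ (q.out).2
    rw [h1, Subgroup.mem_subgroupOf] at h2
    simpa using h2

variable [Finite G] {p : ℕ} [Fact p.Prime]

/-- coprime version: for `T` Sylow in `L`, a `T`-fixed `z` of an elementary abelian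
`L`-normalized `Z` is congruent modulo `W` to an `L`-fixed element of `Z` -/
theorem exists_central_of_sylow (T : Sylow p G) {L Z W : Subgroup G}
    (hTL : (T : Subgroup G) ≤ L) (hZn : L ≤ Subgroup.normalizer (Z : Set G)) (hZ : Cfsg.IsElementaryAbelian p Z) {z : G}
    (hz : z ∈ Z) (hzT : ∀ t ∈ (T : Subgroup G), t * z = z * t) (hW : W ≤ Z)
    (hWz : ∀ g ∈ L, g * z * g⁻¹ * z⁻¹ ∈ W) :
    ∃ w ∈ Z, (∀ l ∈ L, l * w = w * l) ∧ w * z⁻¹ ∈ W := by
  have hp : p.Prime := Fact.out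
  have hZc : ∀ a ∈ Z, ∀ b ∈ Z, a * b = b * a := fun a ha b hb => IsElementaryAbelian_comm hZ ha hb
  obtain ⟨w₀, hw₀Z, hw₀c, hw₀W⟩ := exists_central_avg (T := (T : Subgroup G)) hZn hZc hz hzT hW hWz
  set n := (T : Subgroup G).relIndex L with hn
  have hnp : n.Coprime p := by
    rw [Nat.coprime_comm, Nat.Prime.coprime_iff_not_dvd hp]
    intro hdvd
    exact T.not_dvd_index (hdvd.trans (Dvd.intro _ (Subgroup.relIndex_mul_index hTL)))
  obtain ⟨m, -, hm⟩ := Nat.exists_mul_mod_eq_one_of_coprime hnp hp.one_lt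
  have hzp : z ^ p = 1 := hZ.2 z hz
  have hznm : (z ^ n) ^ m = z := by
    rw [← pow_mul, ← Nat.div_add_mod (n * m) p, hm, pow_add, pow_mul, hzp, one_pow, one_mul, pow_one]
  refine ⟨w₀ ^ m, Z.pow_mem hw₀Z m, ?_, ?_⟩
  · intro l hl
    exact ((show Commute l w₀ from hw₀c l hl).pow_right m)
  · have hc : Commute w₀ (z ^ n)⁻¹ := hZc _ hw₀Z _ (Z.inv_mem (Z.pow_mem hz n))
    have e : w₀ ^ m * z⁻¹ = (w₀ * (z ^ n)⁻¹) ^ m := by
      rw [hc.mul_pow, inv_pow, hznm]
    rw [e]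
    exact W.pow_mem hw₀W m

/-- `L = O^p(L) T` elementwise -/
theorem exists_mul_pResidual_sylow (T : Sylow p G) {L : Subgroup G}
    (hTL : (T : Subgroup G) ≤ L) :
    ∀ l ∈ L, ∃ r ∈ (Cfsg.pResidual p ↥L).map L.subtype, ∃ t ∈ (T : Subgroup G), l = r * t := by
  intro l hl
  obtain ⟨r, hr, s, hs, hrs⟩ := exists_mul_of_le_normalizer_sylow (T.subtype hTL) (le_refl L)
    Subgroup.le_normalizer ((Cfsg.pResidual p ↥L).map L.subtype)
    (fun d hd hcop => ⟨⟨d, hd⟩, mem_pResidual_of_coprime (by rwa [Subgroup.orderOf_mk]), rfl⟩) l hl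
  rw [sylow_subtype_map] at hs
  exact ⟨r, (Subgroup.mem_inf.mp hr).1, s, (Subgroup.mem_inf.mp hs).1, hrs⟩

/-- for `T`-fixed `z ∈ Z`, all `[g, z]` with `g ∈ L` lie in `[Z, O^p(L)]` -/
theorem conj_mul_inv_mem_commutator_pResidual (T : Sylow p G) {L Z : Subgroup G}
    (hTL : (T : Subgroup G) ≤ L) {z : G} (hz : z ∈ Z)
    (hzT : ∀ t ∈ (T : Subgroup G), t * z = z * t) :
    ∀ g ∈ L, g * z * g⁻¹ * z⁻¹ ∈ ⁅Z, (Cfsg.pResidual p ↥L).map L.subtype⁆ := by
  intro g hg
  obtain ⟨r, hr, t, ht, rfl⟩ := exists_mul_pResidual_sylow T hTL g hg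
  have e : r * t * z * (r * t)⁻¹ * z⁻¹ = ⁅r, z⁆ := by
    rw [commutatorElement_def, mul_assoc r t z, hzT t ht]
    group
  rw [e, Subgroup.commutator_comm]
  exact Subgroup.commutator_mem_commutator hr hz

/-- a central element of order dividing `p` of `L ≥ T` lies in `Ω₁(Z(T))` -/
theorem mem_omegaOne_center_sylow_of_central (T : Sylow p G) {L : Subgroup G}
    (hTL : (T : Subgroup G) ≤ L) {w : G} (hwL : w ∈ L) (hwc : ∀ l ∈ L, l * w = w * l)
    (hwp : w ^ p = 1) :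
    w ∈ Cfsg.omegaOne p ((T : Subgroup G) ⊓ Subgroup.centralizer ((T : Subgroup G) : Set G)) := by
  apply mem_omegaOne _ hwp
  refine Subgroup.mem_inf.mpr ⟨?_, ?_⟩
  · have h1 : Subgroup.zpowers w ≤ Cfsg.pCoreOf p L := by
      apply le_pCoreOf
      · rw [Subgroup.zpowers_le]; exact hwL
      · by_cases h : w = 1
        · apply IsPGroup.of_card (n := 0)
          rw [Nat.card_zpowers, h]
          simp
        · apply IsPGroup.of_card (n := 1)
          rw [Nat.card_zpowers, pow_one]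
          exact orderOf_eq_prime hwp h
      · intro l hl
        apply Subgroup.centralizer_le_normalizer
        rw [Subgroup.mem_centralizer_iff]
        rintro _ ⟨k, rfl⟩
        exact (((show Commute l w from hwc l hl).zpow_right k).eq).symm
    exact pCoreOf_le_sylow T hTL (h1 (Subgroup.mem_zpowers w))
  · rw [Subgroup.mem_centralizer_iff]
    intro t ht
    exact hwc t (hTL ht)

/-- `Z_L = Ω₁(Z(L)) [Z_L, O^p(L)]` and `[Z_L, L] = [Z_L, O^p(L)]` for `L` of characteristic `p` -/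
theorem sylowCenterClosure_eq_sup (T : Sylow p G) {L : Subgroup G} (hTL : (T : Subgroup G) ≤ L)
    (hL : L ⊓ Subgroup.centralizer (Cfsg.pCoreOf p L : Set G) ≤ Cfsg.pCoreOf p L) :
    Cfsg.sylowCenterClosure p L = Cfsg.omegaOne p (L ⊓ Subgroup.centralizer (L : Set G)) ⊔
        ⁅Cfsg.sylowCenterClosure p L, (Cfsg.pResidual p ↥L).map L.subtype⁆ ∧
      ⁅Cfsg.sylowCenterClosure p L, L⁆ =
        ⁅Cfsg.sylowCenterClosure p L, (Cfsg.pResidual p ↥L).map L.subtype⁆ := by
  have hZle := sylowCenterClosure_le_omegaOne_center hL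
  set Z := Cfsg.sylowCenterClosure p L with hZdef
  set R := (Cfsg.pResidual p ↥L).map L.subtype with hRdef
  set W := ⁅Z, R⁆ with hWdef
  have hCL : Cfsg.omegaOne p (L ⊓ Subgroup.centralizer (L : Set G)) ≤
      L ⊓ Subgroup.centralizer (L : Set G) := omegaOne_le p _
  set C := Cfsg.omegaOne p (L ⊓ Subgroup.centralizer (L : Set G)) with hCdef
  have hZea : Cfsg.IsElementaryAbelian p Z :=
    IsElementaryAbelian_of_le (omegaOne_center_isElementaryAbelian p _) hZle
  have hZL : Z ≤ L := hZle.trans ((omegaOne_le p _).trans (inf_le_left.trans (pCoreOf_le p L)))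
  have hZn : L ≤ Subgroup.normalizer (Z : Set G) := le_normalizer_sylowCenterClosure L
  have hRL : R ≤ L := Subgroup.map_subtype_le _
  have hRn : L ≤ Subgroup.normalizer (R : Set G) := le_normalizer_map_subtype_of_normal L _
  have hWZ : W ≤ Z := Subgroup.le_normalizer_iff_commutator_le_left.mp (hRL.trans hZn)
  have hWn : L ≤ Subgroup.normalizer (W : Set G) := by
    intro l hl
    rw [← cj_eq_self_iff, hWdef, Subgroup.map_commutator, cj_eq_self_iff.mpr (hZn hl),
      cj_eq_self_iff.mpr (hRn hl)]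
  have hCn : L ≤ Subgroup.normalizer ((C ⊔ W : Subgroup G) : Set G) := by
    intro l hl
    rw [← cj_eq_self_iff, cj_sup, cj_eq_self_iff.mpr (hWn hl)]
    congr 1
    apply cj_eq_of_le
    rintro _ ⟨c, hc, rfl⟩
    have h1 := Subgroup.mem_centralizer_iff.mp (Subgroup.mem_inf.mp (hCL hc)).2 l hl
    show l * c * l⁻¹ ∈ C
    rw [h1, mul_inv_cancel_right]
    exact hc
  have hZ₀ : Cfsg.omegaOne p ((T : Subgroup G) ⊓
      Subgroup.centralizer ((T : Subgroup G) : Set G)) ≤ C ⊔ W := by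
    show Subgroup.closure _ ≤ _
    rw [Subgroup.closure_le]
    rintro z ⟨hzT, hzp⟩
    have hzZ : z ∈ Z := omegaOne_center_sylow_le_sylowCenterClosure T hTL (mem_omegaOne hzT hzp)
    have hzc : ∀ t ∈ (T : Subgroup G), t * z = z * t := fun t ht =>
      Subgroup.mem_centralizer_iff.mp (Subgroup.mem_inf.mp hzT).2 t ht
    obtain ⟨w, hwZ, hwc, hwW⟩ := exists_central_of_sylow T hTL hZn hZea hzZ hzc hWZ
      (conj_mul_inv_mem_commutator_pResidual T hTL hzZ hzc)
    have hwC : w ∈ C := mem_omegaOne (Subgroup.mem_inf.mpr ⟨hZL hwZ,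
      Subgroup.mem_centralizer_iff.mpr (fun l hl => hwc l hl)⟩) (hZea.2 w hwZ)
    have e : z = (w * z⁻¹)⁻¹ * w := by group
    show z ∈ C ⊔ W
    rw [e]
    exact Subgroup.mul_mem _ (Subgroup.mem_sup_right (W.inv_mem hwW)) (Subgroup.mem_sup_left hwC)
  have hZB : Z ≤ C ⊔ W := by
    rw [hZdef, sylowCenterClosure_eq]
    apply iSup_le
    intro S
    obtain ⟨l, rfl⟩ := MulAction.exists_smul_eq ↥L (T.subtype hTL) S
    rw [zTerm_smul]
    have h1 : zTerm p L (T.subtype hTL) = Cfsg.omegaOne p ((T : Subgroup G) ⊓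
        Subgroup.centralizer ((T : Subgroup G) : Set G)) := by
      unfold zTerm; rw [sylow_subtype_map]
    rw [h1]
    calc cj((l : G), Cfsg.omegaOne p ((T : Subgroup G) ⊓
          Subgroup.centralizer ((T : Subgroup G) : Set G))) ≤ cj((l : G), C ⊔ W) := cj_mono hZ₀
      _ = C ⊔ W := cj_eq_self_iff.mpr (hCn l.2)
  have hBZ : C ⊔ W ≤ Z := by
    refine sup_le ?_ hWZ
    show Subgroup.closure _ ≤ _
    rw [Subgroup.closure_le]
    rintro x ⟨hx, hxp⟩
    exact omegaOne_center_sylow_le_sylowCenterClosure T hTL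
      (mem_omegaOne_center_sylow_of_central T hTL (Subgroup.mem_inf.mp hx).1
        (fun l hl => Subgroup.mem_centralizer_iff.mp (Subgroup.mem_inf.mp hx).2 l hl) hxp)
  refine ⟨le_antisymm hZB hBZ, le_antisymm ?_ (Subgroup.commutator_mono le_rfl hRL)⟩
  rw [Subgroup.commutator_le]
  intro x hx l hl
  have hxB := hZB hx
  rw [← SetLike.mem_coe, Subgroup.coe_mul_of_left_le_normalizer_right C W
    (hCL.trans (inf_le_left.trans hWn))] at hxB
  obtain ⟨a, ha, b, hb, rfl⟩ := Set.mem_mul.mp hxB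
  have hac := Subgroup.mem_centralizer_iff.mp (Subgroup.mem_inf.mp (hCL ha)).2
  have hal : Commute a l := (hac l hl).symm
  have hab : Commute a b := (hac b (hZL (hWZ hb))).symm
  have h3 : Commute a (b * l * b⁻¹) := (hab.mul_right hal).mul_right hab.inv_right
  have e : ⁅a * b, l⁆ = b * (l * b⁻¹ * l⁻¹) := by
    rw [commutatorElement_def]
    calc a * b * l * (a * b)⁻¹ * l⁻¹ = (a * (b * l * b⁻¹)) * a⁻¹ * l⁻¹ := by group
      _ = (b * l * b⁻¹) * a * a⁻¹ * l⁻¹ := by rw [h3.eq]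
      _ = b * (l * b⁻¹ * l⁻¹) := by group
  rw [e]
  exact W.mul_mem hb ((Subgroup.mem_normalizer_iff.mp (hWn hl) b⁻¹).mp (W.inv_mem hb))

end avg

end Cfsg.Agent.Helper47
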