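/-
helper47: piece H of CALL S1352 (helper22, B&G 14.2): a Sylow r-subgroup of E not centralizing Q has r outside kappa(M).
-/
import Cfsg.Agent.Helper22.BG14Defs
import Cfsg.Agent.Helper23.Uniq
import Cfsg.Agent.Helper22.BG10a
import Cfsg.Agent.Helper47.BG14SET2

set_option autoImplicit false

namespace Cfsg.Agent.Helper47

open Cfsg Subgroup Cfsg.Agent.Helper23

universe u

variable {G : Type u} [Group G] [Finite G]

/-- PIECE H: a Sylow `r`-subgroup of `E` not centralizing `Q ≤ K` has `r ∉ κ(M)`. -/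
theorem bg14_not_kappa {M K E Q S : Subgroup G} (hKc : IsCyclic K) (hK : IsPiHallOf (kappa M) K M)
    (hKE : K ≤ E) (hEM : E ≤ M) (hQK : Q ≤ K) (hEQ : E ≤ normalizer (Q : Set G)) {r : ℕ}
    [Fact r.Prime] (hS : IsSylowOf r S E) (hSQ : ¬ S ≤ centralizer (Q : Set G)) : r ∉ kappa M := by
  intro hr
  have hrp : r.Prime := hr.1
  obtain ⟨P⟩ : Nonempty (Sylow r ↥K) := Sylow.nonempty
  have hS0K : (P : Subgroup ↥K).map K.subtype ≤ K := Subgroup.map_subtype_le _
  have hidx := bg14_sylow_of_hall_aux hK hr P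
  have hS0E : (P : Subgroup ↥K).map K.subtype ≤ E := hS0K.trans hKE
  have hidxE : ¬ r ∣ (((P : Subgroup ↥K).map K.subtype).subgroupOf E).index := by
    intro h
    apply hidx
    rw [← Subgroup.relIndex_mul_relIndex _ _ _ hS0E hEM]
    exact Dvd.dvd.mul_right h _
  have hS0p : IsPGroup r ((P : Subgroup ↥K).map K.subtype) := P.2.map _
  have hS0 : IsSylowOf r ((P : Subgroup ↥K).map K.subtype) E := by
    have h1 : IsSylowOf r ((((P : Subgroup ↥K).map K.subtype).subgroupOf E).map E.subtype) E :=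
      isSylowOf_map ((hS0p.comap_subtype (K := E)).toSylow hidxE)
    rw [Subgroup.map_subgroupOf_eq_of_le hS0E] at h1
    exact h1
  obtain ⟨g, hgE, hSeq⟩ := Cfsg.Agent.Helper22.bg10_sylow_conj hS0 hS
  apply hSQ
  intro s hs
  rw [Subgroup.mem_centralizer_iff]
  intro c hc
  rw [hSeq, Cfsg.Agent.Helper35.mem_conj_smul] at hs
  have hsK : g⁻¹ * s * g ∈ K := hS0K hs
  have hgN : g⁻¹ ∈ normalizer (Q : Set G) := Subgroup.inv_mem _ (hEQ hgE)
  have hcK : g⁻¹ * c * g ∈ K := by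
    have := (Subgroup.mem_normalizer_iff.mp hgN c).mp hc
    rw [inv_inv] at this
    exact hQK this
  have hcomm : (⟨g⁻¹ * c * g, hcK⟩ : ↥K) * ⟨g⁻¹ * s * g, hsK⟩
      = ⟨g⁻¹ * s * g, hsK⟩ * ⟨g⁻¹ * c * g, hcK⟩ := by
    have := hKc.isMulCommutative
    exact mul_comm' _ _
  have h2 := congrArg Subtype.val hcomm
  simp only [Subgroup.coe_mul] at h2
  have e1 : c * s = g * ((g⁻¹ * c * g) * (g⁻¹ * s * g)) * g⁻¹ := by group
  have e2 : s * c = g * ((g⁻¹ * s * g) * (g⁻¹ * c * g)) * g⁻¹ := by group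
  rw [e1, e2, h2]

end Cfsg.Agent.Helper47
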