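import Mathlib
import Cfsg.Agent.S3745
import Cfsg.Agent.Helper23.Uniq
import Cfsg.Agent.Helper23.Trans
import Cfsg.Agent.Helper47.BG15bTools

/-!
# CALL S1437 (BG15b), piece DX (helper47): a `K`-invariant complement of the Sylow `q`-subgroup
of `M_σ` (coprime action, S3745).
-/

set_option autoImplicit false

namespace Cfsg.Agent.Helper47

open Cfsg Subgroup

universe u

variable {G : Type u} [Group G] [Finite G]

/-- DX. A `K`-invariant complement of the Sylow `q`-subgroup `Q` of `M_σ`. -/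
theorem bg15b_exists_D (hG : IsMinSimpleOddOrder G) {M K U Q : Subgroup G} (hM : IsCoatom M)
    (hKU : IsSigmaDecomposition M K U) (hQS : Q ≤ sigmaCore M) {q : ℕ} (hq : q.Prime)
    (hQq : IsPGroup q Q) (hQi : ¬ q ∣ Q.relIndex (sigmaCore M)) (hQ1 : Q ≠ ⊥) :
    ∃ D₀ : Subgroup G, IsComplIn Q D₀ (sigmaCore M) ∧ K ≤ normalizer (D₀ : Set G) := by
  have hSM : sigmaCore M ≤ M := Subgroup.map_subtype_le _
  have hStop : sigmaCore M ≠ ⊤ := fun h => hM.1 (top_le_iff.mp (h ▸ hSM))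
  have hsolv : Group.IsSolvable ↥(sigmaCore M) := Cfsg.Agent.Helper23.uq_isSolvable hG hStop
  have hKM : K ≤ M := hKU.hall.1
  have hKn : K ≤ normalizer ((sigmaCore M : Subgroup G) : Set G) :=
    hKM.trans (Cfsg.Agent.Helper23.le_normalizer_piCoreOf (sigma M) M)
  have hcop : (Nat.card K).Coprime (Nat.card (sigmaCore M)) := by
    apply Nat.coprime_of_dvd
    intro p hp h1 h2
    have hk := hKU.hall.2.1 p hp h1
    have hs : p ∈ sigma M := Cfsg.Agent.Helper23.mem_of_dvd_card_piCoreOf (sigma M) M hp h2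
    exact hk.2.2.1 hs
  obtain ⟨⟨H, hH, hKH⟩, -, -⟩ :=
    Cfsg.Agent.S3745.result K (sigmaCore M) hKn hcop hsolv {p | p.Prime ∧ p ≠ q}
  refine ⟨H, bg15b_complIn_of_hall hq hQS hH.1 hQq hQi ?_ ?_, hKH⟩
  · intro hdvd
    exact (hH.2.1 q hq hdvd).2 rfl
  · intro p hp hdvd
    by_contra hne
    exact hH.2.2 p hp ⟨hp, hne⟩ hdvd

end Cfsg.Agent.Helper47
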