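import Mathlib
import Cfsg.Agent.S1434

/-!
# CALL BG36 (helper2, row S1436), piece KE1 (helper47, double): a prime of `σ(M)` dividing the
order of an element of `M*` lies in `κ(M*)`.
-/

set_option autoImplicit false

namespace Cfsg.Agent.Helper47

open Cfsg Subgroup

universe u

variable {G : Type u} [Group G] [Finite G]

theorem bg36_primes_kappa (hG : IsMinSimpleOddOrder G) {M K U Ms : Subgroup G} (hM : IsCoatom M)
    (hKU : IsSigmaDecomposition M K U) (hK1 : K ≠ ⊥) (hMs : IsCoatom Ms)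
    (hKst : K = sigmaCore Ms ⊓ centralizer ((sigmaCore M ⊓ centralizer (K : Set G) : Subgroup G) : Set G))
    (hKstH : IsPiHallOf (kappa Ms) (sigmaCore M ⊓ centralizer (K : Set G)) Ms)
    {y : G} (hy : y ∈ Ms) {s : ℕ} (hs : s.Prime) (hsy : s ∣ orderOf y) (hsσ : s ∈ sigma M) :
    s ∈ kappa Ms := by
  have h2 := (Cfsg.Agent.S1434.result hG M hM K U hKU hK1 Ms hMs hKst hKstH).2.1
  have hsMs : s ∣ Nat.card Ms := hsy.trans (Subgroup.orderOf_dvd_natCard Ms hy)
  have hni : ¬ s ∣ (sigmaCore M ⊓ centralizer (K : Set G)).relIndex Ms := h2.2.2 s hs hsσ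
  have hmul : Nat.card ↥(sigmaCore M ⊓ centralizer (K : Set G)) *
      (sigmaCore M ⊓ centralizer (K : Set G)).relIndex Ms = Nat.card Ms := by
    have h3 := Subgroup.relIndex_mul_relIndex ⊥ (sigmaCore M ⊓ centralizer (K : Set G)) Ms
      bot_le h2.1
    rw [Subgroup.relIndex_bot_left, Subgroup.relIndex_bot_left] at h3
    exact h3
  rw [← hmul] at hsMs
  rcases (Nat.Prime.dvd_mul hs).mp hsMs with h | h
  · exact hKstH.2.1 s hs h
  · exact absurd h hni

end Cfsg.Agent.Helper47
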