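import Cfsg.Agent.Helper23.BG65Defs
import Cfsg.Agent.S1364
import Cfsg.Agent.S1367
import Cfsg.Agent.S1431

/-!
# CALL S1435 (BG65), piece FIN1 (helper47): `E ≤ M*` when `K ≤ E` centralizes `[E, E]`.
-/

set_option autoImplicit false

namespace Cfsg.Agent.Helper47

open Cfsg Subgroup

open scoped commutatorElement

universe u

variable {G : Type u} [Group G] [Finite G] {M K U Mstar H : Subgroup G}

/-- FIN1. `E ≤ M*` when `K ≤ E` centralizes `[E, E]`. -/
theorem bg65_E_le_Ms (c : Cfsg.Agent.Helper23.BG65Ctx M K U Mstar)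
    (h : Cfsg.Agent.Helper23.BG65H M K U Mstar H) {E : Subgroup G}
    (hE : IsComplIn E (sigmaCore H) H) (hKE : K ≤ E)
    (hcent : ∀ k ∈ K, ∀ a ∈ ⁅E, E⁆, k * a = a * k) : E ≤ Mstar := by
  have hG := c.hG
  have hKs1 : sigmaCore M ⊓ centralizer (K : Set G) ≠ ⊥ :=
    (Cfsg.Agent.S1364.result hG M c.hM K U c.hKU c.hK1).2.1
  have hCK : centralizer (K : Set G) ≤ Mstar :=
    ((Cfsg.Agent.S1367.result hG M c.hM K U c.hKU c.hK1 Mstar c.hMstar c.hKst c.hKstH).2 K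
      le_rfl h.hKp).1
  have h31 := (Cfsg.Agent.S1431.result hG Mstar c.hMstar
    (sigmaCore M ⊓ centralizer (K : Set G)) c.hKstH hKs1).1
  have hKc : ∀ a ∈ K, ∀ b ∈ K, a * b = b * a := by
    intro a ha b hb
    have hcyc := c.hKU.cyclic
    obtain ⟨g, hg⟩ := hcyc.exists_generator
    obtain ⟨m, hm⟩ := Subgroup.mem_zpowers_iff.mp (hg ⟨a, ha⟩)
    obtain ⟨n, hn⟩ := Subgroup.mem_zpowers_iff.mp (hg ⟨b, hb⟩)
    have h1 : (⟨a, ha⟩ : K) * ⟨b, hb⟩ = ⟨b, hb⟩ * ⟨a, ha⟩ := by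
      rw [← hm, ← hn, ← zpow_add, ← zpow_add, add_comm]
    exact congrArg Subtype.val h1
  intro e he
  by_contra heM
  have heM' : e⁻¹ ∉ Mstar := fun h1 => heM (by simpa using Mstar.inv_mem h1)
  have hbot := h31 e⁻¹ heM'
  apply c.hK1
  rw [eq_bot_iff]
  intro k hk
  rw [← hbot]
  refine ⟨?_, ?_⟩
  · have h1 : k ∈ sigmaCore Mstar ⊓
        centralizer ((sigmaCore M ⊓ centralizer (K : Set G) : Subgroup G) : Set G) := by
      rw [← c.hKst]
      exact hk
    exact h1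
  · refine Subgroup.mem_map.mpr ⟨e * k * e⁻¹, hCK ?_, ?_⟩
    · refine Subgroup.mem_centralizer_iff.mpr ?_
      intro k' hk'
      have hcomm : e * k * e⁻¹ * k⁻¹ ∈ ⁅E, E⁆ := by
        rw [← commutatorElement_def]
        exact Subgroup.commutator_mem_commutator he (hKE hk)
      have h1 := hcent k' hk' _ hcomm
      have h2 := hKc k' hk' k hk
      calc k' * (e * k * e⁻¹) = k' * (e * k * e⁻¹ * k⁻¹) * k := by group
        _ = (e * k * e⁻¹ * k⁻¹) * k' * k := by rw [h1]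
        _ = (e * k * e⁻¹ * k⁻¹) * (k' * k) := by group
        _ = (e * k * e⁻¹ * k⁻¹) * (k * k') := by rw [h2]
        _ = e * k * e⁻¹ * k' := by group
    · show (MulAut.conj e⁻¹) (e * k * e⁻¹) = k
      rw [MulAut.conj_apply]
      group

end Cfsg.Agent.Helper47
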