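import Cfsg.Prelude.Def_LocalStructure
import Cfsg.Prelude.Def_Local
import Cfsg.Agent.Helper47.Coprime
import Mathlib.Tactic.Group

set_option autoImplicit false

namespace Cfsg.Agent.Helper47

open scoped commutatorElement Pointwise

section pcore

variable {G : Type*} [Group G] {p : ℕ}

theorem pCore_isPGroup (p : ℕ) (G : Type*) [Group G] [Fact p.Prime] [Finite G] :
    IsPGroup p ↥(Cfsg.pCore p G) :=
  Sylow.sSup_of_normal _ (fun _ hK => hK.2) (fun _ hK => hK.1)

theorem mem_pCore_pow [Fact p.Prime] [Finite G] {c : G} (hc : c ∈ Cfsg.pCore p G) :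
    ∃ k : ℕ, c ^ (p ^ k) = 1 := by
  obtain ⟨k, hk⟩ := pCore_isPGroup p G ⟨c, hc⟩
  exact ⟨k, by simpa using congrArg Subtype.val hk⟩

theorem isPGroup_pow {P : Subgroup G} (hP : IsPGroup p ↥P) {c : G} (hc : c ∈ P) :
    ∃ k : ℕ, c ^ (p ^ k) = 1 := by
  obtain ⟨k, hk⟩ := hP ⟨c, hc⟩
  exact ⟨k, by simpa using congrArg Subtype.val hk⟩

theorem isPGroup_of_pow {P : Subgroup G} (h : ∀ c ∈ P, ∃ k : ℕ, c ^ (p ^ k) = 1) :
    IsPGroup p ↥P := by
  intro g
  obtain ⟨k, hk⟩ := h g g.2
  exact ⟨k, Subtype.ext (by simpa using hk)⟩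

theorem le_pCore {N : Subgroup G} (hN : N.Normal) (hp : IsPGroup p ↥N) : N ≤ Cfsg.pCore p G :=
  le_sSup ⟨hN, hp⟩

theorem pCore_le_sylow [Fact p.Prime] [Finite G] (P : Sylow p G) : Cfsg.pCore p G ≤ P :=
  (pCore_isPGroup p G).le_sylow_of_normal P

instance pCore_characteristic [Fact p.Prime] [Finite G] : (Cfsg.pCore p G).Characteristic := by
  rw [Subgroup.characteristic_iff_map_le]
  intro φ
  refine le_pCore ?_ ((pCore_isPGroup p G).map _)
  exact Subgroup.Normal.map inferInstance _ φ.surjective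

theorem orderOf_conj_equiv {H : Type*} [Group H] (φ : G ≃* H) (g : G) : orderOf (φ g) = orderOf g :=
  MulEquiv.orderOf_eq φ g

instance pResidual_characteristic : (Cfsg.pResidual p G).Characteristic := by
  rw [Subgroup.characteristic_iff_map_le]
  intro φ
  unfold Cfsg.pResidual
  rw [MonoidHom.map_closure, Subgroup.closure_le]
  rintro _ ⟨g, hg, rfl⟩
  apply Subgroup.subset_closure
  show (orderOf (φ g)).Coprime p
  rw [MulEquiv.orderOf_eq φ g]
  exact hg

instance pResidual_normal : (Cfsg.pResidual p G).Normal := inferInstance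

theorem mem_pResidual_of_coprime {g : G} (hg : (orderOf g).Coprime p) : g ∈ Cfsg.pResidual p G :=
  Subgroup.subset_closure hg

/-- every element has a `p`-power power in `O^p(G)`. -/
theorem exists_pow_mem_pResidual [hp : Fact p.Prime] [Finite G] (g : G) :
    ∃ k : ℕ, g ^ (p ^ k) ∈ Cfsg.pResidual p G := by
  have hn : orderOf g ≠ 0 := (orderOf_pos g).ne'
  obtain ⟨e, n', hn', hgn⟩ := Nat.exists_eq_pow_mul_and_not_dvd hn p hp.out.ne_one
  refine ⟨e, mem_pResidual_of_coprime ?_⟩
  have hpe : p ^ e ≠ 0 := pow_ne_zero _ hp.out.ne_zero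
  rw [orderOf_pow' g hpe, hgn]
  have hg : Nat.gcd (p ^ e * n') (p ^ e) = p ^ e := Nat.gcd_eq_right (Dvd.intro _ rfl)
  rw [hg, Nat.mul_div_cancel_left _ (Nat.pos_of_ne_zero hpe)]
  exact ((Nat.Prime.coprime_iff_not_dvd hp.out).mpr hn').symm

theorem pResidual_quotient_isPGroup [Fact p.Prime] [Finite G] :
    IsPGroup p (G ⧸ Cfsg.pResidual p G) := by
  intro q
  obtain ⟨g, rfl⟩ := QuotientGroup.mk_surjective q
  obtain ⟨k, hk⟩ := exists_pow_mem_pResidual (p := p) g
  refine ⟨k, ?_⟩
  rw [← QuotientGroup.mk_pow]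
  exact (QuotientGroup.eq_one_iff _).mpr hk

/-- `O^p(G) ≤ N` as soon as every element has a `p`-power power in `N`. -/
theorem pResidual_le_of_forall_pow_mem [Fact p.Prime] {N : Subgroup G}
    (h : ∀ g : G, (orderOf g).Coprime p → ∃ k : ℕ, g ^ (p ^ k) ∈ N) : Cfsg.pResidual p G ≤ N := by
  unfold Cfsg.pResidual
  rw [Subgroup.closure_le]
  intro g hg
  obtain ⟨k, hk⟩ := h g hg
  have hcop : (p ^ k).Coprime (orderOf g) := Nat.Coprime.pow_left k (Nat.Coprime.symm hg)
  obtain ⟨m, hm⟩ := exists_pow_eq_self_of_coprime hcop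
  rw [SetLike.mem_coe, ← hm]
  exact N.pow_mem hk m

theorem pResidual_le_of_quotient_isPGroup [Fact p.Prime] {N : Subgroup G} [N.Normal]
    (h : IsPGroup p (G ⧸ N)) : Cfsg.pResidual p G ≤ N := by
  apply pResidual_le_of_forall_pow_mem
  intro g _
  obtain ⟨k, hk⟩ := h (g : G ⧸ N)
  refine ⟨k, ?_⟩
  rw [← QuotientGroup.mk_pow] at hk
  exact (QuotientGroup.eq_one_iff _).mp hk

end pcore

section sylow

variable {G : Type*} [Group G] [Finite G] {p : ℕ} [hp : Fact p.Prime]

theorem card_mul_relIndex {A B : Subgroup G} (h : A ≤ B) :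
    Nat.card A * A.relIndex B = Nat.card B := by
  have := Subgroup.relIndex_mul_relIndex ⊥ A B bot_le h
  rwa [Subgroup.relIndex_bot_left, Subgroup.relIndex_bot_left] at this

theorem relIndex_sup_of_normal (P N : Subgroup G) [N.Normal] :
    P.relIndex (P ⊔ N) = P.relIndex N := by
  have h1 : Nat.card N * N.relIndex (P ⊔ N) = Nat.card ↥(P ⊔ N) := card_mul_relIndex le_sup_right
  rw [Subgroup.relIndex_sup_right] at h1
  have h2 : Nat.card ↥(N ⊓ P) * (N ⊓ P).relIndex P = Nat.card P := card_mul_relIndex inf_le_right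
  rw [Subgroup.inf_relIndex_right] at h2
  have h3 : Nat.card P * P.relIndex (P ⊔ N) = Nat.card ↥(P ⊔ N) := card_mul_relIndex le_sup_left
  have h4 : Nat.card ↥(P ⊓ N) * (P ⊓ N).relIndex N = Nat.card N := card_mul_relIndex inf_le_right
  rw [Subgroup.inf_relIndex_right] at h4
  have hc : Nat.card ↥(N ⊓ P) = Nat.card ↥(P ⊓ N) := by rw [inf_comm]
  have hpos : 0 < Nat.card P := Nat.card_pos
  have hpos2 : 0 < Nat.card ↥(P ⊓ N) := Nat.card_pos
  have key : Nat.card P * P.relIndex (P ⊔ N) = Nat.card P * P.relIndex N := by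
    rw [h3, ← h1, ← h4, ← h2, hc]
    ring
  exact Nat.eq_of_mul_eq_mul_left hpos key

/-- The intersection of a Sylow subgroup with a normal subgroup, as a Sylow subgroup of the
normal subgroup. -/
noncomputable def sylowInfNormal (P : Sylow p G) (N : Subgroup G) [N.Normal] : Sylow p ↥N :=
  (P.isPGroup'.comap_subtype (K := N)).toSylow (by
    show ¬ p ∣ (P : Subgroup G).relIndex N
    rw [← relIndex_sup_of_normal]
    intro hdvd
    exact P.not_dvd_index (hdvd.trans (Subgroup.relIndex_dvd_index_of_le le_sup_left)))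

theorem sylowInfNormal_coe (P : Sylow p G) (N : Subgroup G) [N.Normal] :
    ((sylowInfNormal P N : Sylow p ↥N) : Subgroup ↥N) = (P : Subgroup G).subgroupOf N := rfl

theorem sylowInfNormal_map (P : Sylow p G) (N : Subgroup G) [N.Normal] :
    ((sylowInfNormal P N : Sylow p ↥N) : Subgroup ↥N).map N.subtype = (P : Subgroup G) ⊓ N := by
  rw [sylowInfNormal_coe, Subgroup.subgroupOf_map_subtype]

/-- `O^p(G) · P = G` for a Sylow `p`-subgroup `P`. -/
theorem pResidual_sup_sylow (P : Sylow p G) : Cfsg.pResidual p G ⊔ (P : Subgroup G) = ⊤ := by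
  rw [← Subgroup.index_eq_one]
  have h1 : (Cfsg.pResidual p G ⊔ (P : Subgroup G)).index ∣ (P : Subgroup G).index :=
    Subgroup.index_dvd_of_le le_sup_right
  have h2 : (Cfsg.pResidual p G ⊔ (P : Subgroup G)).index ∣ (Cfsg.pResidual p G).index :=
    Subgroup.index_dvd_of_le le_sup_left
  obtain ⟨n, hn⟩ := (IsPGroup.iff_card.mp (pResidual_quotient_isPGroup (p := p) (G := G)))
  rw [← Subgroup.index_eq_card] at hn
  rw [hn] at h2
  have hcop : (p ^ n).Coprime (P : Subgroup G).index :=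
    Nat.Coprime.pow_left n ((Nat.Prime.coprime_iff_not_dvd hp.out).mpr P.not_dvd_index)
  exact Nat.eq_one_of_dvd_coprimes hcop h2 h1

/-- A finite group is `p`-closed iff some Sylow `p`-subgroup is normal. -/
theorem isPClosed_of_normal_sylow (P : Sylow p G) (h : (P : Subgroup G).Normal) :
    Cfsg.IsPClosed p G := by
  intro Q
  obtain ⟨g, rfl⟩ := MulAction.exists_smul_eq G P Q
  rw [Sylow.smul_eq_of_normal]
  exact h

theorem sylow_eq_pCore_of_isPClosed (h : Cfsg.IsPClosed p G) (P : Sylow p G) :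
    (P : Subgroup G) = Cfsg.pCore p G :=
  le_antisymm (le_pCore (h P) P.isPGroup') (pCore_le_sylow P)

/-- the image in `G` of a characteristic subgroup of a normal subgroup is normal -/
theorem normal_map_of_characteristic (N : Subgroup G) [hN : N.Normal] (K : Subgroup ↥N)
    [K.Characteristic] : (K.map N.subtype).Normal := by
  rw [← Subgroup.normalizer_eq_top_iff, eq_top_iff]
  refine le_trans ?_ (normalizer_le_normalizer_map_of_characteristic N K)
  rw [Subgroup.normalizer_eq_top_iff.mpr hN]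

end sylow

end Cfsg.Agent.Helper47
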