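import Cfsg.Agent.Helper47.SubY
import Cfsg.Agent.Helper35.Coprime
import Cfsg.Agent.Helper2.PGroup

set_option autoImplicit false

namespace Cfsg.Agent.Helper47

open scoped commutatorElement Pointwise

local notation "cj(" g "," Q ")" => Subgroup.map (MulEquiv.toMonoidHom (MulAut.conj g)) Q

section burn

variable {G : Type*} [Group G] {p : ℕ} [Finite G] [Fact p.Prime]

/-- Burnside: a `p'`-element `x` normalizing the `p`-group `P` with `[P, x] ≤ P'` centralizes `P` -/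
theorem le_centralizer_of_commutator_le_commutator {P : Subgroup G} (hP : IsPGroup p ↥P) {x : G}
    (hx : x ∈ Subgroup.normalizer (P : Set G)) (hxo : (orderOf x).Coprime p)
    (h : ⁅P, Subgroup.zpowers x⁆ ≤ ⁅P, P⁆) :
    P ≤ Subgroup.centralizer (Subgroup.zpowers x : Set G) := by
  have hAK : Subgroup.zpowers x ≤ Subgroup.normalizer (P : Set G) := by
    rw [Subgroup.zpowers_le]; exact hx
  have hcop : (Nat.card (Subgroup.zpowers x)).Coprime (Nat.card P) := by
    rw [Nat.card_zpowers]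
    obtain ⟨n, hn⟩ := IsPGroup.iff_card.mp hP
    rw [hn]; exact Nat.Coprime.pow_right n hxo
  have hsolv : Group.IsSolvable (Subgroup.zpowers x) ∨ Group.IsSolvable P := Or.inl inferInstance
  have key : (P ⊓ Subgroup.centralizer (Subgroup.zpowers x : Set G)).subgroupOf P = ⊤ := by
    apply frattini_nongenerating
    rw [eq_top_iff]
    intro k _
    obtain ⟨n, hn, c, hc, hk⟩ := Cfsg.Agent.Helper35.exists_commutator_mul_fixed hAK hcop hsolv k.2
    have hn' : n ∈ ⁅P, P⁆ := h hn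
    rw [← Subgroup.map_subtype_commutator] at hn'
    obtain ⟨n'', hn'', rfl⟩ := hn'
    have e : k = n'' * ⟨c, hc.1⟩ := Subtype.ext hk
    rw [e]
    exact Subgroup.mul_mem _
      (Subgroup.mem_sup_right (Cfsg.Agent.Helper2.commutator_le_frattini_of_isPGroup hP hn''))
      (Subgroup.mem_sup_left (Subgroup.mem_subgroupOf.mpr hc))
  intro a ha
  have h1 : (⟨a, ha⟩ : ↥P) ∈ (P ⊓ Subgroup.centralizer (Subgroup.zpowers x : Set G)).subgroupOf P := by
    rw [key]; exact Subgroup.mem_top _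
  exact (Subgroup.mem_inf.mp (Subgroup.mem_subgroupOf.mp h1)).2

/-- the `[Y, A] ≤ [I, A]` criterion for `Y ≤ O_p(L)` -/
theorem le_pCoreOf_of_commutator_le_frakM (S : Sylow p G) {Q : Subgroup G} (hQp : IsPGroup p ↥Q)
    (hQ1 : Q ≠ ⊥) (hQ : Cfsg.IsLarge Q) {M : Subgroup G} (hSM : (S : Subgroup G) ≤ M)
    (hM : Cfsg.IsInFrakM p M) {I : Subgroup G} (hI1 : I ≠ ⊥) (hIp : IsPGroup p ↥I)
    (hMI : M ≤ Subgroup.normalizer (I : Set G)) {Y : Subgroup G}
    (hY : Y ≤ Cfsg.pCoreOf p (M ⊔ Subgroup.centralizer (Cfsg.largestPReducedOf p M : Set G)))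
    {L : Subgroup G} (hYL : Y ≤ L) {A : Subgroup G} (hAp : IsPGroup p ↥A)
    (hLA : L ≤ Subgroup.normalizer (A : Set G)) (hIA : I ≤ A) (hc : ⁅Y, A⁆ ≤ ⁅I, A⁆) :
    Y ≤ Cfsg.pCoreOf p L := by
  have hNI : Subgroup.normalizer (I : Set G) ≤
      M ⊔ Subgroup.centralizer (Cfsg.largestPReducedOf p M : Set G) := by
    apply frakM_le_dagger S hQp hQ1 hQ hSM hM hMI
    intro hbot
    have h1 : I ≤ Cfsg.pCoreOf p (Subgroup.normalizer (I : Set G)) :=
      le_pCoreOf Subgroup.le_normalizer hIp le_rfl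
    rw [hbot] at h1
    exact hI1 (eq_bot_iff.mpr h1)
  set Md := M ⊔ Subgroup.centralizer (Cfsg.largestPReducedOf p M : Set G) with hMd
  have hYp : IsPGroup p ↥Y := (pCoreOf_isPGroup Md).to_le hY
  have hBA : (⨆ l : ↥L, cj((l : G), I)) ≤ A :=
    iSup_le fun l => (cj_mono hIA).trans (cj_eq_self_iff.mpr (hLA l.2)).le
  have hXL : (⨆ l : ↥L, cj((l : G), Y)) ≤ L :=
    iSup_le fun l => (cj_mono hYL).trans (cj_eq_self_of_mem l.2).le
  have hLX : L ≤ Subgroup.normalizer ((⨆ l : ↥L, cj((l : G), Y) : Subgroup G) : Set G) :=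
    le_normalizer_iSup_cj L Y
  have hYX : Y ≤ ⨆ l : ↥L, cj((l : G), Y) := le_iSup_cj L Y
  have hLB : L ≤ Subgroup.normalizer ((⨆ l : ↥L, cj((l : G), I) : Subgroup G) : Set G) :=
    le_normalizer_iSup_cj L I
  set B := ⨆ l : ↥L, cj((l : G), I) with hB
  set X := ⨆ l : ↥L, cj((l : G), Y) with hX
  have hLBA : L ≤ Subgroup.normalizer ((⁅B, A⁆ : Subgroup G) : Set G) := by
    intro l hl
    rw [← cj_eq_self_iff, Subgroup.map_commutator, cj_eq_self_iff.mpr (hLB hl),
      cj_eq_self_iff.mpr (hLA hl)]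
  have hXA : ⁅X, A⁆ ≤ ⁅B, A⁆ := by
    apply commutator_iSup_le (fun l : ↥L => cj((l : G), Y)) A ⁅B, A⁆ (hXL.trans hLBA)
    intro l a ha c hc'
    have h1 : ⁅a, c⁆ ∈ ⁅cj((l : G), Y), cj((l : G), A)⁆ :=
      Subgroup.commutator_mem_commutator ha (by rw [cj_eq_self_iff.mpr (hLA l.2)]; exact hc')
    rw [← Subgroup.map_commutator] at h1
    have h2 := cj_mono (g := (l : G)) hc h1
    rw [Subgroup.map_commutator, cj_eq_self_iff.mpr (hLA l.2)] at h2
    exact Subgroup.commutator_mono (le_iSup (fun l : ↥L => cj((l : G), I)) l) le_rfl h2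
  have hcent : ∀ x ∈ X, (orderOf x).Coprime p → x ∈ Subgroup.centralizer (A : Set G) := by
    intro x hx hxo
    have h1 : ⁅A, Subgroup.zpowers x⁆ ≤ ⁅A, A⁆ := by
      rw [Subgroup.commutator_comm]
      exact (Subgroup.commutator_mono (by rw [Subgroup.zpowers_le]; exact hx) le_rfl).trans
        (hXA.trans (Subgroup.commutator_mono hBA le_rfl))
    have h2 := le_centralizer_of_commutator_le_commutator hAp (hLA (hXL hx)) hxo h1
    rw [Subgroup.mem_centralizer_iff]
    intro a ha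
    exact (Subgroup.mem_centralizer_iff.mp (h2 ha) x (Subgroup.mem_zpowers x)).symm
  have hKX : Subgroup.closure {x : G | x ∈ X ∧ (orderOf x).Coprime p} ≤ X := by
    rw [Subgroup.closure_le]; exact fun x hx => hx.1
  have hKA : Subgroup.closure {x : G | x ∈ X ∧ (orderOf x).Coprime p} ≤
      Subgroup.centralizer (A : Set G) := by
    rw [Subgroup.closure_le]; exact fun x hx => hcent x hx.1 hx.2
  have hLK : L ≤ Subgroup.normalizer
      ((Subgroup.closure {x : G | x ∈ X ∧ (orderOf x).Coprime p} : Subgroup G) : Set G) := by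
    intro l hl
    rw [← cj_eq_self_iff]
    apply cj_eq_of_le
    rw [MonoidHom.map_closure, Subgroup.closure_le]
    rintro _ ⟨x, ⟨hxX, hxo⟩, rfl⟩
    apply Subgroup.subset_closure
    refine ⟨(Subgroup.mem_normalizer_iff.mp (hLX hl) x).mp hxX, ?_⟩
    rw [orderOf_injective (MulAut.conj l).toMonoidHom (MulAut.conj l).injective x]
    exact hxo
  set K := Subgroup.closure {x : G | x ∈ X ∧ (orderOf x).Coprime p} with hK
  have hKMd : K ≤ Md :=
    hKA.trans ((Subgroup.centralizer_le hIA).trans ((Subgroup.centralizer_le_normalizer _).trans hNI))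
  obtain ⟨P⟩ : Nonempty (Sylow p ↥X) := inferInstance
  have hTX : (P : Subgroup ↥X).map X.subtype ≤ X := Subgroup.map_subtype_le _
  have hTp : IsPGroup p ↥((P : Subgroup ↥X).map X.subtype) := P.isPGroup'.map _
  have hdec := exists_mul_of_le_normalizer_sylow P (le_refl X) Subgroup.le_normalizer K
    (fun d hd hcop => Subgroup.subset_closure ⟨hd, hcop⟩)
  have hOT : Cfsg.pCoreOf p X ≤ (P : Subgroup ↥X).map X.subtype := pCoreOf_le_sylow_map P
  set T := (P : Subgroup ↥X).map X.subtype with hT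
  have hOdK : Cfsg.pCoreOf p Md ⊓ K ≤ Cfsg.pCoreOf p X := by
    have h1 : Cfsg.pCoreOf p Md ⊓ K ≤ Cfsg.pCoreOf p K := by
      apply le_pCoreOf inf_le_right ((pCoreOf_isPGroup Md).to_le inf_le_left)
      intro k hk
      rw [← cj_eq_self_iff, cj_inf, cj_eq_self_iff.mpr (le_normalizer_pCoreOf Md (hKMd hk)),
        cj_eq_self_of_mem hk]
    exact h1.trans (pCoreOf_le_pCoreOf hKX (hXL.trans hLK))
  have hYK : ∀ y ∈ Y, ∀ k ∈ K, ⁅y, k⁆ ∈ Cfsg.pCoreOf p X := by
    intro y hy k hk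
    apply hOdK
    refine Subgroup.mem_inf.mpr ⟨?_, ?_⟩
    · rw [commutatorElement_def]
      have e : y * k * y⁻¹ * k⁻¹ = y * (k * y⁻¹ * k⁻¹) := by group
      rw [e]
      exact Subgroup.mul_mem _ (hY hy)
        ((Subgroup.mem_normalizer_iff.mp (le_normalizer_pCoreOf Md (hKMd hk)) _).mp
          (Subgroup.inv_mem _ (hY hy)))
    · rw [commutatorElement_def]
      exact K.mul_mem ((Subgroup.mem_normalizer_iff.mp (hLK (hYL hy)) k).mp hk) (K.inv_mem hk)
  have hXK : ⁅X, K⁆ ≤ Cfsg.pCoreOf p X := by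
    apply commutator_iSup_le (fun l : ↥L => cj((l : G), Y)) K (Cfsg.pCoreOf p X)
      (le_normalizer_pCoreOf X)
    intro l a ha c hc'
    rw [mem_cj] at ha
    have hc2 : (l : G)⁻¹ * c * (l : G) ∈ K := by
      have := (Subgroup.mem_normalizer_iff.mp (hLK (L.inv_mem l.2)) c).mp hc'
      simpa using this
    have h1 := hYK _ ha _ hc2
    have h2 : (l : G) * ⁅(l : G)⁻¹ * a * (l : G), (l : G)⁻¹ * c * (l : G)⁆ * (l : G)⁻¹ ∈
        Cfsg.pCoreOf p X :=
      (Subgroup.mem_normalizer_iff.mp (normalizer_le_normalizer_pCoreOf X (hLX l.2)) _).mp h1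
    have e : (l : G) * ⁅(l : G)⁻¹ * a * (l : G), (l : G)⁻¹ * c * (l : G)⁆ * (l : G)⁻¹ = ⁅a, c⁆ := by
      simp only [commutatorElement_def]; group
    rwa [e] at h2
  have hKT : K ≤ Subgroup.normalizer (T : Set G) := by
    intro k hk
    rw [← cj_eq_self_iff]
    apply cj_eq_of_le
    rintro _ ⟨t, ht, rfl⟩
    show k * t * k⁻¹ ∈ T
    have h1 : ⁅t, k⁆ ∈ Cfsg.pCoreOf p X := hXK (Subgroup.commutator_mem_commutator (hTX ht) hk)
    have e : k * t * k⁻¹ = (⁅t, k⁆)⁻¹ * t := by rw [commutatorElement_def]; group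
    rw [e]
    exact T.mul_mem (T.inv_mem (hOT h1)) ht
  have hXT : X ≤ Subgroup.normalizer (T : Set G) := by
    intro d hd
    obtain ⟨r, hr, s, hs, rfl⟩ := hdec d hd
    exact Subgroup.mul_mem _ (hKT (Subgroup.mem_inf.mp hr).1)
      (Subgroup.le_normalizer (Subgroup.mem_inf.mp hs).1)
  have hTO : T ≤ Cfsg.pCoreOf p X := le_pCoreOf hTX hTp hXT
  have hTYp : IsPGroup p ↥(T ⊔ Y) := isPGroup_sup_of_le_normalizer hTp hYp (hYX.trans hXT)
  have hmax : (T ⊔ Y).subgroupOf X = (P : Subgroup ↥X) := by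
    apply P.is_maximal' (hTYp.comap_subtype (K := X))
    intro x hx
    exact Subgroup.mem_subgroupOf.mpr (Subgroup.mem_sup_left ⟨x, hx, rfl⟩)
  have hYT : Y ≤ T := by
    intro y hy
    have h1 : (⟨y, hYX hy⟩ : ↥X) ∈ (T ⊔ Y).subgroupOf X :=
      Subgroup.mem_subgroupOf.mpr (Subgroup.mem_sup_right hy)
    rw [hmax] at h1
    exact ⟨⟨y, hYX hy⟩, h1, rfl⟩
  exact hYT.trans (hTO.trans (pCoreOf_le_pCoreOf hXL hLX))

end burn

end Cfsg.Agent.Helper47
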