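import Cfsg.Agent.Helper47.Large

set_option autoImplicit false

namespace Cfsg.Agent.Helper47

open scoped commutatorElement Pointwise

local notation "cj(" g "," Q ")" => Subgroup.map (MulEquiv.toMonoidHom (MulAut.conj g)) Q

section charp

variable {G : Type*} [Group G] {p : ℕ}

theorem isPGroup_subgroup_of_forall_coprime_eq_one [Finite G] [Fact p.Prime] {K : Subgroup G}
    (h : ∀ x ∈ K, (orderOf x).Coprime p → x = 1) : IsPGroup p ↥K := by
  apply isPGroup_of_forall_coprime_eq_one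
  intro x hx
  rw [← Subgroup.orderOf_coe] at hx
  exact Subtype.ext (h x x.2 hx)

/-- `A B` is a `p`-group if `A`, `B` are and `B` normalizes `A` -/
theorem isPGroup_sup_of_le_normalizer [Finite G] [Fact p.Prime] {A B : Subgroup G}
    (hA : IsPGroup p ↥A) (hB : IsPGroup p ↥B) (hBA : B ≤ Subgroup.normalizer (A : Set G)) :
    IsPGroup p ↥(A ⊔ B) := by
  haveI : (A.subgroupOf (Subgroup.normalizer (A : Set G))).Normal := Subgroup.normal_in_normalizer
  have hle : A ⊔ B ≤ Subgroup.normalizer (A : Set G) := sup_le Subgroup.le_normalizer hBA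
  apply isPGroup_of_pow
  intro c hc
  obtain ⟨k, hk⟩ : ∃ k : ℕ, c ^ (p ^ k) ∈ A := by
    have hc' : (⟨c, hle hc⟩ : ↥(Subgroup.normalizer (A : Set G))) ∈
        A.subgroupOf (Subgroup.normalizer (A : Set G)) ⊔
          B.subgroupOf (Subgroup.normalizer (A : Set G)) := by
      rw [← Subgroup.subgroupOf_sup Subgroup.le_normalizer hBA]
      exact Subgroup.mem_subgroupOf.mpr hc
    obtain ⟨k, hk⟩ := pow_mem_of_mem_sup_normal (hB.comap_subtype) hc'
    exact ⟨k, Subgroup.mem_subgroupOf.mp hk⟩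
  obtain ⟨j, hj⟩ := isPGroup_pow hA hk
  exact ⟨k + j, by rw [pow_add, pow_mul, hj]⟩

/-- elements normalizing `V₁` and acting trivially on `V` modulo `V₁` -/
def stabMod (V V₁ : Subgroup G) : Subgroup G where
  carrier := {h | h ∈ Subgroup.normalizer (V₁ : Set G) ∧ ∀ v ∈ V, ⁅v, h⁆ ∈ V₁}
  mul_mem' := by
    rintro h k ⟨hh, hh'⟩ ⟨hk, hk'⟩
    refine ⟨Subgroup.mul_mem _ hh hk, fun v hv => ?_⟩
    have e : ⁅v, h * k⁆ = ⁅v, h⁆ * (h * ⁅v, k⁆ * h⁻¹) := by
      simp only [commutatorElement_def]; group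
    rw [e]
    exact V₁.mul_mem (hh' v hv) ((Subgroup.mem_normalizer_iff.mp hh _).mp (hk' v hv))
  one_mem' := ⟨Subgroup.one_mem _, fun v _ => by
    rw [commutatorElement_one_right]; exact V₁.one_mem⟩
  inv_mem' := by
    rintro h ⟨hh, hh'⟩
    refine ⟨Subgroup.inv_mem _ hh, fun v hv => ?_⟩
    have e : ⁅v, h⁻¹⁆ = h⁻¹ * (⁅v, h⁆)⁻¹ * h⁻¹⁻¹ := by
      simp only [commutatorElement_def]; group
    rw [e]
    exact (Subgroup.mem_normalizer_iff.mp (Subgroup.inv_mem _ hh) _).mp (V₁.inv_mem (hh' v hv))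

theorem mem_stabMod {V V₁ : Subgroup G} {h : G} :
    h ∈ stabMod V V₁ ↔ h ∈ Subgroup.normalizer (V₁ : Set G) ∧ ∀ v ∈ V, ⁅v, h⁆ ∈ V₁ := Iff.rfl

/-- Key lemma (relative form): `Q` a weakly closed `p`-subgroup, `X` a subgroup containing `Q`
with `C_X(Q) ≤ Q`, `V` a normal `p`-subgroup of `X` with `C_X(V) ≤ V`, and `Q ≤ L ≤ X`.
Then `D = C_X(O_p(L))` normalizes `Q`, `Q ∩ D ≤ O_p(L)` and `D` is a `p`-group. -/
theorem wc_charP_core [Finite G] [Fact p.Prime] {Q : Subgroup G} (hQp : IsPGroup p ↥Q)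
    (hwc : Cfsg.IsWeaklyClosedSubgroup p Q) {X V L : Subgroup G}
    (hQL : Q ≤ L) (hLX : L ≤ X) (hCQ : X ⊓ Subgroup.centralizer (Q : Set G) ≤ Q)
    (hVp : IsPGroup p ↥V) (hXV : X ≤ Subgroup.normalizer (V : Set G))
    (hCV : X ⊓ Subgroup.centralizer (V : Set G) ≤ V) :
    X ⊓ Subgroup.centralizer (Cfsg.pCoreOf p L : Set G) ≤ Subgroup.normalizer (Q : Set G) ∧
    Q ⊓ (X ⊓ Subgroup.centralizer (Cfsg.pCoreOf p L : Set G)) ≤ Cfsg.pCoreOf p L ∧
    IsPGroup p ↥(X ⊓ Subgroup.centralizer (Cfsg.pCoreOf p L : Set G) : Subgroup G) := by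
  set P := Cfsg.pCoreOf p L with hP
  set D := X ⊓ Subgroup.centralizer (P : Set G) with hD
  have hQX : Q ≤ X := hQL.trans hLX
  have hQV : Q ≤ Subgroup.normalizer (V : Set G) := hQX.trans hXV
  have hVQ : V ≤ Subgroup.normalizer (Q : Set G) := by
    have hR : IsPGroup p ↥(V ⊔ Q) := isPGroup_sup_of_le_normalizer hVp hQp hQV
    exact (le_sup_left.trans Subgroup.le_normalizer).trans (wc_normalizer_le hwc hR le_sup_right)
  set V₁ := V ⊓ Q with hV₁
  have hVLP : V ⊓ L ≤ P := le_pCoreOf inf_le_right (hVp.to_le inf_le_left) (by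
    intro l hl
    rw [← cj_eq_self_iff, cj_inf, cj_eq_self_iff.mpr (hXV (hLX hl)), cj_eq_self_of_mem hl])
  have hV₁P : V₁ ≤ P := (inf_le_inf_left V hQL).trans hVLP
  have hQV₁ : Q ≤ Subgroup.normalizer (V₁ : Set G) := by
    intro q hq
    rw [← cj_eq_self_iff, cj_inf, cj_eq_self_iff.mpr (hQV hq), cj_eq_self_of_mem hq]
  have hcomm : ∀ v ∈ V, ∀ q ∈ Q, ⁅v, q⁆ ∈ V₁ := by
    intro v hv q hq
    refine Subgroup.mem_inf.mpr ⟨?_, ?_⟩
    · have : q * v⁻¹ * q⁻¹ ∈ V := (Subgroup.mem_normalizer_iff.mp (hQV hq) _).mp (V.inv_mem hv)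
      have e : ⁅v, q⁆ = v * (q * v⁻¹ * q⁻¹) := by rw [commutatorElement_def]; group
      rw [e]; exact V.mul_mem hv this
    · have : v * q * v⁻¹ ∈ Q := (Subgroup.mem_normalizer_iff.mp (hVQ hv) _).mp hq
      have e : ⁅v, q⁆ = (v * q * v⁻¹) * q⁻¹ := by rw [commutatorElement_def]
      rw [e]; exact Q.mul_mem this (Q.inv_mem hq)
  set B := stabMod V V₁ ⊓ Subgroup.centralizer (V₁ : Set G) ⊓ X with hB
  have hQstab : Q ≤ stabMod V V₁ := fun q hq => ⟨hQV₁ hq, fun v hv => hcomm v hv q hq⟩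
  have hBp : IsPGroup p ↥B := by
    apply isPGroup_subgroup_of_forall_coprime_eq_one
    intro h hh hcop
    obtain ⟨hh12, hh3⟩ := Subgroup.mem_inf.mp hh
    obtain ⟨hh1, hh2⟩ := Subgroup.mem_inf.mp hh12
    have hcent : h ∈ Subgroup.centralizer (V : Set G) := by
      rw [Subgroup.mem_centralizer_iff]
      intro v hv
      have hc1 : ⁅v, h⁆ ∈ V₁ := (mem_stabMod.mp hh1).2 v hv
      have hc2 : Commute ⁅v, h⁆ h := Subgroup.mem_centralizer_iff.mp hh2 _ hc1
      obtain ⟨k, hk⟩ := isPGroup_pow hVp (Subgroup.mem_inf.mp hc1).1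
      exact commute_of_coprime_step (pow_orderOf_eq_one h) hcop hc2 hk
    have hV' : h ∈ V := hCV (Subgroup.mem_inf.mpr ⟨hh3, hcent⟩)
    obtain ⟨k, hk⟩ := isPGroup_pow hVp hV'
    exact eq_one_of_pow_prime_pow_of_pow_coprime hk (pow_orderOf_eq_one h) hcop
  have hQB : Q ≤ Subgroup.normalizer (B : Set G) := by
    intro q hq
    rw [← cj_eq_self_iff, hB, cj_inf, cj_inf, cj_eq_self_of_mem (hQstab hq), ← centralizer_cj,
      cj_eq_self_iff.mpr (hQV₁ hq), cj_eq_self_of_mem (hQX hq)]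
  have hQBp : IsPGroup p ↥(B ⊔ Q) := isPGroup_sup_of_le_normalizer hBp hQp hQB
  have hDQ : D ≤ Subgroup.normalizer (Q : Set G) := by
    intro x hx
    obtain ⟨hxX, hxP⟩ := Subgroup.mem_inf.mp hx
    rw [Subgroup.mem_centralizer_iff] at hxP
    have hxV₁ : ∀ w ∈ V₁, w * x = x * w := fun w hw => hxP w (hV₁P hw)
    have hxV₁' : ∀ w ∈ V₁, x * w * x⁻¹ = w := fun w hw => by
      rw [← hxV₁ w hw]; group
    have hxNV₁ : x ∈ Subgroup.normalizer (V₁ : Set G) := by
      apply Subgroup.centralizer_le_normalizer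
      rw [Subgroup.mem_centralizer_iff]
      exact hxV₁
    rw [← cj_eq_self_iff]
    apply wc_of_le_pgroup hwc hQBp le_sup_right
    intro z hz
    rw [mem_cj] at hz
    have hz' : z = (x * (x⁻¹ * z * x) * x⁻¹ * (x⁻¹ * z * x)⁻¹) * (x⁻¹ * z * x) := by group
    rw [hz']
    generalize x⁻¹ * z * x = q at hz
    refine Subgroup.mul_mem _ (Subgroup.mem_sup_left ?_) (Subgroup.mem_sup_right hz)
    refine Subgroup.mem_inf.mpr ⟨Subgroup.mem_inf.mpr ⟨?_, ?_⟩, ?_⟩
    · refine Subgroup.mul_mem _ ?_ (Subgroup.inv_mem _ (hQstab hz))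
      rw [mem_stabMod]
      refine ⟨Subgroup.mul_mem _ (Subgroup.mul_mem _ hxNV₁ (hQV₁ hz)) (Subgroup.inv_mem _ hxNV₁),
        fun v hv => ?_⟩
      have hv' : x⁻¹ * v * x ∈ V := by
        have := (Subgroup.mem_normalizer_iff.mp (Subgroup.inv_mem _ (hXV hxX)) v).mp hv
        simpa using this
      have e : ⁅v, x * q * x⁻¹⁆ = x * ⁅x⁻¹ * v * x, q⁆ * x⁻¹ := by
        simp only [commutatorElement_def]; group
      rw [e, hxV₁' _ (hcomm _ hv' q hz)]
      exact hcomm _ hv' q hz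
    · rw [Subgroup.mem_centralizer_iff]
      intro w hw
      have hw' : q⁻¹ * w * q ∈ V₁ := by
        have := (Subgroup.mem_normalizer_iff.mp (Subgroup.inv_mem _ (hQV₁ hz)) w).mp hw
        simpa using this
      have h1 : x * w = w * x := (hxV₁ w hw).symm
      have h2 : x⁻¹ * (q⁻¹ * w * q) = (q⁻¹ * w * q) * x⁻¹ := by
        have := hxV₁ _ hw'
        calc x⁻¹ * (q⁻¹ * w * q) = x⁻¹ * ((q⁻¹ * w * q) * x) * x⁻¹ := by group
          _ = x⁻¹ * (x * (q⁻¹ * w * q)) * x⁻¹ := by rw [this]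
          _ = (q⁻¹ * w * q) * x⁻¹ := by group
      calc w * (x * q * x⁻¹ * q⁻¹) = (w * x) * q * x⁻¹ * q⁻¹ := by group
        _ = (x * w) * q * x⁻¹ * q⁻¹ := by rw [h1]
        _ = x * q * ((q⁻¹ * w * q) * x⁻¹) * q⁻¹ := by group
        _ = x * q * (x⁻¹ * (q⁻¹ * w * q)) * q⁻¹ := by rw [h2]
        _ = x * q * x⁻¹ * q⁻¹ * w := by group
    · exact X.mul_mem (X.mul_mem (X.mul_mem hxX (hQX hz)) (X.inv_mem hxX)) (X.inv_mem (hQX hz))
  have hLD : L ≤ Subgroup.normalizer (D : Set G) := by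
    intro l hl
    rw [← cj_eq_self_iff, hD, cj_inf, cj_eq_self_of_mem (hLX hl), ← centralizer_cj,
      cj_eq_self_iff.mpr (le_normalizer_pCoreOf L hl)]
  have hQD_le : Q ⊓ D ≤ Cfsg.pCoreOf p D :=
    le_pCoreOf inf_le_right (hQp.to_le inf_le_left) (by
      intro d hd
      rw [← cj_eq_self_iff, cj_inf, cj_eq_self_iff.mpr (hDQ hd), cj_eq_self_of_mem hd])
  have h2 : Cfsg.pCoreOf p D ⊓ L ≤ P :=
    le_pCoreOf inf_le_right ((pCoreOf_isPGroup D).to_le inf_le_left) (by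
      intro l hl
      rw [← cj_eq_self_iff, cj_inf,
        cj_eq_self_iff.mpr (normalizer_le_normalizer_pCoreOf D (hLD hl)), cj_eq_self_of_mem hl])
  have hQDP : Q ⊓ D ≤ P := (le_inf hQD_le (inf_le_left.trans hQL)).trans h2
  have hDp : IsPGroup p ↥D := by
    apply isPGroup_subgroup_of_forall_coprime_eq_one
    intro x hx hcop
    have hxQ : x ∈ Subgroup.centralizer (Q : Set G) := by
      rw [Subgroup.mem_centralizer_iff]
      intro q hq
      have hc1 : ⁅q, x⁆ ∈ Q ⊓ D := by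
        refine Subgroup.mem_inf.mpr ⟨?_, ?_⟩
        · have : x * q⁻¹ * x⁻¹ ∈ Q :=
            (Subgroup.mem_normalizer_iff.mp (hDQ hx) _).mp (Q.inv_mem hq)
          have e : ⁅q, x⁆ = q * (x * q⁻¹ * x⁻¹) := by rw [commutatorElement_def]; group
          rw [e]; exact Q.mul_mem hq this
        · have : q * x * q⁻¹ ∈ D := (Subgroup.mem_normalizer_iff.mp (hLD (hQL hq)) _).mp hx
          have e : ⁅q, x⁆ = (q * x * q⁻¹) * x⁻¹ := by rw [commutatorElement_def]
          rw [e]; exact D.mul_mem this (D.inv_mem hx)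
      have hc2 : Commute ⁅q, x⁆ x :=
        Subgroup.mem_centralizer_iff.mp (Subgroup.mem_inf.mp hx).2 _ (hQDP hc1)
      obtain ⟨k, hk⟩ := isPGroup_pow hQp (Subgroup.mem_inf.mp hc1).1
      exact commute_of_coprime_step (pow_orderOf_eq_one x) hcop hc2 hk
    have hxQ' : x ∈ Q := hCQ (Subgroup.mem_inf.mpr ⟨(Subgroup.mem_inf.mp hx).1, hxQ⟩)
    obtain ⟨k, hk⟩ := isPGroup_pow hQp hxQ'
    exact eq_one_of_pow_prime_pow_of_pow_coprime hk (pow_orderOf_eq_one x) hcop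
  exact ⟨hDQ, hQDP, hDp⟩

/-- subtype form of "characteristic `p`" versus the ambient form -/
theorem charP_subtype_iff (p : ℕ) (L : Subgroup G) :
    Subgroup.centralizer (Cfsg.pCore p ↥L : Set ↥L) ≤ Cfsg.pCore p ↥L ↔
      L ⊓ Subgroup.centralizer (Cfsg.pCoreOf p L : Set G) ≤ Cfsg.pCoreOf p L := by
  constructor
  · intro h x hx
    obtain ⟨hxL, hxC⟩ := Subgroup.mem_inf.mp hx
    have h1 : (⟨x, hxL⟩ : ↥L) ∈ Subgroup.centralizer (Cfsg.pCore p ↥L : Set ↥L) := by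
      rw [Subgroup.mem_centralizer_iff]
      intro w hw
      apply Subtype.ext
      exact Subgroup.mem_centralizer_iff.mp hxC (w : G) ⟨w, hw, rfl⟩
    exact ⟨⟨x, hxL⟩, h h1, rfl⟩
  · intro h x hx
    have hx' : (x : G) ∈ L ⊓ Subgroup.centralizer (Cfsg.pCoreOf p L : Set G) := by
      refine Subgroup.mem_inf.mpr ⟨x.2, ?_⟩
      rw [Subgroup.mem_centralizer_iff]
      rintro _ ⟨w, hw, rfl⟩
      exact congrArg Subtype.val (Subgroup.mem_centralizer_iff.mp hx w hw)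
    obtain ⟨w, hw, hwx⟩ := h hx'
    have : w = x := Subtype.ext hwx
    rw [← this]; exact hw

theorem le_normalizer_inf_centralizer_pCoreOf [Finite G] [Fact p.Prime] (L : Subgroup G) :
    L ≤ Subgroup.normalizer
      ((L ⊓ Subgroup.centralizer (Cfsg.pCoreOf p L : Set G) : Subgroup G) : Set G) := by
  intro l hl
  rw [← cj_eq_self_iff, cj_inf, cj_eq_self_of_mem hl, ← centralizer_cj,
    cj_eq_self_iff.mpr (le_normalizer_pCoreOf L hl)]

/-- If `y ∈ O_p(L) ∩ C(Q)` and `C_G(y)` has characteristic `p`, then `L` has characteristic `p`. -/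
theorem wc_charP_of_centralizer [Finite G] [Fact p.Prime] {Q : Subgroup G} (hQp : IsPGroup p ↥Q)
    (hwc : Cfsg.IsWeaklyClosedSubgroup p Q) (hCQ : Subgroup.centralizer (Q : Set G) ≤ Q)
    {L : Subgroup G} (hQL : Q ≤ L) {y : G} (hyP : y ∈ Cfsg.pCoreOf p L)
    (hyQ : y ∈ Subgroup.centralizer (Q : Set G))
    (hX : Subgroup.centralizer ({y} : Set G) ⊓
        Subgroup.centralizer (Cfsg.pCoreOf p (Subgroup.centralizer ({y} : Set G)) : Set G) ≤
      Cfsg.pCoreOf p (Subgroup.centralizer ({y} : Set G))) :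
    L ⊓ Subgroup.centralizer (Cfsg.pCoreOf p L : Set G) ≤ Cfsg.pCoreOf p L := by
  set X := Subgroup.centralizer ({y} : Set G) with hXdef
  set P := Cfsg.pCoreOf p L with hP
  set DL := L ⊓ Subgroup.centralizer (P : Set G) with hDL
  have hQX : Q ≤ X := by
    intro q hq
    rw [hXdef, Subgroup.mem_centralizer_iff]
    intro h hh
    rw [Set.mem_singleton_iff] at hh
    subst hh
    exact (Subgroup.mem_centralizer_iff.mp hyQ q hq).symm
  obtain ⟨-, -, hD'p⟩ := wc_charP_core hQp hwc (X := X) (V := Cfsg.pCoreOf p X) (L := L ⊓ X)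
    (le_inf hQL hQX) inf_le_right (inf_le_right.trans hCQ) (pCoreOf_isPGroup X)
    (le_normalizer_pCoreOf X) hX
  set P' := Cfsg.pCoreOf p (L ⊓ X) with hP'
  have hDLX : DL ≤ X := by
    intro x hx
    rw [hXdef, Subgroup.mem_centralizer_iff]
    intro h hh
    rw [Set.mem_singleton_iff] at hh
    subst hh
    exact Subgroup.mem_centralizer_iff.mp (Subgroup.mem_inf.mp hx).2 h hyP
  have hDLL' : DL ≤ L ⊓ X := le_inf inf_le_left hDLX
  have hLDL : L ≤ Subgroup.normalizer (DL : Set G) := le_normalizer_inf_centralizer_pCoreOf L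
  have hle : P' ⊓ DL ≤ P := by
    have h1 : P' ⊓ DL ≤ Cfsg.pCoreOf p DL :=
      le_pCoreOf inf_le_right ((pCoreOf_isPGroup (L ⊓ X)).to_le inf_le_left) (by
        intro d hd
        rw [← cj_eq_self_iff, cj_inf, cj_eq_self_iff.mpr (le_normalizer_pCoreOf (L ⊓ X) (hDLL' hd)),
          cj_eq_self_of_mem hd])
    exact h1.trans (pCoreOf_le_pCoreOf inf_le_left hLDL)
  have hDLp : IsPGroup p ↥DL := by
    apply isPGroup_subgroup_of_forall_coprime_eq_one
    intro x hx hcop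
    have hxP : x ∈ Subgroup.centralizer (P : Set G) := (Subgroup.mem_inf.mp hx).2
    have hxL' : x ∈ L ⊓ X := hDLL' hx
    have hxP' : x ∈ Subgroup.centralizer (P' : Set G) := by
      rw [Subgroup.mem_centralizer_iff]
      intro v hv
      have hvL : v ∈ L := (Subgroup.mem_inf.mp (pCoreOf_le p (L ⊓ X) hv)).1
      have hc1 : ⁅v, x⁆ ∈ P' ⊓ DL := by
        refine Subgroup.mem_inf.mpr ⟨?_, ?_⟩
        · have : x * v⁻¹ * x⁻¹ ∈ P' :=
            (Subgroup.mem_normalizer_iff.mp (le_normalizer_pCoreOf (L ⊓ X) hxL') _).mp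
              (P'.inv_mem hv)
          have e : ⁅v, x⁆ = v * (x * v⁻¹ * x⁻¹) := by rw [commutatorElement_def]; group
          rw [e]; exact P'.mul_mem hv this
        · have : v * x * v⁻¹ ∈ DL := (Subgroup.mem_normalizer_iff.mp (hLDL hvL) _).mp hx
          have e : ⁅v, x⁆ = (v * x * v⁻¹) * x⁻¹ := by rw [commutatorElement_def]
          rw [e]; exact DL.mul_mem this (DL.inv_mem hx)
      have hc2 : Commute ⁅v, x⁆ x := Subgroup.mem_centralizer_iff.mp hxP _ (hle hc1)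
      obtain ⟨k, hk⟩ := isPGroup_pow (pCoreOf_isPGroup (L ⊓ X)) (Subgroup.mem_inf.mp hc1).1
      exact commute_of_coprime_step (pow_orderOf_eq_one x) hcop hc2 hk
    obtain ⟨k, hk⟩ := isPGroup_pow hD'p (Subgroup.mem_inf.mpr ⟨hDLX hx, hxP'⟩)
    exact eq_one_of_pow_prime_pow_of_pow_coprime hk (pow_orderOf_eq_one x) hcop
  exact le_pCoreOf inf_le_left hDLp hLDL

/-- Main lemma on weakly closed subgroups and characteristic `p`. -/
theorem wc_charP_main [Finite G] [Fact p.Prime] {Q : Subgroup G} (hQp : IsPGroup p ↥Q)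
    (hwc : Cfsg.IsWeaklyClosedSubgroup p Q) (hCQ : Subgroup.centralizer (Q : Set G) ≤ Q)
    {L : Subgroup G} (hQL : Q ≤ L)
    (hyp : Subgroup.centralizer (Cfsg.pCore p G : Set G) ≤ Cfsg.pCore p G ∨
      ∃ y : G, y ∈ Cfsg.pCoreOf p L ⊓ Subgroup.centralizer (Q : Set G) ∧
        Subgroup.centralizer ({y} : Set G) ⊓
          Subgroup.centralizer (Cfsg.pCoreOf p (Subgroup.centralizer ({y} : Set G)) : Set G) ≤
        Cfsg.pCoreOf p (Subgroup.centralizer ({y} : Set G))) :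
    Subgroup.centralizer (Cfsg.pCoreOf p L : Set G) ≤ Subgroup.normalizer (Q : Set G) ∧
    Q ⊓ Subgroup.centralizer (Cfsg.pCoreOf p L : Set G) ≤ Cfsg.pCoreOf p L ∧
    IsPGroup p ↥(Subgroup.centralizer (Cfsg.pCoreOf p L : Set G)) := by
  rcases hyp with hyp | ⟨y, hy, hX⟩
  · have h := wc_charP_core hQp hwc (X := ⊤) (V := Cfsg.pCore p G) (L := L) hQL le_top
      (inf_le_right.trans hCQ) (pCore_isPGroup p G)
      (by rw [Subgroup.normalizer_eq_top]) (inf_le_right.trans hyp)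
    rw [top_inf_eq] at h
    exact h
  · set P := Cfsg.pCoreOf p L with hP
    have hLD : L ≤ Subgroup.normalizer ((Subgroup.centralizer (P : Set G) : Subgroup G) : Set G) :=
      (le_normalizer_pCoreOf L).trans (normalizer_le_normalizer_centralizer P)
    have hPL₁ : P ≤ Cfsg.pCoreOf p (L ⊔ Subgroup.centralizer (P : Set G)) :=
      le_pCoreOf ((pCoreOf_le p L).trans le_sup_left) (pCoreOf_isPGroup L)
        (sup_le (le_normalizer_pCoreOf L) (Subgroup.centralizer_le_normalizer _))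
    obtain ⟨hyP, hyQ⟩ := Subgroup.mem_inf.mp hy
    have hL₁ := wc_charP_of_centralizer hQp hwc hCQ (hQL.trans le_sup_left) (hPL₁ hyP) hyQ hX
    have h := wc_charP_core hQp hwc (X := L ⊔ Subgroup.centralizer (P : Set G))
      (V := Cfsg.pCoreOf p (L ⊔ Subgroup.centralizer (P : Set G))) (L := L) hQL le_sup_left
      (inf_le_right.trans hCQ) (pCoreOf_isPGroup _) (le_normalizer_pCoreOf _) hL₁
    have e : (L ⊔ Subgroup.centralizer (P : Set G)) ⊓ Subgroup.centralizer (P : Set G) =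
        Subgroup.centralizer (P : Set G) := inf_eq_right.mpr le_sup_right
    rw [e] at h
    exact h

/-- consequences of `wc_charP_main`: `[Q, C(O_p(L))] ≤ Q ∩ O_p(L)` and `L` of characteristic `p` -/
theorem wc_charP_consequences [Finite G] [Fact p.Prime] {Q L : Subgroup G} (hQL : Q ≤ L)
    (h1 : Subgroup.centralizer (Cfsg.pCoreOf p L : Set G) ≤ Subgroup.normalizer (Q : Set G))
    (h2 : Q ⊓ Subgroup.centralizer (Cfsg.pCoreOf p L : Set G) ≤ Cfsg.pCoreOf p L)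
    (h3 : IsPGroup p ↥(Subgroup.centralizer (Cfsg.pCoreOf p L : Set G))) :
    ⁅Q, Subgroup.centralizer (Cfsg.pCoreOf p L : Set G)⁆ ≤ Q ⊓ Cfsg.pCoreOf p L ∧
    Subgroup.centralizer (Cfsg.pCore p ↥L : Set ↥L) ≤ Cfsg.pCore p ↥L := by
  have hLD : L ≤ Subgroup.normalizer
      ((Subgroup.centralizer (Cfsg.pCoreOf p L : Set G) : Subgroup G) : Set G) :=
    (le_normalizer_pCoreOf L).trans (normalizer_le_normalizer_centralizer _)
  constructor
  · rw [Subgroup.commutator_le]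
    intro q hq d hd
    have hcQ : ⁅q, d⁆ ∈ Q := by
      have : d * q⁻¹ * d⁻¹ ∈ Q := (Subgroup.mem_normalizer_iff.mp (h1 hd) _).mp (Q.inv_mem hq)
      have e : ⁅q, d⁆ = q * (d * q⁻¹ * d⁻¹) := by rw [commutatorElement_def]; group
      rw [e]; exact Q.mul_mem hq this
    have hcD : ⁅q, d⁆ ∈ Subgroup.centralizer (Cfsg.pCoreOf p L : Set G) := by
      have : q * d * q⁻¹ ∈ Subgroup.centralizer (Cfsg.pCoreOf p L : Set G) :=
        (Subgroup.mem_normalizer_iff.mp (hLD (hQL hq)) _).mp hd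
      have e : ⁅q, d⁆ = (q * d * q⁻¹) * d⁻¹ := by rw [commutatorElement_def]
      rw [e]; exact Subgroup.mul_mem _ this (Subgroup.inv_mem _ hd)
    exact Subgroup.mem_inf.mpr ⟨hcQ, h2 (Subgroup.mem_inf.mpr ⟨hcQ, hcD⟩)⟩
  · rw [charP_subtype_iff]
    exact le_pCoreOf inf_le_left (h3.to_le inf_le_right) (le_normalizer_inf_centralizer_pCoreOf L)

end charp

end Cfsg.Agent.Helper47
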