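import Cfsg.Agent.Helper47.Syl

set_option autoImplicit false

namespace Cfsg.Agent.Helper47

open scoped commutatorElement Pointwise

local notation "cj(" g "," Q ")" => Subgroup.map (MulEquiv.toMonoidHom (MulAut.conj g)) Q

section conj

variable {G : Type*} [Group G]

theorem mem_cj {g x : G} {Q : Subgroup G} : x ∈ cj(g, Q) ↔ g⁻¹ * x * g ∈ Q := by
  rw [Subgroup.mem_map_equiv]
  simp [MulAut.conj_symm_apply]

theorem cj_mem {g x : G} {Q : Subgroup G} (hx : x ∈ Q) : g * x * g⁻¹ ∈ cj(g, Q) :=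
  ⟨x, hx, by simp⟩

theorem cj_cj (h g : G) (Q : Subgroup G) : cj(h, cj(g, Q)) = cj(h * g, Q) := by
  ext x
  simp only [mem_cj]
  constructor <;> intro hx
  · have e : (h * g)⁻¹ * x * (h * g) = g⁻¹ * (h⁻¹ * x * h) * g := by group
    rwa [e]
  · have e : g⁻¹ * (h⁻¹ * x * h) * g = (h * g)⁻¹ * x * (h * g) := by group
    rwa [e]

theorem cj_one (Q : Subgroup G) : cj((1 : G), Q) = Q := by
  ext x
  rw [mem_cj]
  simp

theorem cj_le_cj {g : G} {Q R : Subgroup G} : cj(g, Q) ≤ cj(g, R) ↔ Q ≤ R :=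
  Subgroup.map_le_map_iff_of_injective (MulAut.conj g).injective

theorem cj_mono {g : G} {Q R : Subgroup G} (h : Q ≤ R) : cj(g, Q) ≤ cj(g, R) :=
  Subgroup.map_mono h

theorem cj_le_iff {g : G} {Q R : Subgroup G} : cj(g, Q) ≤ R ↔ Q ≤ cj(g⁻¹, R) := by
  rw [← cj_le_cj (g := g⁻¹), cj_cj, inv_mul_cancel, cj_one]

theorem le_cj_iff {g : G} {Q R : Subgroup G} : Q ≤ cj(g, R) ↔ cj(g⁻¹, Q) ≤ R := by
  rw [cj_le_iff, inv_inv]

theorem cj_eq_self_iff {g : G} {Q : Subgroup G} :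
    cj(g, Q) = Q ↔ g ∈ Subgroup.normalizer (Q : Set G) :=
  Subgroup.mem_normalizer_iff_map_conj_eq.symm

theorem cj_eq_self_of_mem {g : G} {Q : Subgroup G} (hg : g ∈ Q) : cj(g, Q) = Q :=
  cj_eq_self_iff.mpr (Subgroup.le_normalizer hg)

theorem card_cj (g : G) (Q : Subgroup G) : Nat.card ↥(cj(g, Q)) = Nat.card ↥Q :=
  Subgroup.card_map_of_injective (MulAut.conj g).injective

theorem cj_eq_of_le [Finite G] {g : G} {Q : Subgroup G} (h : cj(g, Q) ≤ Q) : cj(g, Q) = Q :=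
  Subgroup.eq_of_le_of_card_ge h (card_cj g Q).ge

theorem cj_eq_of_ge [Finite G] {g : G} {Q : Subgroup G} (h : Q ≤ cj(g, Q)) : cj(g, Q) = Q :=
  (Subgroup.eq_of_le_of_card_ge h (card_cj g Q).le).symm

theorem isPGroup_cj {p : ℕ} {Q : Subgroup G} (hQ : IsPGroup p ↥Q) (g : G) : IsPGroup p ↥(cj(g, Q)) :=
  hQ.map _

theorem normalizer_cj (g : G) (Q : Subgroup G) :
    Subgroup.normalizer ((cj(g, Q) : Subgroup G) : Set G) = cj(g, Subgroup.normalizer (Q : Set G)) :=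
  (Subgroup.map_equiv_normalizer_eq Q (MulAut.conj g)).symm

theorem centralizer_cj (g : G) (Q : Subgroup G) :
    Subgroup.centralizer ((cj(g, Q) : Subgroup G) : Set G) = cj(g, Subgroup.centralizer (Q : Set G)) := by
  ext x
  rw [mem_cj, Subgroup.mem_centralizer_iff, Subgroup.mem_centralizer_iff]
  constructor
  · intro h y hy
    have := h _ (cj_mem (g := g) hy)
    calc y * (g⁻¹ * x * g) = g⁻¹ * (g * y * g⁻¹ * x) * g := by group
      _ = g⁻¹ * (x * (g * y * g⁻¹)) * g := by rw [this]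
      _ = g⁻¹ * x * g * y := by group
  · intro h y hy
    have := h _ (mem_cj.mp hy)
    calc y * x = g * (g⁻¹ * y * g * (g⁻¹ * x * g)) * g⁻¹ := by group
      _ = g * (g⁻¹ * x * g * (g⁻¹ * y * g)) * g⁻¹ := by rw [this]
      _ = x * y := by group

theorem cj_commutator (g : G) (A B : Subgroup G) : cj(g, ⁅A, B⁆) = ⁅cj(g, A), cj(g, B)⁆ :=
  Subgroup.map_commutator A B _

theorem cj_inf (g : G) (A B : Subgroup G) : cj(g, A ⊓ B) = cj(g, A) ⊓ cj(g, B) :=
  Subgroup.map_inf _ _ _ (MulAut.conj g).injective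

theorem cj_sup (g : G) (A B : Subgroup G) : cj(g, A ⊔ B) = cj(g, A) ⊔ cj(g, B) :=
  Subgroup.map_sup _ _ _

theorem cj_of_normal (g : G) (N : Subgroup G) [hN : N.Normal] : cj(g, N) = N :=
  cj_eq_self_iff.mpr (by rw [Subgroup.normalizer_eq_top_iff.mpr hN]; exact Subgroup.mem_top g)

variable {p : ℕ} [hp : Fact p.Prime]

theorem sylow_smul_coe (g : G) (P : Sylow p G) :
    ((g • P : Sylow p G) : Subgroup G) = cj(g, (P : Subgroup G)) := by
  ext x
  rw [mem_cj, Sylow.coe_subgroup_smul, Subgroup.mem_pointwise_smul_iff_inv_smul_mem]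
  simp [MulAut.smul_def, MulAut.conj_symm_apply]

/-- a `p`-subgroup can be conjugated into any given Sylow `p`-subgroup -/
theorem exists_cj_le_sylow [Finite G] {R : Subgroup G} (hR : IsPGroup p ↥R) (P : Sylow p G) :
    ∃ g : G, cj(g, R) ≤ (P : Subgroup G) := by
  obtain ⟨P', hP'⟩ := hR.exists_le_sylow
  obtain ⟨g, rfl⟩ := MulAction.exists_smul_eq G P' P
  exact ⟨g, by rw [sylow_smul_coe]; exact cj_mono hP'⟩

/-- relative version: a `p`-subgroup of `K` can be conjugated by an element of `K`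
into any given Sylow `p`-subgroup of `K` -/
theorem exists_cj_le_sylow_subgroup [Finite G] {K R : Subgroup G} (hR : IsPGroup p ↥R) (hRK : R ≤ K)
    (P : Sylow p ↥K) : ∃ k ∈ K, cj(k, R) ≤ (P : Subgroup ↥K).map K.subtype := by
  obtain ⟨k, hk⟩ := exists_cj_le_sylow (hR.comap_subtype (K := K)) P
  refine ⟨k, k.2, ?_⟩
  intro x hx
  rw [mem_cj] at hx
  have hxK : x ∈ K := by
    have := K.mul_mem (K.mul_mem k.2 (hRK hx)) (K.inv_mem k.2)
    have e : (k : G) * ((k : G)⁻¹ * x * k) * (k : G)⁻¹ = x := by group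
    rwa [e] at this
  refine ⟨⟨x, hxK⟩, hk ?_, rfl⟩
  rw [mem_cj, Subgroup.mem_comap]
  simpa using hx

end conj

end Cfsg.Agent.Helper47
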