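import Mathlib
import Cfsg.Prelude.Def_GeometricClasses
import Cfsg.Prelude.Def_LieClassical
import Cfsg.Agent.Helper69.E4Def
import Cfsg.Agent.Helper69.E4UDef
import Cfsg.Agent.Helper97.UForm

/-!
helper47: shared lemmas for the S6001 pieces (CALL of helper69): Gram matrices of unitary matrices.
-/

set_option autoImplicit false

namespace Cfsg.Agent.Helper47
open Cfsg.Agent.Helper69 Cfsg.Agent.Helper97
open scoped Matrix

theorem e4ub_map_mul {F : Type*} [Field F] {n : Type*} [Fintype n] (σ : F ≃+* F)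
    (A B : Matrix n n F) : (A * B).map σ = A.map σ * B.map σ :=
  Matrix.map_mul (f := σ.toRingHom)

theorem e4ub_map_one {F : Type*} [Field F] {n : Type*} [DecidableEq n] (σ : F ≃+* F) :
    (1 : Matrix n n F).map σ = 1 :=
  Matrix.map_one σ (map_zero σ) (map_one σ)

theorem e4ub_det_map {F : Type*} [Field F] {n : Type*} [Fintype n] [DecidableEq n] (σ : F ≃+* F)
    (A : Matrix n n F) : (A.map σ).det = σ A.det :=
  (RingHom.map_det σ.toRingHom A).symm

/-- the Gram matrix of the columns of `B` is invariant under `D` when `y * B = B * D` with `y` unitary -/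
theorem e4ub_gram_inv {F : Type*} [Field F] {n : Type*} [Fintype n] [DecidableEq n] (σ : F ≃+* F)
    (y B D : Matrix n n F) (hU : yᵀ * y.map σ = 1) (hy : y * B = B * D) :
    Dᵀ * (Bᵀ * B.map σ) * D.map σ = Bᵀ * B.map σ := by
  have h1 : Dᵀ * (Bᵀ * B.map σ) * D.map σ = (B * D)ᵀ * (B * D).map σ := by
    rw [Matrix.transpose_mul, e4ub_map_mul]
    simp only [Matrix.mul_assoc]
  rw [h1, ← hy, Matrix.transpose_mul, e4ub_map_mul]
  calc Bᵀ * yᵀ * (y.map σ * B.map σ) = Bᵀ * (yᵀ * y.map σ) * B.map σ := by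
        simp only [Matrix.mul_assoc]
    _ = Bᵀ * B.map σ := by rw [hU, Matrix.mul_one]

theorem e4ub_gram_herm {F : Type*} [Field F] {n : Type*} [Fintype n] (σ : F ≃+* F)
    (hσσ : ∀ x : F, σ (σ x) = x) (B : Matrix n n F) (i j : n) :
    (Bᵀ * B.map σ) j i = σ ((Bᵀ * B.map σ) i j) := by
  simp only [Matrix.mul_apply, Matrix.transpose_apply, Matrix.map_apply, map_sum, map_mul, hσσ]
  exact Finset.sum_congr rfl fun k _ => mul_comm _ _

theorem e4ub_gram_det {F : Type*} [Field F] {n : Type*} [Fintype n] [DecidableEq n] (σ : F ≃+* F)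
    (B : Matrix n n F) : (Bᵀ * B.map σ).det = B.det * σ B.det := by
  rw [Matrix.det_mul, Matrix.det_transpose, e4ub_det_map]

/-- Hilbert 90 for the norm-one elements. -/
theorem e4ub_hilbert90 {F : Type*} [Field F] {q : ℕ} (σ : F ≃+* F) (hσ : IsSigma q σ) (δ : F)
    (hδ : δ * σ δ = 1) : ∃ ν : F, ν ≠ 0 ∧ ν = δ * σ ν := by
  by_cases h : δ = -1
  · obtain ⟨c, hc0, hc⟩ := hσ.exists_trace_zero
    refine ⟨c, hc0, ?_⟩
    rw [h, hc]
    ring
  · refine ⟨1 + δ, fun h0 => h (by linear_combination h0), ?_⟩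
    rw [map_add, map_one]
    linear_combination -hδ

/-- entries of a matrix invariant under a diagonal matrix -/
theorem e4ub_diag_entry {F : Type*} [Field F] {n : Type*} [Fintype n] [DecidableEq n]
    (σ : F ≃+* F) (d : n → F) (G : Matrix n n F)
    (h : (Matrix.diagonal d)ᵀ * G * (Matrix.diagonal d).map σ = G) (i j : n) :
    d i * G i j * σ (d j) = G i j := by
  have h1 := congrFun (congrFun h i) j
  rw [Matrix.diagonal_transpose, Matrix.diagonal_map (map_zero σ), Matrix.mul_diagonal,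
    Matrix.diagonal_mul] at h1
  exact h1

theorem e4ub_det_pattern1 {F : Type*} [Field F] (a b c d e f g h : F) :
    (!![0, a, 0, b; e, 0, f, 0; 0, c, 0, d; g, 0, h, 0] : Matrix (Fin 4) (Fin 4) F).det
      = (a * d - b * c) * (e * h - f * g) := by
  rw [Matrix.det_succ_row_zero]
  simp [Fin.sum_univ_four, Matrix.det_fin_three, Fin.succAbove]
  ring

theorem e4ub_det_pattern2 {F : Type*} [Field F] (a e h1 h2 h3 h4 : F) :
    (!![0, a, 0, 0; e, 0, 0, 0; 0, 0, h1, h2; 0, 0, h3, h4] : Matrix (Fin 4) (Fin 4) F).det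
      = -(a * e) * (h1 * h4 - h2 * h3) := by
  rw [Matrix.det_succ_row_zero]
  simp [Fin.sum_univ_four, Matrix.det_fin_three, Fin.succAbove]
  ring

theorem e4ub_det_pattern3 {F : Type*} [Field F] (s1 s2 s3 s4 t1 t2 t3 t4 : F) :
    (!![0, 0, s1, s2; 0, 0, s3, s4; t1, t2, 0, 0; t3, t4, 0, 0] : Matrix (Fin 4) (Fin 4) F).det
      = (s1 * s4 - s2 * s3) * (t1 * t4 - t2 * t3) := by
  rw [Matrix.det_succ_row_zero]
  simp [Fin.sum_univ_four, Matrix.det_fin_three, Fin.succAbove]
  ring

theorem e4ub_det_pattern4 {F : Type*} [Field F] (a b c d e f g h : F) :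
    (!![a, b, 0, 0; c, d, 0, 0; 0, 0, e, f; 0, 0, g, h] : Matrix (Fin 4) (Fin 4) F).det
      = (a * d - b * c) * (e * h - f * g) := by
  rw [Matrix.det_succ_row_zero]
  simp [Fin.sum_univ_four, Matrix.det_fin_three, Fin.succAbove]
  ring

end Cfsg.Agent.Helper47
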