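import Mathlib
import Cfsg.Prelude.Def_GeometricClasses
import Cfsg.Prelude.Def_LieClassical
import Cfsg.Agent.Helper69.E4Def
import Cfsg.Agent.Helper69.E4UDef
import Cfsg.Agent.Helper97.UForm
import Cfsg.Agent.Helper47.E4UBase

/-!
helper47: piece ADJ3 of CALL S6001 (helper69).
-/

set_option autoImplicit false

namespace Cfsg.Agent.Helper47
open Cfsg.Agent.Helper69 Cfsg.Agent.Helper97
open scoped Matrix

/-! ### ADJ3 -/

theorem e4u_adjust_one {F : Type*} [Field F] {q : ℕ} (σ : F ≃+* F) (hσ : IsSigma q σ) (ω : F)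
    (δ : F) (hδ : δ * σ δ = 1) :
    ∃ n₀ : Matrix (Fin 4) (Fin 4) F, n₀ * e4uD1 ω = e4uD1 ω * n₀ ∧
      n₀ᵀ * e4uJ1 F * n₀.map σ = e4uJ1 F ∧ n₀.det = δ := by
  obtain ⟨ν, hν0, hν⟩ := e4ub_hilbert90 σ hσ δ hδ
  have hsν0 : σ ν ≠ 0 := (map_ne_zero σ).mpr hν0
  refine ⟨Matrix.diagonal ![ν, (σ ν)⁻¹, 1, 1], ?_, ?_, ?_⟩
  · unfold e4uD1
    rw [Matrix.diagonal_mul_diagonal, Matrix.diagonal_mul_diagonal]
    congr 1
    funext i
    exact mul_comm _ _
  · unfold e4uJ1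
    ext i j
    fin_cases i <;> fin_cases j <;>
      simp [Matrix.mul_apply, Matrix.diagonal_apply, hσ.inv, hν0, hsν0]
  · rw [Matrix.det_diagonal, Fin.prod_univ_four]
    simp only [Matrix.cons_val_zero, Matrix.cons_val_one, Matrix.cons_val_two,
      Matrix.cons_val_three, Matrix.head_cons, Matrix.tail_cons, mul_one]
    rw [mul_inv_eq_iff_eq_mul₀ hsν0]
    exact hν

theorem e4u_adjust_two {F : Type*} [Field F] (σ : F ≃+* F) (ω : F) (δ : F)
    (hδ : δ * σ δ = 1) :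
    ∃ n₀ : Matrix (Fin 4) (Fin 4) F, n₀ * e4uD2 ω = e4uD2 ω * n₀ ∧
      n₀ᵀ * e4uJ2 F * n₀.map σ = e4uJ2 F ∧ n₀.det = δ := by
  refine ⟨Matrix.diagonal ![1, 1, δ, 1], ?_, ?_, ?_⟩
  · unfold e4uD2
    rw [Matrix.diagonal_mul_diagonal, Matrix.diagonal_mul_diagonal]
    congr 1
    funext i
    exact mul_comm _ _
  · unfold e4uJ2
    ext i j
    fin_cases i <;> fin_cases j <;>
      simp [Matrix.mul_apply, Matrix.diagonal_apply, hδ]
  · rw [Matrix.det_diagonal, Fin.prod_univ_four]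
    simp

end Cfsg.Agent.Helper47
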