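import Mathlib
import Cfsg.Prelude.Def_GeometricClasses
import Cfsg.Prelude.Def_LieClassical
import Cfsg.Agent.Helper69.E4Def
import Cfsg.Agent.Helper69.E4UDef
import Cfsg.Agent.Helper97.UForm
import Cfsg.Agent.Helper47.E4UBase

/-!
helper47: piece ADJ5 of CALL S6001 (helper69).
-/

set_option autoImplicit false

namespace Cfsg.Agent.Helper47
open Cfsg.Agent.Helper69 Cfsg.Agent.Helper97
open scoped Matrix

/-- the binary form `x² + τ x y + y²` represents every element of a finite field of odd order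
when `τ² ≠ 4` -/
theorem e4ub_represent {F : Type*} [Field F] [Fintype F] (h2 : (2 : F) ≠ 0) (τ : F)
    (hτ4 : τ ^ 2 ≠ 4) (ν : F) : ∃ α β : F, α ^ 2 + τ * α * β + β ^ 2 = ν := by
  classical
  have hodd : Fintype.card F % 2 = 1 := by
    apply FiniteField.odd_card_of_char_ne_two
    intro h
    apply h2
    have := CharP.cast_eq_zero F (ringChar F)
    rw [h] at this
    exact_mod_cast this
  obtain ⟨h, e2⟩ : ∃ h : F, 2 * h = 1 := ⟨2⁻¹, mul_inv_cancel₀ h2⟩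
  have hc : (1 - τ ^ 2 * h ^ 2 : F) ≠ 0 := by
    intro h0
    apply hτ4
    linear_combination (-4) * h0 - τ ^ 2 * (1 + 2 * h) * e2
  obtain ⟨a, b, hab⟩ := FiniteField.exists_root_sum_quadratic
    (f := Polynomial.X ^ 2 - Polynomial.C ν)
    (g := Polynomial.C (1 - τ ^ 2 * h ^ 2) * Polynomial.X ^ 2)
    (Polynomial.degree_X_pow_sub_C (by norm_num) ν) (Polynomial.degree_C_mul_X_pow 2 hc) hodd
  simp only [Polynomial.eval_sub, Polynomial.eval_pow, Polynomial.eval_X, Polynomial.eval_C,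
    Polynomial.eval_mul] at hab
  refine ⟨a - τ * b * h, b, ?_⟩
  linear_combination hab - (τ * a * b - τ ^ 2 * b ^ 2 * h) * e2

/-! ### ADJ5 -/

theorem e4u_adjust_five {F : Type*} [Field F] [Fintype F] {p : ℕ}
    (hF : Fintype.card F = p ^ 2) (h2 : (2 : F) ≠ 0) (h5 : (5 : F) ≠ 0) (σ : F ≃+* F)
    (hσ : IsSigma p σ) (τ : F) (hτ : τ ^ 2 + τ - 1 = 0) (hστ : σ τ = -1 - τ) (δ : F)
    (hδ : δ * σ δ = 1) :
    ∃ n₀ : Matrix (Fin 4) (Fin 4) F, n₀ * e4uD5 τ = e4uD5 τ * n₀ ∧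
      n₀ᵀ * e4uJ5 F * n₀.map σ = e4uJ5 F ∧ n₀.det = δ := by
  have hσσ := hσ.inv
  obtain ⟨ν, hν0, hν⟩ := e4ub_hilbert90 σ hσ δ hδ
  have hτ4 : τ ^ 2 ≠ 4 := by
    intro h
    apply h5
    have e : τ = -3 := by linear_combination hτ - h
    rw [e] at h
    linear_combination h
  obtain ⟨α, β, hαβ⟩ := e4ub_represent h2 τ hτ4 ν
  have hsν0 : σ ν ≠ 0 := (map_ne_zero σ).mpr hν0
  obtain ⟨m, hm⟩ : ∃ m : F, m * σ ν = 1 := ⟨(σ ν)⁻¹, inv_mul_cancel₀ hsν0⟩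
  have hm' : σ m * ν = 1 := by
    have := congrArg σ hm
    rwa [map_mul, hσσ, map_one] at this
  have hsν : σ ν = σ α ^ 2 + (-1 - τ) * σ α * σ β + σ β ^ 2 := by
    rw [← hαβ]
    simp only [map_add, map_mul, map_pow, hστ]
  have hστ' : σ (-1 - τ) = τ := by
    rw [map_sub, map_neg, map_one, hστ]
    ring
  obtain ⟨A, hA⟩ : ∃ A : F, A = σ α := ⟨_, rfl⟩
  obtain ⟨Bb, hBb⟩ : ∃ Bb : F, Bb = σ β := ⟨_, rfl⟩
  obtain ⟨m', hm'def⟩ : ∃ m' : F, m' = σ m := ⟨_, rfl⟩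
  obtain ⟨N, hN⟩ : ∃ N : F, N = σ ν := ⟨_, rfl⟩
  rw [← hA, ← hBb, ← hN] at hsν
  rw [← hm'def] at hm'
  rw [← hN] at hm hν
  have hnσ : (!![α, -β, 0, 0; β, α + β * τ, 0, 0;
      0, 0, (A + Bb * (-1 - τ)) * m, -Bb * m; 0, 0, Bb * m, A * m] :
        Matrix (Fin 4) (Fin 4) F).map σ
      = !![A, -Bb, 0, 0; Bb, A + Bb * (-1 - τ), 0, 0;
        0, 0, (α + β * τ) * m', -β * m'; 0, 0, β * m', α * m'] := by
    ext i j
    fin_cases i <;> fin_cases j <;> simp [hσσ, hA, hBb, hm'def, hστ, hστ']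
  refine ⟨!![α, -β, 0, 0; β, α + β * τ, 0, 0;
      0, 0, (A + Bb * (-1 - τ)) * m, -Bb * m; 0, 0, Bb * m, A * m], ?_, ?_, ?_⟩
  · unfold e4uD5
    ext i j
    fin_cases i <;> fin_cases j <;>
      simp [Matrix.mul_apply, Fin.sum_univ_four] <;> ring
  · rw [hnσ]
    unfold e4uJ5
    ext i j
    fin_cases i <;> fin_cases j <;>
      simp [Matrix.mul_apply, Fin.sum_univ_four] <;>
      first
        | ring1
        | linear_combination m' * hαβ + hm'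
        | linear_combination (-m) * hsν + hm
  · rw [e4ub_det_pattern4]
    linear_combination (m ^ 2 * (A ^ 2 + (-1 - τ) * A * Bb + Bb ^ 2)) * hαβ - ν * m ^ 2 * hsν
      + (ν * m + δ) * hm + m * hν

end Cfsg.Agent.Helper47
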