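import Mathlib
import Cfsg.Prelude.Def_GeometricClasses
import Cfsg.Prelude.Def_LieClassical
import Cfsg.Agent.Helper69.E4Def
import Cfsg.Agent.Helper69.E4UDef
import Cfsg.Agent.Helper97.UForm
import Cfsg.Agent.Helper47.E4UBase

/-!
helper47: piece CANON of CALL S6001 (helper69).
-/

set_option autoImplicit false

namespace Cfsg.Agent.Helper47
open Cfsg.Agent.Helper69 Cfsg.Agent.Helper97
open scoped Matrix

/-! ### CANON -/

theorem e4u_canon {F : Type*} [Field F] (σ : F ≃+* F) (D J : Matrix (Fin 4) (Fin 4) F)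
    (hJ : J.det ≠ 0)
    (hadj : ∀ δ : F, δ * σ δ = 1 → ∃ n₀ : Matrix (Fin 4) (Fin 4) F,
      n₀ * D = D * n₀ ∧ n₀ᵀ * J * n₀.map σ = J ∧ n₀.det = δ)
    (y y' B B' : Matrix (Fin 4) (Fin 4) F) (hy : y * B = B * D) (hB : Bᵀ * B.map σ = J)
    (hy' : y' * B' = B' * D) (hB' : B'ᵀ * B'.map σ = J) :
    ∃ g : Matrix (Fin 4) (Fin 4) F, gᵀ * g.map σ = 1 ∧ g.det = 1 ∧ y * g = g * y' := by
  have hdB : B.det * σ B.det = J.det := by rw [← hB, e4ub_gram_det]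
  have hdB' : B'.det * σ B'.det = J.det := by rw [← hB', e4ub_gram_det]
  have hB0 : B.det ≠ 0 := fun h => hJ (by rw [← hdB, h, zero_mul])
  have hB'0 : B'.det ≠ 0 := fun h => hJ (by rw [← hdB', h, zero_mul])
  have hsB0 : σ B.det ≠ 0 := (map_ne_zero σ).mpr hB0
  have hδ : (B'.det / B.det) * σ (B'.det / B.det) = 1 := by
    rw [map_div₀]
    field_simp
    rw [hdB', ← hdB]
  obtain ⟨n₀, hn1, hn2, hn3⟩ := hadj _ hδ
  have hC1 : B'⁻¹ * B' = 1 := Matrix.nonsing_inv_mul _ (Ne.isUnit hB'0)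
  have hC2 : B' * B'⁻¹ = 1 := Matrix.mul_nonsing_inv _ (Ne.isUnit hB'0)
  refine ⟨B * n₀ * B'⁻¹, ?_, ?_, ?_⟩
  · rw [Matrix.transpose_mul, Matrix.transpose_mul, e4ub_map_mul, e4ub_map_mul]
    calc B'⁻¹ᵀ * (n₀ᵀ * Bᵀ) * (B.map σ * n₀.map σ * B'⁻¹.map σ)
        = B'⁻¹ᵀ * (n₀ᵀ * (Bᵀ * B.map σ) * n₀.map σ) * B'⁻¹.map σ := by
          simp only [Matrix.mul_assoc]
      _ = B'⁻¹ᵀ * (B'ᵀ * B'.map σ) * B'⁻¹.map σ := by rw [hB, hn2, hB']
      _ = (B' * B'⁻¹)ᵀ * (B' * B'⁻¹).map σ := by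
          rw [Matrix.transpose_mul, e4ub_map_mul]
          simp only [Matrix.mul_assoc]
      _ = 1 := by rw [hC2, Matrix.transpose_one, e4ub_map_one, Matrix.mul_one]
  · rw [Matrix.det_mul, Matrix.det_mul, hn3, Matrix.det_nonsing_inv, Ring.inverse_eq_inv']
    field_simp
  · have h1 : B'⁻¹ * y' = D * B'⁻¹ := by
      calc B'⁻¹ * y' = B'⁻¹ * (y' * B') * B'⁻¹ := by
            rw [Matrix.mul_assoc, Matrix.mul_assoc, hC2, Matrix.mul_one]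
        _ = D * B'⁻¹ := by rw [hy', ← Matrix.mul_assoc, hC1, Matrix.one_mul]
    calc y * (B * n₀ * B'⁻¹) = (y * B) * n₀ * B'⁻¹ := by simp only [Matrix.mul_assoc]
      _ = B * (D * n₀) * B'⁻¹ := by rw [hy]; simp only [Matrix.mul_assoc]
      _ = B * n₀ * (D * B'⁻¹) := by rw [← hn1]; simp only [Matrix.mul_assoc]
      _ = B * n₀ * B'⁻¹ * y' := by rw [← h1]; simp only [Matrix.mul_assoc]

end Cfsg.Agent.Helper47
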