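import Mathlib
import Cfsg.Prelude.Def_GeometricClasses
import Cfsg.Prelude.Def_LieClassical
import Cfsg.Agent.Helper69.E4Def
import Cfsg.Agent.Helper69.E4UDef
import Cfsg.Agent.Helper97.UForm
import Cfsg.Agent.Helper47.E4UBase

/-!
helper47: piece CF3A of CALL S6001 (helper69).
-/

set_option autoImplicit false

namespace Cfsg.Agent.Helper47
open Cfsg.Agent.Helper69 Cfsg.Agent.Helper97
open scoped Matrix

theorem e4ub_omega_facts {F : Type*} [Field F] (h3 : (3 : F) ≠ 0) (ω : F)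
    (hω : ω ^ 2 + ω + 1 = 0) : ω ≠ 1 ∧ ω ^ 3 = 1 ∧ ω ^ 2 ≠ 1 ∧ ω ≠ 0 := by
  have h1 : ω ≠ 1 := by
    rintro rfl
    apply h3
    linear_combination hω
  have h2 : ω ^ 3 = 1 := by linear_combination (ω - 1) * hω
  refine ⟨h1, h2, ?_, ?_⟩
  · intro h
    apply h3
    have e : ω = -2 := by linear_combination hω - h
    rw [e] at h
    linear_combination h
  · rintro rfl
    simp at h2

/-! ### CF3A -/

theorem e4u_canon_form_one {F : Type*} [Field F] (h3 : (3 : F) ≠ 0) (σ : F ≃+* F)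
    (hσσ : ∀ x : F, σ (σ x) = x) (ω : F) (hω : ω ^ 2 + ω + 1 = 0) (hσω : σ ω = ω)
    (y B₀ : Matrix (Fin 4) (Fin 4) F) (hU : yᵀ * y.map σ = 1) (hB₀ : B₀.det ≠ 0)
    (hy : y * B₀ = B₀ * e4uD1 ω) :
    ∃ B : Matrix (Fin 4) (Fin 4) F, y * B = B * e4uD1 ω ∧ Bᵀ * B.map σ = e4uJ1 F := by
  obtain ⟨hω1, hω3, hω21, hω0⟩ := e4ub_omega_facts h3 ω hω
  obtain ⟨G, hGdef⟩ : ∃ G : Matrix (Fin 4) (Fin 4) F, G = B₀ᵀ * B₀.map σ := ⟨_, rfl⟩
  have hinv : (e4uD1 ω)ᵀ * G * (e4uD1 ω).map σ = G := by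
    rw [hGdef]
    exact e4ub_gram_inv σ y B₀ (e4uD1 ω) hU hy
  have hent := e4ub_diag_entry σ ![ω, ω ^ 2, ω, ω ^ 2] G hinv
  have hherm : ∀ i j, G j i = σ (G i j) := by
    rw [hGdef]
    exact e4ub_gram_herm σ hσσ B₀
  have hdet : G.det ≠ 0 := by
    rw [hGdef, e4ub_gram_det]
    exact mul_ne_zero hB₀ ((map_ne_zero σ).mpr hB₀)
  have hσω2 : σ (ω ^ 2) = ω ^ 2 := by rw [map_pow, hσω]
  have hA : ∀ x : F, ω * x * ω = x → x = 0 := by
    intro x hx
    have h : (ω ^ 2 - 1) * x = 0 := by linear_combination hx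
    rcases mul_eq_zero.mp h with h | h
    · exact absurd (sub_eq_zero.mp h) hω21
    · exact h
  have hB : ∀ x : F, ω ^ 2 * x * ω ^ 2 = x → x = 0 := by
    intro x hx
    have h : (ω - 1) * x = 0 := by linear_combination hx - ω * x * hω3
    rcases mul_eq_zero.mp h with h | h
    · exact absurd (sub_eq_zero.mp h) hω1
    · exact h
  have g00 : G 0 0 = 0 := hA _ (by simpa [hσω] using hent 0 0)
  have g02 : G 0 2 = 0 := hA _ (by simpa [hσω] using hent 0 2)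
  have g20 : G 2 0 = 0 := hA _ (by simpa [hσω] using hent 2 0)
  have g22 : G 2 2 = 0 := hA _ (by simpa [hσω] using hent 2 2)
  have g11 : G 1 1 = 0 := hB _ (by simpa [hσω2] using hent 1 1)
  have g13 : G 1 3 = 0 := hB _ (by simpa [hσω2] using hent 1 3)
  have g31 : G 3 1 = 0 := hB _ (by simpa [hσω2] using hent 3 1)
  have g33 : G 3 3 = 0 := hB _ (by simpa [hσω2] using hent 3 3)
  have hG : G = !![0, G 0 1, 0, G 0 3; σ (G 0 1), 0, σ (G 2 1), 0; 0, G 2 1, 0, G 2 3;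
      σ (G 0 3), 0, σ (G 2 3), 0] := by
    ext i j
    fin_cases i <;> fin_cases j <;>
      simp [g00, g02, g20, g22, g11, g13, g31, g33, hherm 0 1, hherm 2 1, hherm 0 3, hherm 2 3]
  set a := G 0 1 with ha
  set b := G 0 3 with hb
  set c := G 2 1 with hc
  set d := G 2 3 with hd
  obtain ⟨Δ, hΔdef⟩ : ∃ Δ : F, Δ = a * d - b * c := ⟨_, rfl⟩
  have hΔ : Δ ≠ 0 := by
    intro h
    apply hdet
    rw [hG, e4ub_det_pattern1, ← hΔdef, h, zero_mul]
  clear_value a b c d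
  have h1 : a * (d / Δ) + b * (-c / Δ) = 1 := by
    field_simp
    linear_combination -hΔdef
  have h2 : a * (-b / Δ) + b * (a / Δ) = 0 := by
    field_simp
    ring
  have h3' : c * (d / Δ) + d * (-c / Δ) = 0 := by
    field_simp
    ring
  have h4 : c * (-b / Δ) + d * (a / Δ) = 1 := by
    field_simp
    linear_combination -hΔdef
  have k1 : σ a * σ (d / Δ) + σ b * σ (-c / Δ) = 1 := by
    rw [← map_mul, ← map_mul, ← map_add, h1, map_one]
  have k2 : σ a * σ (-b / Δ) + σ b * σ (a / Δ) = 0 := by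
    rw [← map_mul, ← map_mul, ← map_add, h2, map_zero]
  have k3 : σ c * σ (d / Δ) + σ d * σ (-c / Δ) = 0 := by
    rw [← map_mul, ← map_mul, ← map_add, h3', map_zero]
  have k4 : σ c * σ (-b / Δ) + σ d * σ (a / Δ) = 1 := by
    rw [← map_mul, ← map_mul, ← map_add, h4, map_one]
  generalize d / Δ = P at h1 h3' k1 k3
  generalize -c / Δ = R at h1 h3' k1 k3
  generalize -b / Δ = Q at h2 h4 k2 k4
  generalize a / Δ = S at h2 h4 k2 k4
  have hCσ : (!![1, 0, 0, 0; 0, σ P, 0, σ Q; 0, 0, 1, 0; 0, σ R, 0, σ S] :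
      Matrix (Fin 4) (Fin 4) F).map σ = !![1, 0, 0, 0; 0, P, 0, Q; 0, 0, 1, 0; 0, R, 0, S] := by
    ext i j
    fin_cases i <;> fin_cases j <;> simp [hσσ]
  have hcomm : e4uD1 ω * !![1, 0, 0, 0; 0, σ P, 0, σ Q; 0, 0, 1, 0; 0, σ R, 0, σ S]
      = !![1, 0, 0, 0; 0, σ P, 0, σ Q; 0, 0, 1, 0; 0, σ R, 0, σ S] * e4uD1 ω := by
    unfold e4uD1
    ext i j
    fin_cases i <;> fin_cases j <;>
      simp [Matrix.mul_apply, Matrix.diagonal_apply, mul_comm]
  refine ⟨B₀ * !![1, 0, 0, 0; 0, σ P, 0, σ Q; 0, 0, 1, 0; 0, σ R, 0, σ S], ?_, ?_⟩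
  · rw [← Matrix.mul_assoc, hy, Matrix.mul_assoc, hcomm, Matrix.mul_assoc]
  · rw [Matrix.transpose_mul, e4ub_map_mul, hCσ]
    have e : (!![1, 0, 0, 0; 0, σ P, 0, σ Q; 0, 0, 1, 0; 0, σ R, 0, σ S] :
        Matrix (Fin 4) (Fin 4) F)ᵀ * B₀ᵀ * (B₀.map σ * !![1, 0, 0, 0; 0, P, 0, Q; 0, 0, 1, 0; 0, R, 0, S])
        = (!![1, 0, 0, 0; 0, σ P, 0, σ Q; 0, 0, 1, 0; 0, σ R, 0, σ S] :
        Matrix (Fin 4) (Fin 4) F)ᵀ * (B₀ᵀ * B₀.map σ) * !![1, 0, 0, 0; 0, P, 0, Q; 0, 0, 1, 0; 0, R, 0, S] := by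
      simp only [Matrix.mul_assoc]
    rw [e, ← hGdef, hG]
    unfold e4uJ1
    ext i j
    fin_cases i <;> fin_cases j <;>
      simp [Matrix.mul_apply, Fin.sum_univ_four] <;>
      first
        | linear_combination h1 | linear_combination h2 | linear_combination h3'
        | linear_combination h4 | linear_combination k1 | linear_combination k2
        | linear_combination k3 | linear_combination k4

end Cfsg.Agent.Helper47
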