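import Mathlib
import Cfsg.Prelude.Def_GeometricClasses
import Cfsg.Prelude.Def_LieClassical
import Cfsg.Agent.Helper69.E4Def
import Cfsg.Agent.Helper69.E4UDef
import Cfsg.Agent.Helper97.UForm
import Cfsg.Agent.Helper67.HermGS
import Cfsg.Agent.Helper47.E4UBase
import Cfsg.Agent.Helper47.E4UCF3A

/-!
helper47: piece CF3B of CALL S6001 (helper69).
-/

set_option autoImplicit false

namespace Cfsg.Agent.Helper47
open Cfsg.Agent.Helper69 Cfsg.Agent.Helper97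
open scoped Matrix

theorem e4ub_zero_of_mul {F : Type*} [Field F] (u v x : F) (huv : u * v ≠ 1)
    (h : u * x * v = x) : x = 0 := by
  have h1 : (u * v - 1) * x = 0 := by linear_combination h
  rcases mul_eq_zero.mp h1 with h2 | h2
  · exact absurd (sub_eq_zero.mp h2) huv
  · exact h2

/-! ### CF3B -/

theorem e4u_canon_form_two {F : Type*} [Field F] [Fintype F] {p : ℕ}
    (hF : Fintype.card F = p ^ 2) (h3 : (3 : F) ≠ 0) (σ : F ≃+* F) (hσ : IsSigma p σ) (ω : F)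
    (hω : ω ^ 2 + ω + 1 = 0) (hσω : σ ω = ω)
    (y B₀ : Matrix (Fin 4) (Fin 4) F) (hU : yᵀ * y.map σ = 1) (hB₀ : B₀.det ≠ 0)
    (hy : y * B₀ = B₀ * e4uD2 ω) :
    ∃ B : Matrix (Fin 4) (Fin 4) F, y * B = B * e4uD2 ω ∧ Bᵀ * B.map σ = e4uJ2 F := by
  obtain ⟨hω1, hω3, hω21, hω0⟩ := e4ub_omega_facts h3 ω hω
  have hσσ := hσ.inv
  obtain ⟨G, hGdef⟩ : ∃ G : Matrix (Fin 4) (Fin 4) F, G = B₀ᵀ * B₀.map σ := ⟨_, rfl⟩
  have hinv : (e4uD2 ω)ᵀ * G * (e4uD2 ω).map σ = G := by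
    rw [hGdef]
    exact e4ub_gram_inv σ y B₀ (e4uD2 ω) hU hy
  have hent := e4ub_diag_entry σ ![ω, ω ^ 2, 1, 1] G hinv
  have hherm : ∀ i j, G j i = σ (G i j) := by
    rw [hGdef]
    exact e4ub_gram_herm σ hσσ B₀
  have hdet : G.det ≠ 0 := by
    rw [hGdef, e4ub_gram_det]
    exact mul_ne_zero hB₀ ((map_ne_zero σ).mpr hB₀)
  have hσω2 : σ (ω ^ 2) = ω ^ 2 := by rw [map_pow, hσω]
  have n1 : ω * σ ω ≠ 1 := by rw [hσω, ← sq]; exact hω21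
  have n2 : ω * σ 1 ≠ 1 := by rw [map_one, mul_one]; exact hω1
  have n3 : ω ^ 2 * σ (ω ^ 2) ≠ 1 := by
    rw [hσω2]
    intro h
    apply hω1
    linear_combination h - ω * hω3
  have n4 : ω ^ 2 * σ 1 ≠ 1 := by rw [map_one, mul_one]; exact hω21
  have n5 : 1 * σ ω ≠ 1 := by rw [hσω, one_mul]; exact hω1
  have n6 : 1 * σ (ω ^ 2) ≠ 1 := by rw [hσω2, one_mul]; exact hω21
  have g00 : G 0 0 = 0 := e4ub_zero_of_mul _ _ _ n1 (hent 0 0)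
  have g02 : G 0 2 = 0 := e4ub_zero_of_mul _ _ _ n2 (hent 0 2)
  have g03 : G 0 3 = 0 := e4ub_zero_of_mul _ _ _ n2 (hent 0 3)
  have g11 : G 1 1 = 0 := e4ub_zero_of_mul _ _ _ n3 (hent 1 1)
  have g12 : G 1 2 = 0 := e4ub_zero_of_mul _ _ _ n4 (hent 1 2)
  have g13 : G 1 3 = 0 := e4ub_zero_of_mul _ _ _ n4 (hent 1 3)
  have g20 : G 2 0 = 0 := e4ub_zero_of_mul _ _ _ n5 (hent 2 0)
  have g30 : G 3 0 = 0 := e4ub_zero_of_mul _ _ _ n5 (hent 3 0)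
  have g21 : G 2 1 = 0 := e4ub_zero_of_mul _ _ _ n6 (hent 2 1)
  have g31 : G 3 1 = 0 := e4ub_zero_of_mul _ _ _ n6 (hent 3 1)
  obtain ⟨a, ha⟩ : ∃ a : F, a = G 0 1 := ⟨_, rfl⟩
  obtain ⟨h22, e22⟩ : ∃ x : F, x = G 2 2 := ⟨_, rfl⟩
  obtain ⟨h23, e23⟩ : ∃ x : F, x = G 2 3 := ⟨_, rfl⟩
  obtain ⟨h32, e32⟩ : ∃ x : F, x = G 3 2 := ⟨_, rfl⟩
  obtain ⟨h33, e33⟩ : ∃ x : F, x = G 3 3 := ⟨_, rfl⟩
  have hG : G = !![0, a, 0, 0; σ a, 0, 0, 0; 0, 0, h22, h23; 0, 0, h32, h33] := by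
    ext i j
    fin_cases i <;> fin_cases j <;>
      simp [g00, g02, g03, g11, g12, g13, g20, g30, g21, g31, hherm 0 1, ha, e22, e23, e32, e33]
  have hdet2 : -(a * σ a) * (h22 * h33 - h23 * h32) ≠ 0 := by
    rw [← e4ub_det_pattern2, ← hG]
    exact hdet
  have ha0 : a ≠ 0 := by
    rintro rfl
    apply hdet2
    ring
  have hHdet : (!![h22, h23; h32, h33] : Matrix (Fin 2) (Fin 2) F).det ≠ 0 := by
    rw [Matrix.det_fin_two_of]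
    intro h
    apply hdet2
    rw [h, mul_zero]
  have hHherm : (!![h22, h23; h32, h33] : Matrix (Fin 2) (Fin 2) F)ᵀ
      = (!![h22, h23; h32, h33] : Matrix (Fin 2) (Fin 2) F).map σ := by
    ext i j
    fin_cases i <;> fin_cases j <;>
      simp [e22, e23, e32, e33, ← hherm 2 2, ← hherm 3 3, ← hherm 2 3, ← hherm 3 2]
  obtain ⟨U, -, hUU⟩ := Cfsg.Agent.Helper67.herm_gram_schmidt p hF σ hσ.pow 2 _ hHherm hHdet
  have u00 := congrFun (congrFun hUU 0) 0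
  have u01 := congrFun (congrFun hUU 0) 1
  have u10 := congrFun (congrFun hUU 1) 0
  have u11 := congrFun (congrFun hUU 1) 1
  simp [Matrix.mul_apply, Fin.sum_univ_two] at u00 u01 u10 u11
  obtain ⟨l, hl⟩ : ∃ l : F, a * l = 1 := ⟨a⁻¹, mul_inv_cancel₀ ha0⟩
  have kl : σ a * σ l = 1 := by rw [← map_mul, hl, map_one]
  have hCσ : (!![1, 0, 0, 0; 0, σ l, 0, 0; 0, 0, U 0 0, U 0 1; 0, 0, U 1 0, U 1 1] :
      Matrix (Fin 4) (Fin 4) F).map σ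
      = !![1, 0, 0, 0; 0, l, 0, 0; 0, 0, σ (U 0 0), σ (U 0 1); 0, 0, σ (U 1 0), σ (U 1 1)] := by
    ext i j
    fin_cases i <;> fin_cases j <;> simp [hσσ]
  have hcomm : e4uD2 ω * !![1, 0, 0, 0; 0, σ l, 0, 0; 0, 0, U 0 0, U 0 1; 0, 0, U 1 0, U 1 1]
      = !![1, 0, 0, 0; 0, σ l, 0, 0; 0, 0, U 0 0, U 0 1; 0, 0, U 1 0, U 1 1] * e4uD2 ω := by
    unfold e4uD2
    ext i j
    fin_cases i <;> fin_cases j <;>
      simp [Matrix.mul_apply, Matrix.diagonal_apply, mul_comm]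
  refine ⟨B₀ * !![1, 0, 0, 0; 0, σ l, 0, 0; 0, 0, U 0 0, U 0 1; 0, 0, U 1 0, U 1 1], ?_, ?_⟩
  · rw [← Matrix.mul_assoc, hy, Matrix.mul_assoc, hcomm, Matrix.mul_assoc]
  · rw [Matrix.transpose_mul, e4ub_map_mul, hCσ]
    have e : (!![1, 0, 0, 0; 0, σ l, 0, 0; 0, 0, U 0 0, U 0 1; 0, 0, U 1 0, U 1 1] :
        Matrix (Fin 4) (Fin 4) F)ᵀ * B₀ᵀ * (B₀.map σ *
          !![1, 0, 0, 0; 0, l, 0, 0; 0, 0, σ (U 0 0), σ (U 0 1); 0, 0, σ (U 1 0), σ (U 1 1)])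
        = (!![1, 0, 0, 0; 0, σ l, 0, 0; 0, 0, U 0 0, U 0 1; 0, 0, U 1 0, U 1 1] :
        Matrix (Fin 4) (Fin 4) F)ᵀ * (B₀ᵀ * B₀.map σ) *
          !![1, 0, 0, 0; 0, l, 0, 0; 0, 0, σ (U 0 0), σ (U 0 1); 0, 0, σ (U 1 0), σ (U 1 1)] := by
      simp only [Matrix.mul_assoc]
    rw [e, ← hGdef, hG]
    unfold e4uJ2
    ext i j
    fin_cases i <;> fin_cases j <;>
      simp [Matrix.mul_apply, Fin.sum_univ_four] <;>
      first
        | linear_combination hl | linear_combination kl | linear_combination u00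
        | linear_combination u01 | linear_combination u10 | linear_combination u11

end Cfsg.Agent.Helper47
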