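import Mathlib
import Cfsg.Prelude.Def_GeometricClasses
import Cfsg.Prelude.Def_LieClassical
import Cfsg.Agent.Helper69.E4Def
import Cfsg.Agent.Helper69.E4UDef
import Cfsg.Agent.Helper97.UForm
import Cfsg.Agent.Helper47.E4UBase

/-!
helper47: piece CF5 of CALL S6001 (helper69).
-/

set_option autoImplicit false

namespace Cfsg.Agent.Helper47
open Cfsg.Agent.Helper69 Cfsg.Agent.Helper97
open scoped Matrix

/-- entries of `(e4uM0 τ)ᵀ * G * M'`, `M'` the block diagonal of two companion matrices -/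
theorem e4ub_M0_entries {F : Type*} [Field F] (τ u v : F) (G : Matrix (Fin 4) (Fin 4) F) :
    (e4uM0 τ)ᵀ * G * !![0, -1, 0, 0; 1, u, 0, 0; 0, 0, 0, -1; 0, 0, 1, v]
      = !![G 1 1, -G 1 0 + u * G 1 1, G 1 3, -G 1 2 + v * G 1 3;
          -G 0 1 + τ * G 1 1, G 0 0 - u * G 0 1 - τ * G 1 0 + τ * u * G 1 1,
            -G 0 3 + τ * G 1 3, G 0 2 - v * G 0 3 - τ * G 1 2 + τ * v * G 1 3;
          G 3 1, -G 3 0 + u * G 3 1, G 3 3, -G 3 2 + v * G 3 3;
          -G 2 1 + (-1 - τ) * G 3 1, G 2 0 - u * G 2 1 - (-1 - τ) * G 3 0 + (-1 - τ) * u * G 3 1,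
            -G 2 3 + (-1 - τ) * G 3 3,
            G 2 2 - v * G 2 3 - (-1 - τ) * G 3 2 + (-1 - τ) * v * G 3 3] := by
  unfold e4uM0
  ext i j
  fin_cases i <;> fin_cases j <;>
    simp [Matrix.mul_apply, Fin.sum_univ_four] <;> ring1

/-! ### CF5 -/

theorem e4u_canon_form_five {F : Type*} [Field F] (h5 : (5 : F) ≠ 0) (σ : F ≃+* F)
    (hσσ : ∀ x : F, σ (σ x) = x) (τ : F) (hτ : τ ^ 2 + τ - 1 = 0) (hστ : σ τ = -1 - τ)
    (y B₀ : Matrix (Fin 4) (Fin 4) F) (hU : yᵀ * y.map σ = 1) (hB₀ : B₀.det ≠ 0)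
    (hy : y * B₀ = B₀ * e4uM0 τ) :
    ∃ B : Matrix (Fin 4) (Fin 4) F, y * B = B * e4uD5 τ ∧ Bᵀ * B.map σ = e4uJ5 F := by
  have hστ' : σ (-1 - τ) = τ := by
    rw [map_sub, map_neg, map_one, hστ]
    ring
  have h2τ : 2 * τ + 1 ≠ 0 := by
    intro h
    apply h5
    linear_combination (2 * τ + 1) * h - 4 * hτ
  obtain ⟨G, hGdef⟩ : ∃ G : Matrix (Fin 4) (Fin 4) F, G = B₀ᵀ * B₀.map σ := ⟨_, rfl⟩
  have hinv : (e4uM0 τ)ᵀ * G * (e4uM0 τ).map σ = G := by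
    rw [hGdef]
    exact e4ub_gram_inv σ y B₀ (e4uM0 τ) hU hy
  have hM' : (e4uM0 τ).map σ = !![0, -1, 0, 0; 1, -1 - τ, 0, 0; 0, 0, 0, -1; 0, 0, 1, τ] := by
    unfold e4uM0
    ext i j
    fin_cases i <;> fin_cases j <;> simp [hστ, hστ']
  rw [hM', e4ub_M0_entries] at hinv
  have hherm : ∀ i j, G j i = σ (G i j) := by
    rw [hGdef]
    exact e4ub_gram_herm σ hσσ B₀
  have hdet : G.det ≠ 0 := by
    rw [hGdef, e4ub_gram_det]
    exact mul_ne_zero hB₀ ((map_ne_zero σ).mpr hB₀)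
  have p00 : G 1 1 = G 0 0 := congrFun (congrFun hinv 0) 0
  have p01 : -G 1 0 + (-1 - τ) * G 1 1 = G 0 1 := congrFun (congrFun hinv 0) 1
  have p10 : -G 0 1 + τ * G 1 1 = G 1 0 := congrFun (congrFun hinv 1) 0
  have p11 : G 0 0 - (-1 - τ) * G 0 1 - τ * G 1 0 + τ * (-1 - τ) * G 1 1 = G 1 1 :=
    congrFun (congrFun hinv 1) 1
  have p22 : G 3 3 = G 2 2 := congrFun (congrFun hinv 2) 2
  have p23 : -G 3 2 + τ * G 3 3 = G 2 3 := congrFun (congrFun hinv 2) 3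
  have p32 : -G 2 3 + (-1 - τ) * G 3 3 = G 3 2 := congrFun (congrFun hinv 3) 2
  have p33 : G 2 2 - τ * G 2 3 - (-1 - τ) * G 3 2 + (-1 - τ) * τ * G 3 3 = G 3 3 :=
    congrFun (congrFun hinv 3) 3
  have p02 : G 1 3 = G 0 2 := congrFun (congrFun hinv 0) 2
  have p03 : -G 1 2 + τ * G 1 3 = G 0 3 := congrFun (congrFun hinv 0) 3
  have hz : ∀ x : F, (2 * τ + 1) * x = 0 → x = 0 := by
    intro x hx
    rcases mul_eq_zero.mp hx with h | h
    · exact absurd h h2τ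
    · exact h
  have g11 : G 1 1 = 0 := hz _ (by linear_combination p10 - p01)
  have g00 : G 0 0 = 0 := by rw [← p00, g11]
  have g01 : G 0 1 = 0 := by
    rw [g11] at p10 p11
    rw [g00] at p11
    exact hz _ (by linear_combination (-τ) * p10 + p11)
  have g10 : G 1 0 = 0 := by rw [← p10, g01, g11]; ring
  have g33 : G 3 3 = 0 := hz _ (by linear_combination p23 - p32)
  have g22 : G 2 2 = 0 := by rw [← p22, g33]
  have g23 : G 2 3 = 0 := by
    rw [g33] at p32 p33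
    rw [g22] at p33
    exact hz _ (by linear_combination (-1 - τ) * p32 - p33)
  have g32 : G 3 2 = 0 := by rw [← p32, g23, g33]; ring
  obtain ⟨s, hs⟩ : ∃ s : F, s = G 0 2 := ⟨_, rfl⟩
  obtain ⟨t, ht⟩ : ∃ t : F, t = G 0 3 := ⟨_, rfl⟩
  obtain ⟨w, hw⟩ : ∃ w : F, w = G 1 2 := ⟨_, rfl⟩
  have hG : G = !![0, 0, s, t; 0, 0, w, s; σ s, σ w, 0, 0; σ t, σ s, 0, 0] := by
    ext i j
    fin_cases i <;> fin_cases j <;>
      simp [g00, g01, g10, g11, g22, g23, g32, g33, hs, ht, hw, p02, hherm 0 2, hherm 0 3,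
        hherm 1 2, hherm 1 3]
  have hwst : w = τ * s - t := by
    rw [hw, hs, ht, ← p03, p02]
    ring
  obtain ⟨Δ, hΔdef⟩ : ∃ Δ : F, Δ = s * s - t * w := ⟨_, rfl⟩
  have hΔ : Δ ≠ 0 := by
    intro h
    apply hdet
    rw [hG, e4ub_det_pattern3, ← hΔdef, h, zero_mul]
  have h1 : s * (s / Δ) + t * (-w / Δ) = 1 := by
    field_simp
    linear_combination -hΔdef
  have h2 : s * (-t / Δ) + t * (s / Δ) = 0 := by
    field_simp
    ring
  have h3 : w * (s / Δ) + s * (-w / Δ) = 0 := by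
    field_simp
    ring
  have h4 : w * (-t / Δ) + s * (s / Δ) = 1 := by
    field_simp
    linear_combination -hΔdef
  have h5' : -t / Δ + -w / Δ + τ * (s / Δ) = 0 := by
    field_simp
    linear_combination -hwst
  have k1 : σ s * σ (s / Δ) + σ t * σ (-w / Δ) = 1 := by
    rw [← map_mul, ← map_mul, ← map_add, h1, map_one]
  have k2 : σ s * σ (-t / Δ) + σ t * σ (s / Δ) = 0 := by
    rw [← map_mul, ← map_mul, ← map_add, h2, map_zero]
  have k3 : σ w * σ (s / Δ) + σ s * σ (-w / Δ) = 0 := by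
    rw [← map_mul, ← map_mul, ← map_add, h3, map_zero]
  have k4 : σ w * σ (-t / Δ) + σ s * σ (s / Δ) = 1 := by
    rw [← map_mul, ← map_mul, ← map_add, h4, map_one]
  have k5 : σ (-t / Δ) + σ (-w / Δ) + (-1 - τ) * σ (s / Δ) = 0 := by
    rw [← hστ, ← map_mul, ← map_add, ← map_add, h5', map_zero]
  generalize s / Δ = P at h1 h2 h3 h4 h5' k1 k2 k3 k4 k5
  generalize -w / Δ = R at h1 h3 h5' k1 k3 k5
  generalize -t / Δ = Q at h2 h4 h5' k2 k4 k5
  have hCσ : (!![1, 0, 0, 0; 0, 1, 0, 0; 0, 0, σ P, σ Q; 0, 0, σ R, σ P] :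
      Matrix (Fin 4) (Fin 4) F).map σ = !![1, 0, 0, 0; 0, 1, 0, 0; 0, 0, P, Q; 0, 0, R, P] := by
    ext i j
    fin_cases i <;> fin_cases j <;> simp [hσσ]
  have hcomm : e4uM0 τ * !![1, 0, 0, 0; 0, 1, 0, 0; 0, 0, σ P, σ Q; 0, 0, σ R, σ P]
      = !![1, 0, 0, 0; 0, 1, 0, 0; 0, 0, σ P, σ Q; 0, 0, σ R, σ P] * e4uD5 τ := by
    unfold e4uM0 e4uD5
    ext i j
    fin_cases i <;> fin_cases j <;>
      simp [Matrix.mul_apply, Fin.sum_univ_four] <;>
      first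
        | ring1
        | linear_combination k5
        | linear_combination -k5
  refine ⟨B₀ * !![1, 0, 0, 0; 0, 1, 0, 0; 0, 0, σ P, σ Q; 0, 0, σ R, σ P], ?_, ?_⟩
  · rw [← Matrix.mul_assoc, hy, Matrix.mul_assoc, hcomm, Matrix.mul_assoc]
  · rw [Matrix.transpose_mul, e4ub_map_mul, hCσ]
    have e : (!![1, 0, 0, 0; 0, 1, 0, 0; 0, 0, σ P, σ Q; 0, 0, σ R, σ P] :
        Matrix (Fin 4) (Fin 4) F)ᵀ * B₀ᵀ * (B₀.map σ *
          !![1, 0, 0, 0; 0, 1, 0, 0; 0, 0, P, Q; 0, 0, R, P])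
        = (!![1, 0, 0, 0; 0, 1, 0, 0; 0, 0, σ P, σ Q; 0, 0, σ R, σ P] :
        Matrix (Fin 4) (Fin 4) F)ᵀ * (B₀ᵀ * B₀.map σ) *
          !![1, 0, 0, 0; 0, 1, 0, 0; 0, 0, P, Q; 0, 0, R, P] := by
      simp only [Matrix.mul_assoc]
    rw [e, ← hGdef, hG]
    unfold e4uJ5
    ext i j
    fin_cases i <;> fin_cases j <;>
      simp [Matrix.mul_apply, Fin.sum_univ_four] <;>
      first
        | linear_combination h1 | linear_combination h2 | linear_combination h3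
        | linear_combination h4 | linear_combination k1 | linear_combination k2
        | linear_combination k3 | linear_combination k4

end Cfsg.Agent.Helper47
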