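import Cfsg.Agent.Helper47.YL

set_option autoImplicit false

namespace Cfsg.Agent.Helper47

open scoped commutatorElement Pointwise

local notation "cj(" g "," Q ")" => Subgroup.map (MulEquiv.toMonoidHom (MulAut.conj g)) Q

section ea

variable {G : Type*} [Group G] {p : ℕ}

/-- a subgroup generated by pairwise commuting elements of order dividing `p` is elementary abelian -/
theorem isElementaryAbelian_closure (U : Set G)
    (hcomm : ∀ a ∈ U, ∀ b ∈ U, a * b = b * a) (hpow : ∀ a ∈ U, a ^ p = 1) :
    Cfsg.IsElementaryAbelian p (Subgroup.closure U) := by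
  have h1 : Subgroup.closure U ≤ Subgroup.centralizer U := by
    rw [Subgroup.closure_le]
    intro a ha
    show a ∈ Subgroup.centralizer U
    rw [Subgroup.mem_centralizer_iff]
    intro b hb
    exact hcomm b hb a ha
  have h2 : Subgroup.closure U ≤ Subgroup.centralizer (Subgroup.closure U : Set G) := by
    rw [Subgroup.closure_le]
    intro a ha
    show a ∈ Subgroup.centralizer (Subgroup.closure U : Set G)
    rw [Subgroup.mem_centralizer_iff]
    intro b hb
    have := h1 hb
    rw [Subgroup.mem_centralizer_iff] at this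
    exact (this a ha).symm
  have hc : ∀ a ∈ Subgroup.closure U, ∀ b ∈ Subgroup.closure U, a * b = b * a := by
    intro a ha b hb
    have := h2 ha
    rw [Subgroup.mem_centralizer_iff] at this
    exact (this b hb).symm
  refine ⟨isMulCommutative_iff.mpr fun a b => Subtype.ext (hc a a.2 b b.2), ?_⟩
  intro a ha
  induction ha using Subgroup.closure_induction with
  | mem x hx => exact hpow x hx
  | one => exact one_pow p
  | mul x y hx hy ihx ihy =>
    have hxy : Commute x y := hc x hx y hy
    rw [hxy.mul_pow, ihx, ihy, one_mul]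
  | inv x hx ih => rw [inv_pow, ih, inv_one]

theorem IsElementaryAbelian_map {H : Type*} [Group H] {A : Subgroup G}
    (hA : Cfsg.IsElementaryAbelian p A) (f : G →* H) : Cfsg.IsElementaryAbelian p (A.map f) := by
  obtain ⟨hc, hp⟩ := hA
  rw [isMulCommutative_iff] at hc
  refine ⟨isMulCommutative_iff.mpr ?_, ?_⟩
  · rintro ⟨_, a, ha, rfl⟩ ⟨_, b, hb, rfl⟩
    apply Subtype.ext
    show f a * f b = f b * f a
    have := congrArg Subtype.val (hc ⟨a, ha⟩ ⟨b, hb⟩)
    have h' : a * b = b * a := this
    rw [← map_mul, ← map_mul, h']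
  · rintro _ ⟨a, ha, rfl⟩
    rw [← map_pow, hp a ha, map_one]

theorem IsElementaryAbelian_isPGroup [Fact p.Prime] {A : Subgroup G}
    (hA : Cfsg.IsElementaryAbelian p A) : IsPGroup p ↥A := by
  intro a
  refine ⟨1, ?_⟩
  apply Subtype.ext
  rw [pow_one]
  exact hA.2 a a.2

theorem IsElementaryAbelian_comm {A : Subgroup G}
    (hA : Cfsg.IsElementaryAbelian p A) {a b : G} (ha : a ∈ A) (hb : b ∈ A) : a * b = b * a := by
  have h := isMulCommutative_iff.mp hA.1 ⟨a, ha⟩ ⟨b, hb⟩
  exact congrArg Subtype.val h

theorem isPReducedNormal_le_pCore [Fact p.Prime] [Finite G] {V : Subgroup G}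
    (hV : Cfsg.IsPReducedNormal p V) : V ≤ Cfsg.pCore p G :=
  le_pCore hV.1 (IsElementaryAbelian_isPGroup hV.2.1)

theorem largestPReduced_isElementaryAbelian [Fact p.Prime] [Finite G] :
    Cfsg.IsElementaryAbelian p (Cfsg.largestPReduced p G) := by
  have e : Cfsg.largestPReduced p G =
      Subgroup.closure (⋃ V ∈ {V : Subgroup G | Cfsg.IsPReducedNormal p V}, (V : Set G)) := by
    unfold Cfsg.largestPReduced
    apply le_antisymm
    · apply sSup_le
      intro V hV x hx
      exact Subgroup.subset_closure (Set.mem_iUnion₂.mpr ⟨V, hV, hx⟩)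
    · rw [Subgroup.closure_le]
      intro x hx
      obtain ⟨V, hV, hxV⟩ := Set.mem_iUnion₂.mp hx
      exact (le_sSup (a := V) hV) hxV
  rw [e]
  apply isElementaryAbelian_closure
  · intro a ha b hb
    simp only [Set.mem_iUnion, Set.mem_setOf_eq, SetLike.mem_coe] at ha hb
    obtain ⟨V, hV, haV⟩ := ha
    obtain ⟨W, hW, hbW⟩ := hb
    have h1 := pCore_le_centralizer_of_isPReducedNormal hW (isPReducedNormal_le_pCore hV haV)
    rw [Subgroup.mem_centralizer_iff] at h1
    exact (h1 b hbW).symm
  · intro a ha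
    simp only [Set.mem_iUnion, Set.mem_setOf_eq, SetLike.mem_coe] at ha
    obtain ⟨V, hV, haV⟩ := ha
    exact hV.2.1.2 a haV

theorem largestPReducedOf_isElementaryAbelian [Fact p.Prime] [Finite G] (M : Subgroup G) :
    Cfsg.IsElementaryAbelian p (Cfsg.largestPReducedOf p M) :=
  IsElementaryAbelian_map largestPReduced_isElementaryAbelian _

theorem largestPReduced_le_pCore [Fact p.Prime] [Finite G] :
    Cfsg.largestPReduced p G ≤ Cfsg.pCore p G :=
  sSup_le fun _ hV => isPReducedNormal_le_pCore hV

theorem largestPReducedOf_le_pCoreOf [Fact p.Prime] [Finite G] (M : Subgroup G) :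
    Cfsg.largestPReducedOf p M ≤ Cfsg.pCoreOf p M :=
  Subgroup.map_mono largestPReduced_le_pCore

end ea

end Cfsg.Agent.Helper47
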