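import Mathlib
import Cfsg.Prelude.Def_GeometricClasses
import Cfsg.Prelude.Def_Classical
import Cfsg.Agent.Helper98.ELPDefs

set_option autoImplicit false

/-!
# CALL ELP piece LEVIISO (helper47): the Levi element is an isometry of `qp`.
-/

namespace Cfsg.Agent.Helper47.ELP

open Matrix Cfsg.Agent.Helper98.ELP
open scoped MatrixGroups

variable {n : Type} [Fintype n] [DecidableEq n] {F : Type*} [Field F]

theorem levi_mem_iso (A : GL n F) : levi A ∈ Cfsg.isometryGroup F (qp n F) := by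
  intro v _
  show qp n F ((levi A : Matrix (n ⊕ n) (n ⊕ n) F) *ᵥ v) = qp n F v
  have hv : v = Sum.elim (fun j => v (.inl j)) (fun j => v (.inr j)) := by
    funext x; cases x <;> rfl
  obtain ⟨u, hu⟩ : ∃ u : n → F, u = fun j => v (.inl j) := ⟨_, rfl⟩
  obtain ⟨u', hu'⟩ : ∃ u' : n → F, u' = fun j => v (.inr j) := ⟨_, rfl⟩
  rw [← hu, ← hu'] at hv
  have h1 : qp n F ((levi A : Matrix (n ⊕ n) (n ⊕ n) F) *ᵥ v) =
      ((A : Matrix n n F) *ᵥ u) ⬝ᵥ ((((A⁻¹ : GL n F) : Matrix n n F)ᵀ) *ᵥ u') := by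
    rw [hv, levi_coe, Matrix.fromBlocks_mulVec]
    simp [qp, dotProduct]
  have h2 : qp n F v = u ⬝ᵥ u' := by
    rw [hu, hu']
    rfl
  rw [h1, h2, Matrix.mulVec_transpose, dotProduct_comm, Matrix.dotProduct_mulVec,
    Matrix.vecMul_vecMul, ← Units.val_mul, inv_mul_cancel, Units.val_one, Matrix.vecMul_one,
    dotProduct_comm]

end Cfsg.Agent.Helper47.ELP
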