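import Cfsg.Agent.Helper47.Conj

set_option autoImplicit false

namespace Cfsg.Agent.Helper47

open scoped commutatorElement Pointwise

local notation "cj(" g "," Q ")" => Subgroup.map (MulEquiv.toMonoidHom (MulAut.conj g)) Q

section flcore

variable {H : Type*} [Group H]

/-- the elements of `H` fixing `b` modulo the central subgroup `C` -/
def flStab (C : Subgroup H) (hC : C ≤ Subgroup.center H) (b : H) : Subgroup H where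
  carrier := {g | g * b * g⁻¹ * b⁻¹ ∈ C}
  mul_mem' := by
    intro g g' h1 h2
    simp only [Set.mem_setOf_eq] at h1 h2 ⊢
    have hc' := Subgroup.mem_center_iff.mp (hC h2) g
    have e : g * g' * b * (g * g')⁻¹ * b⁻¹ = (g * (g' * b * g'⁻¹ * b⁻¹)) * (b * g⁻¹ * b⁻¹) := by
      group
    rw [e, hc']
    have e2 : g' * b * g'⁻¹ * b⁻¹ * g * (b * g⁻¹ * b⁻¹) =
        (g' * b * g'⁻¹ * b⁻¹) * (g * b * g⁻¹ * b⁻¹) := by group
    rw [e2]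
    exact C.mul_mem h2 h1
  one_mem' := by
    simp only [Set.mem_setOf_eq]
    have e : (1 : H) * b * 1⁻¹ * b⁻¹ = 1 := by group
    rw [e]
    exact C.one_mem
  inv_mem' := by
    intro g h1
    simp only [Set.mem_setOf_eq] at h1 ⊢
    have hc := Subgroup.mem_center_iff.mp (hC (C.inv_mem h1)) g⁻¹
    have e : g⁻¹ * b * g⁻¹⁻¹ * b⁻¹ = g⁻¹ * (g * b * g⁻¹ * b⁻¹)⁻¹ * g := by group
    rw [e, hc]
    have e2 : (g * b * g⁻¹ * b⁻¹)⁻¹ * g⁻¹ * g = (g * b * g⁻¹ * b⁻¹)⁻¹ := by group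
    rw [e2]
    exact C.inv_mem h1

theorem mem_flStab {C : Subgroup H} {hC : C ≤ Subgroup.center H} {b g : H} :
    g ∈ flStab C hC b ↔ g * b * g⁻¹ * b⁻¹ ∈ C := Iff.rfl

theorem flStab_symm {C : Subgroup H} {hC : C ≤ Subgroup.center H} {b g : H}
    (h : g ∈ flStab C hC b) : b ∈ flStab C hC g := by
  rw [mem_flStab] at h ⊢
  have e : b * g * b⁻¹ * g⁻¹ = (g * b * g⁻¹ * b⁻¹)⁻¹ := by group
  rw [e]
  exact C.inv_mem h

theorem flStab_of_commute {C : Subgroup H} {hC : C ≤ Subgroup.center H} {b g : H}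
    (h : g * b = b * g) : g ∈ flStab C hC b := by
  rw [mem_flStab]
  have e : g * b * g⁻¹ * b⁻¹ = 1 := by rw [h]; group
  rw [e]
  exact C.one_mem

/-- product decomposition in a join when one factor normalizes the other -/
theorem fl_exists_mul_of_mem_sup {K J : Subgroup H} (hKJ : K ≤ Subgroup.normalizer (J : Set H))
    {x : H} (hx : x ∈ K ⊔ J) : ∃ k ∈ K, ∃ j ∈ J, x = k * j := by
  let T : Subgroup H :=
    { carrier := {x | ∃ k ∈ K, ∃ j ∈ J, x = k * j}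
      mul_mem' := by
        rintro _ _ ⟨k, hk, j, hj, rfl⟩ ⟨k', hk', j', hj', rfl⟩
        refine ⟨k * k', K.mul_mem hk hk', k'⁻¹ * j * k' * j', J.mul_mem ?_ hj', by group⟩
        have := (Subgroup.mem_normalizer_iff.mp (hKJ (K.inv_mem hk')) j).mp hj
        rwa [inv_inv] at this
      one_mem' := ⟨1, K.one_mem, 1, J.one_mem, by simp⟩
      inv_mem' := by
        rintro _ ⟨k, hk, j, hj, rfl⟩
        refine ⟨k⁻¹, K.inv_mem hk, k * j⁻¹ * k⁻¹, ?_, by group⟩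
        exact (Subgroup.mem_normalizer_iff.mp (hKJ hk) j⁻¹).mp (J.inv_mem hj) }
  have hT : K ⊔ J ≤ T :=
    sup_le (fun k hk => ⟨k, hk, 1, J.one_mem, by simp⟩) (fun j hj => ⟨1, K.one_mem, j, hj, by simp⟩)
  exact hT hx

/-- the abstract data of the `𝔏`-situation, inside the group `H = L` -/
structure FLData (Y A : Subgroup H) : Prop where
  ab : ∀ x ∈ Y, ∀ y ∈ Y, x * y = y * x
  AY : A ≤ Subgroup.normalizer (Y : Set H)
  gen : ∀ W : Subgroup H, W.Normal → Y ⊓ A ≤ W → A ≤ W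
  pair : ∀ g : H, cj(g, Y) ≠ Y → Y ⊔ cj(g, Y) = ⊤
  CA : Y ⊓ Subgroup.center H ≤ A
  ne : Y ⊔ A ≠ ⊤

theorem fl_cj_top (g : H) : cj(g, (⊤ : Subgroup H)) = ⊤ :=
  Subgroup.map_top_of_surjective _ (MulAut.conj g).surjective

theorem fl_cj_inv_cj (g : H) (Q : Subgroup H) : cj(g⁻¹, cj(g, Q)) = Q := by
  rw [cj_cj, inv_mul_cancel, cj_one]

theorem fl_cj_cj_inv (g : H) (Q : Subgroup H) : cj(g, cj(g⁻¹, Q)) = Q := by
  rw [cj_cj, mul_inv_cancel, cj_one]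

theorem fl_cj_injective (g : H) {Q R : Subgroup H} (h : cj(g, Q) = cj(g, R)) : Q = R := by
  rw [← fl_cj_inv_cj g Q, h, fl_cj_inv_cj]

variable {Y A : Subgroup H}

theorem FLData.pair2 (hD : FLData Y A) {g₁ g₂ : H} (hne : cj(g₁, Y) ≠ cj(g₂, Y)) :
    cj(g₁, Y) ⊔ cj(g₂, Y) = ⊤ := by
  have h1 : cj(g₁⁻¹ * g₂, Y) ≠ Y := by
    intro h
    apply hne
    have e : cj(g₁, cj(g₁⁻¹ * g₂, Y)) = cj(g₂, Y) := by rw [cj_cj, mul_inv_cancel_left]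
    rw [← e, h]
  have h2 := hD.pair _ h1
  have h3 : cj(g₁, Y ⊔ cj(g₁⁻¹ * g₂, Y)) = cj(g₁, ⊤) := by rw [h2]
  rw [cj_sup, cj_cj, mul_inv_cancel_left, fl_cj_top] at h3
  exact h3

theorem FLData.ab_cj (hD : FLData Y A) (g : H) {x y : H} (hx : x ∈ cj(g, Y)) (hy : y ∈ cj(g, Y)) :
    x * y = y * x := by
  have h := hD.ab _ (mem_cj.mp hx) _ (mem_cj.mp hy)
  calc x * y = g * (g⁻¹ * x * g * (g⁻¹ * y * g)) * g⁻¹ := by group
    _ = g * (g⁻¹ * y * g * (g⁻¹ * x * g)) * g⁻¹ := by rw [h]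
    _ = y * x := by group

theorem FLData.C_le_cj (g : H) : Y ⊓ Subgroup.center H ≤ cj(g, Y) := by
  intro c hc
  rw [mem_cj]
  have h := Subgroup.mem_center_iff.mp hc.2 g
  have e : g⁻¹ * c * g = c := by
    calc g⁻¹ * c * g = g⁻¹ * (c * g) := by group
      _ = g⁻¹ * (g * c) := by rw [h]
      _ = c := by group
  rw [e]
  exact hc.1

theorem FLData.inf_le_C (hD : FLData Y A) {g₁ g₂ : H} (hne : cj(g₁, Y) ≠ cj(g₂, Y)) :
    cj(g₁, Y) ⊓ cj(g₂, Y) ≤ Y ⊓ Subgroup.center H := by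
  intro d hd
  have hcen : d ∈ Subgroup.center H := by
    have h1 : cj(g₁, Y) ≤ Subgroup.centralizer ({d} : Set H) := by
      intro x hx
      rw [Subgroup.mem_centralizer_iff]
      intro z hz
      rw [Set.mem_singleton_iff] at hz
      subst hz
      exact hD.ab_cj g₁ hd.1 hx
    have h2 : cj(g₂, Y) ≤ Subgroup.centralizer ({d} : Set H) := by
      intro x hx
      rw [Subgroup.mem_centralizer_iff]
      intro z hz
      rw [Set.mem_singleton_iff] at hz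
      subst hz
      exact hD.ab_cj g₂ hd.2 hx
    have h3 : (⊤ : Subgroup H) ≤ Subgroup.centralizer ({d} : Set H) := by
      rw [← hD.pair2 hne]
      exact sup_le h1 h2
    rw [Subgroup.mem_center_iff]
    intro x
    have := Subgroup.mem_centralizer_iff.mp (h3 (Subgroup.mem_top x)) d (Set.mem_singleton d)
    exact this.symm
  refine ⟨?_, hcen⟩
  have h := mem_cj.mp hd.1
  have hc := Subgroup.mem_center_iff.mp hcen g₁
  have e : g₁⁻¹ * d * g₁ = d := by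
    calc g₁⁻¹ * d * g₁ = g₁⁻¹ * (d * g₁) := by group
      _ = g₁⁻¹ * (g₁ * d) := by rw [hc]
      _ = d := by group
  rwa [e] at h

theorem FLData.A_le_normalizer_cj (hD : FLData Y A) [hA : A.Normal] (g : H) :
    A ≤ Subgroup.normalizer ((cj(g, Y) : Subgroup H) : Set H) := by
  rw [normalizer_cj]
  have h := cj_mono (g := g) hD.AY
  rwa [cj_of_normal] at h

/-- conjugating an element of `A` by an element of a conjugate of `Y` changes it by an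
element of that conjugate -/
theorem FLData.comm_mem (hD : FLData Y A) [hA : A.Normal] (g : H) {y x : H}
    (hy : y ∈ cj(g, Y)) (hx : x ∈ A) : y * x * y⁻¹ * x⁻¹ ∈ cj(g, Y) ⊓ A := by
  constructor
  · have h1 := (Subgroup.mem_normalizer_iff.mp (hD.A_le_normalizer_cj g hx) y⁻¹).mp
      (Subgroup.inv_mem _ hy)
    have e : y * x * y⁻¹ * x⁻¹ = y * (x * y⁻¹ * x⁻¹) := by group
    rw [e]
    exact Subgroup.mul_mem _ hy h1
  · exact A.mul_mem (hA.conj_mem x hx y) (A.inv_mem hx)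

theorem FLData.A_le_sup (hD : FLData Y A) [hA : A.Normal] [Finite H] {g₁ g₂ : H}
    (hne : cj(g₁, Y) ≠ cj(g₂, Y)) : A ≤ (cj(g₁, Y) ⊓ A) ⊔ (cj(g₂, Y) ⊓ A) := by
  obtain ⟨W, hW⟩ : ∃ W, W = (cj(g₁, Y) ⊓ A) ⊔ (cj(g₂, Y) ⊓ A) := ⟨_, rfl⟩
  rw [← hW]
  -- each conjugate normalizes `W`
  have key : ∀ (g g' : H), cj(g, Y) ⊓ A ≤ W → cj(g', Y) ⊓ A ≤ W →
      W ≤ (cj(g, Y) ⊓ A) ⊔ (cj(g', Y) ⊓ A) →
      cj(g, Y) ≤ Subgroup.normalizer (W : Set H) := by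
    intro g g' h1 h2 h3 y hy
    rw [← cj_eq_self_iff]
    apply cj_eq_of_le
    have h4 : cj(y, W) ≤ cj(y, (cj(g, Y) ⊓ A) ⊔ (cj(g', Y) ⊓ A)) := cj_mono h3
    refine h4.trans ?_
    rw [cj_sup]
    apply sup_le
    · intro x hx
      have hx' := mem_cj.mp hx
      apply h1
      have hyi : y⁻¹ ∈ cj(g, Y) := Subgroup.inv_mem _ hy
      refine ⟨?_, ?_⟩
      · have : x = y * (y⁻¹ * x * y) * y⁻¹ := by group
        rw [this]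
        exact Subgroup.mul_mem _ (Subgroup.mul_mem _ hy hx'.1) hyi
      · have : x = y * (y⁻¹ * x * y) * y⁻¹ := by group
        rw [this]
        exact hA.conj_mem _ hx'.2 y
    · intro x hx
      have hx' := mem_cj.mp hx
      -- x = y x' y⁻¹ with x' ∈ cj(g',Y) ⊓ A
      have h5 := hD.comm_mem g hy hx'.2
      have e : x = (y * (y⁻¹ * x * y) * y⁻¹ * (y⁻¹ * x * y)⁻¹) * (y⁻¹ * x * y) := by group
      rw [e]
      exact W.mul_mem (h1 h5) (h2 hx')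
  have hn1 : cj(g₁, Y) ≤ Subgroup.normalizer (W : Set H) :=
    key g₁ g₂ (hW ▸ le_sup_left) (hW ▸ le_sup_right) hW.le
  have hn2 : cj(g₂, Y) ≤ Subgroup.normalizer (W : Set H) :=
    key g₂ g₁ (hW ▸ le_sup_right) (hW ▸ le_sup_left) (by rw [hW, sup_comm])
  have hWn : W.Normal := by
    rw [← Subgroup.normalizer_eq_top_iff, eq_top_iff, ← hD.pair2 hne]
    exact sup_le hn1 hn2
  apply hD.gen W hWn
  have h6 : cj(g₁⁻¹, cj(g₁, Y) ⊓ A) ≤ cj(g₁⁻¹, W) := cj_mono (hW ▸ le_sup_left)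
  rw [cj_inf, fl_cj_inv_cj, cj_of_normal, cj_of_normal] at h6
  exact h6

/-- `A / C` is abelian -/
theorem FLData.comm_A (hD : FLData Y A) [hA : A.Normal] [Finite H]
    (hex : ∃ g : H, cj(g, Y) ≠ Y) {a b : H} (ha : a ∈ A) (hb : b ∈ A) :
    a ∈ flStab (Y ⊓ Subgroup.center H) inf_le_right b := by
  obtain ⟨g, hg⟩ := hex
  have hne : cj((1 : H), Y) ≠ cj(g, Y) := by rw [cj_one]; exact fun h => hg h.symm
  have hsup := hD.A_le_sup hne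
  -- elements of the two pieces
  have h1 : ∀ (g₁ g₂ : H), cj(g₁, Y) ≠ cj(g₂, Y) → ∀ d ∈ cj(g₁, Y) ⊓ A, ∀ d' ∈ cj(g₂, Y) ⊓ A,
      d' ∈ flStab (Y ⊓ Subgroup.center H) inf_le_right d := by
    intro g₁ g₂ hne d hd d' hd'
    rw [mem_flStab]
    apply hD.inf_le_C hne
    refine ⟨?_, (hD.comm_mem g₂ hd'.1 hd.2).1⟩
    have h := (hD.comm_mem g₁ hd.1 hd'.2).1
    have e : d' * d * d'⁻¹ * d⁻¹ = (d * d' * d⁻¹ * d'⁻¹)⁻¹ := by group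
    rw [e]
    exact Subgroup.inv_mem _ h
  have h2 : ∀ (g₁ : H), ∀ d ∈ cj(g₁, Y) ⊓ A, ∀ d' ∈ cj(g₁, Y) ⊓ A,
      d' ∈ flStab (Y ⊓ Subgroup.center H) inf_le_right d := by
    intro g₁ d hd d' hd'
    exact flStab_of_commute (hD.ab_cj g₁ hd'.1 hd.1)
  -- `A` fixes the elements of the pieces
  have h3 : ∀ d ∈ cj((1 : H), Y) ⊓ A, A ≤ flStab (Y ⊓ Subgroup.center H) inf_le_right d := by
    intro d hd
    exact hsup.trans (sup_le (fun d' hd' => h2 1 d hd d' hd') (fun d' hd' => h1 1 g hne d hd d' hd'))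
  have h4 : ∀ d ∈ cj(g, Y) ⊓ A, A ≤ flStab (Y ⊓ Subgroup.center H) inf_le_right d := by
    intro d hd
    exact hsup.trans (sup_le (fun d' hd' => h1 g 1 hne.symm d hd d' hd')
      (fun d' hd' => h2 g d hd d' hd'))
  have h5 : A ≤ flStab (Y ⊓ Subgroup.center H) inf_le_right a :=
    hsup.trans (sup_le (fun d hd => flStab_symm (h3 d hd ha)) (fun d hd => flStab_symm (h4 d hd ha)))
  exact flStab_symm (h5 hb)

/-- an element of a conjugate of `Y` which is fixed modulo `C` by an element not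
normalizing that conjugate lies in `C` -/
theorem FLData.mem_C_of_fixed (hD : FLData Y A) {g₂ : H} {d y : H} (hd : d ∈ cj(g₂, Y))
    (hy : y ∉ Subgroup.normalizer ((cj(g₂, Y) : Subgroup H) : Set H))
    (hfix : y ∈ flStab (Y ⊓ Subgroup.center H) inf_le_right d) :
    d ∈ Y ⊓ Subgroup.center H := by
  have hne : cj(g₂, Y) ≠ cj(y * g₂, Y) := by
    intro h
    apply hy
    rw [← cj_eq_self_iff, cj_cj]
    exact h.symm
  apply hD.inf_le_C hne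
  refine ⟨hd, ?_⟩
  -- d = c⁻¹ * (y d y⁻¹) with c central in Y
  rw [mem_flStab] at hfix
  have hc1 : (y * d * y⁻¹ * d⁻¹)⁻¹ ∈ cj(y * g₂, Y) :=
    FLData.C_le_cj (y * g₂) (Subgroup.inv_mem _ hfix)
  have h2 : y * d * y⁻¹ ∈ cj(y * g₂, Y) := by
    rw [← cj_cj]
    exact cj_mem hd
  have e : d = (y * d * y⁻¹ * d⁻¹)⁻¹ * (y * d * y⁻¹) := by group
  rw [e]
  exact Subgroup.mul_mem _ hc1 h2

/-- the product of two root elements from distinct conjugates of `Y`, neither normalizing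
the conjugate of the other, acts fixed-point-freely on `A / C` -/
theorem FLData.star (hD : FLData Y A) [hA : A.Normal] [Finite H] {g₁ g₂ : H}
    (hne : cj(g₁, Y) ≠ cj(g₂, Y)) {y₁ y₂ : H} (hy₁ : y₁ ∈ cj(g₁, Y)) (hy₂ : y₂ ∈ cj(g₂, Y))
    (hn₁ : y₁ ∉ Subgroup.normalizer ((cj(g₂, Y) : Subgroup H) : Set H))
    (hn₂ : y₂ ∉ Subgroup.normalizer ((cj(g₁, Y) : Subgroup H) : Set H))
    {b : H} (hb : b ∈ A) (hfix : y₁ * y₂ ∈ flStab (Y ⊓ Subgroup.center H) inf_le_right b) :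
    b ∈ Y ⊓ Subgroup.center H := by
  have hAn₂ : cj(g₁, Y) ⊓ A ≤ Subgroup.normalizer ((cj(g₂, Y) ⊓ A : Subgroup H) : Set H) := by
    intro x hx
    have h1 := hD.A_le_normalizer_cj g₂ hx.2
    have h2 : x ∈ Subgroup.normalizer ((A : Subgroup H) : Set H) := by
      rw [Subgroup.normalizer_eq_top_iff.mpr hA]
      exact Subgroup.mem_top x
    exact Subgroup.inf_normalizer_le_normalizer_inf ⟨h1, h2⟩
  obtain ⟨d₁, hd₁, d₂, hd₂, rfl⟩ := fl_exists_mul_of_mem_sup hAn₂ (hD.A_le_sup hne hb)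
  -- commutation facts
  have c1 : y₂ * d₂ = d₂ * y₂ := hD.ab_cj g₂ hy₂ hd₂.1
  have c2 : y₁ * d₁ = d₁ * y₁ := hD.ab_cj g₁ hy₁ hd₁.1
  have he : y₂ * d₁ * y₂⁻¹ * d₁⁻¹ ∈ cj(g₂, Y) ⊓ A := hD.comm_mem g₂ hy₂ hd₁.2
  have hf : y₁ * d₂ * y₁⁻¹ * d₂⁻¹ ∈ cj(g₁, Y) ⊓ A := hD.comm_mem g₁ hy₁ hd₂.2
  have c3 : d₁ * (y₁ * d₂ * y₁⁻¹ * d₂⁻¹) = (y₁ * d₂ * y₁⁻¹ * d₂⁻¹) * d₁ :=
    hD.ab_cj g₁ hd₁.1 hf.1
  rw [mem_flStab] at hfix
  have k1 : y₂ * d₂ * y₂⁻¹ = d₂ := by rw [c1]; group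
  have k2 : y₁ * d₁ * y₁⁻¹ = d₁ := by rw [c2]; group
  have e1 : y₁ * y₂ * (d₁ * d₂) * (y₁ * y₂)⁻¹ * (d₁ * d₂)⁻¹ =
      (y₁ * (y₂ * d₁ * y₂⁻¹ * d₁⁻¹) * y₁⁻¹) * (y₁ * d₂ * y₁⁻¹ * d₂⁻¹) := by
    calc y₁ * y₂ * (d₁ * d₂) * (y₁ * y₂)⁻¹ * (d₁ * d₂)⁻¹
        = y₁ * (y₂ * d₁ * y₂⁻¹ * d₁⁻¹) * y₁⁻¹ * (y₁ * d₁ * y₁⁻¹) *
            (y₁ * (y₂ * d₂ * y₂⁻¹) * y₁⁻¹ * d₂⁻¹) * d₁⁻¹ := by group
      _ = y₁ * (y₂ * d₁ * y₂⁻¹ * d₁⁻¹) * y₁⁻¹ * d₁ * (y₁ * d₂ * y₁⁻¹ * d₂⁻¹) * d₁⁻¹ := by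
          rw [k1, k2]
      _ = y₁ * (y₂ * d₁ * y₂⁻¹ * d₁⁻¹) * y₁⁻¹ * (d₁ * (y₁ * d₂ * y₁⁻¹ * d₂⁻¹)) * d₁⁻¹ := by
          group
      _ = y₁ * (y₂ * d₁ * y₂⁻¹ * d₁⁻¹) * y₁⁻¹ * ((y₁ * d₂ * y₁⁻¹ * d₂⁻¹) * d₁) * d₁⁻¹ := by
          rw [c3]
      _ = _ := by group
  rw [e1] at hfix
  -- the first factor lies in cj(g₁, Y)
  have hX1 : y₁ * (y₂ * d₁ * y₂⁻¹ * d₁⁻¹) * y₁⁻¹ ∈ cj(g₁, Y) := by
    have h1 := FLData.C_le_cj (Y := Y) g₁ hfix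
    have e : y₁ * (y₂ * d₁ * y₂⁻¹ * d₁⁻¹) * y₁⁻¹ =
        (y₁ * (y₂ * d₁ * y₂⁻¹ * d₁⁻¹) * y₁⁻¹ * (y₁ * d₂ * y₁⁻¹ * d₂⁻¹)) *
          (y₁ * d₂ * y₁⁻¹ * d₂⁻¹)⁻¹ := by group
    rw [e]
    exact Subgroup.mul_mem _ h1 (Subgroup.inv_mem _ hf.1)
  have he1 : y₂ * d₁ * y₂⁻¹ * d₁⁻¹ ∈ cj(g₁, Y) := by
    have e : y₂ * d₁ * y₂⁻¹ * d₁⁻¹ = y₁⁻¹ * (y₁ * (y₂ * d₁ * y₂⁻¹ * d₁⁻¹) * y₁⁻¹) * y₁ := by
      group
    rw [e]
    exact Subgroup.mul_mem _ (Subgroup.mul_mem _ (Subgroup.inv_mem _ hy₁) hX1) hy₁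
  have heC : y₂ * d₁ * y₂⁻¹ * d₁⁻¹ ∈ Y ⊓ Subgroup.center H := hD.inf_le_C hne ⟨he1, he.1⟩
  have hcen := Subgroup.mem_center_iff.mp heC.2 y₁
  have k3 : y₁ * (y₂ * d₁ * y₂⁻¹ * d₁⁻¹) * y₁⁻¹ = y₂ * d₁ * y₂⁻¹ * d₁⁻¹ := by
    rw [hcen]; group
  rw [k3] at hfix
  have hfC : y₁ * d₂ * y₁⁻¹ * d₂⁻¹ ∈ Y ⊓ Subgroup.center H := by
    have e : y₁ * d₂ * y₁⁻¹ * d₂⁻¹ = (y₂ * d₁ * y₂⁻¹ * d₁⁻¹)⁻¹ *
        ((y₂ * d₁ * y₂⁻¹ * d₁⁻¹) * (y₁ * d₂ * y₁⁻¹ * d₂⁻¹)) := by group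
    rw [e]
    exact Subgroup.mul_mem _ (Subgroup.inv_mem _ heC) hfix
  have hd₁C := hD.mem_C_of_fixed hd₁.1 hn₂ (mem_flStab.mpr heC)
  have hd₂C := hD.mem_C_of_fixed hd₂.1 hn₁ (mem_flStab.mpr hfC)
  exact Subgroup.mul_mem _ hd₁C hd₂C

/-- two conjugates of `Y` with the same image modulo `A` coincide -/
theorem FLData.cj_eq_of_le_sup (hD : FLData Y A) [hA : A.Normal] {g₁ g₂ : H}
    (h : cj(g₁, Y) ≤ cj(g₂, Y) ⊔ A) : cj(g₁, Y) = cj(g₂, Y) := by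
  by_contra hne
  have h1 := hD.pair2 hne
  have h2 : (⊤ : Subgroup H) ≤ cj(g₂, Y) ⊔ A := by
    rw [← h1]
    exact sup_le h le_sup_left
  have h3 : cj(g₂, Y ⊔ A) = ⊤ := by
    rw [cj_sup, cj_of_normal g₂ A]
    exact top_le_iff.mp h2
  apply hD.ne
  rw [← fl_cj_inv_cj g₂ (Y ⊔ A), h3, fl_cj_top]

end flcore

end Cfsg.Agent.Helper47
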