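import Cfsg.Agent.Helper47.FL1

set_option autoImplicit false

namespace Cfsg.Agent.Helper47

open scoped commutatorElement Pointwise

local notation "cj(" g "," Q ")" => Subgroup.map (MulEquiv.toMonoidHom (MulAut.conj g)) Q

section rootcert

variable {Q : Type*} [Group Q]

/-- `x` has a power which is a product of two nontrivial elements from two distinct
conjugates of `E` -/
def RGood (E : Subgroup Q) (x : Q) : Prop :=
  ∃ (n : ℕ) (g₁ g₂ e₁ e₂ : Q), cj(g₁, E) ≠ cj(g₂, E) ∧ e₁ ∈ cj(g₁, E) ∧ e₂ ∈ cj(g₂, E) ∧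
    e₁ ≠ 1 ∧ e₂ ≠ 1 ∧ x ^ n = e₁ * e₂

/-- the certificate on the pair `(Q, E)` which makes elements of non-`p`-power order act
fixed-point-freely -/
structure RootCert (p : ℕ) (E : Subgroup Q) : Prop where
  ti : ∀ g : Q, cj(g, E) ≠ E → ∀ x ∈ E,
    x ∈ Subgroup.normalizer ((cj(g, E) : Subgroup Q) : Set Q) → x = 1
  good : ∀ x : Q, (¬ ∃ k : ℕ, orderOf x = p ^ k) →
    RGood E x ∨ (x ∈ Subgroup.center Q ∧ ∃ e ∈ E, RGood E (x * e))

theorem rgood_conj {E : Subgroup Q} {x : Q} (h : RGood E x) (g : Q) : RGood E (g * x * g⁻¹) := by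
  obtain ⟨n, g₁, g₂, e₁, e₂, hne, he₁, he₂, h1, h2, hpow⟩ := h
  refine ⟨n, g * g₁, g * g₂, g * e₁ * g⁻¹, g * e₂ * g⁻¹, ?_, ?_, ?_, ?_, ?_, ?_⟩
  · intro h
    apply hne
    rw [← cj_cj, ← cj_cj] at h
    exact fl_cj_injective g h
  · rw [← cj_cj]; exact cj_mem he₁
  · rw [← cj_cj]; exact cj_mem he₂
  · intro h
    apply h1
    have : e₁ = g⁻¹ * (g * e₁ * g⁻¹) * g := by group
    rw [this, h]; group
  · intro h
    apply h2
    have : e₂ = g⁻¹ * (g * e₂ * g⁻¹) * g := by group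
    rw [this, h]; group
  · rw [conj_pow, hpow]; group

theorem RootCert.ti2 {p : ℕ} {E : Subgroup Q} (hc : RootCert p E) {g₁ g₂ x : Q}
    (hne : cj(g₁, E) ≠ cj(g₂, E)) (hx : x ∈ cj(g₁, E))
    (hn : x ∈ Subgroup.normalizer ((cj(g₂, E) : Subgroup Q) : Set Q)) : x = 1 := by
  have h1 : cj(g₁⁻¹ * g₂, E) ≠ E := by
    intro h
    apply hne
    have e : cj(g₁, cj(g₁⁻¹ * g₂, E)) = cj(g₂, E) := by rw [cj_cj, mul_inv_cancel_left]
    rw [← e, h]
  have h2 : g₁⁻¹ * x * g₁ ∈ Subgroup.normalizer ((cj(g₁⁻¹ * g₂, E) : Subgroup Q) : Set Q) := by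
    rw [← cj_cj, normalizer_cj, mem_cj, inv_inv]
    have e : g₁ * (g₁⁻¹ * x * g₁) * g₁⁻¹ = x := by group
    rw [e]
    exact hn
  have h3 := hc.ti _ h1 _ (mem_cj.mp hx) h2
  have e : x = g₁ * (g₁⁻¹ * x * g₁) * g₁⁻¹ := by group
  rw [e, h3]; group

variable {Q' : Type*} [Group Q']

theorem fl_map_cj (φ : Q →* Q') (g : Q) (E : Subgroup Q) :
    (cj(g, E)).map φ = cj(φ g, E.map φ) := by
  rw [Subgroup.map_map, Subgroup.map_map]
  congr 1
  ext x
  simp [MulAut.conj_apply]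

theorem rgood_map (φ : Q ≃* Q') {E : Subgroup Q} {x : Q} (h : RGood E x) :
    RGood (E.map φ.toMonoidHom) (φ x) := by
  obtain ⟨n, g₁, g₂, e₁, e₂, hne, he₁, he₂, h1, h2, hpow⟩ := h
  refine ⟨n, φ g₁, φ g₂, φ e₁, φ e₂, ?_, ?_, ?_, ?_, ?_, ?_⟩
  · intro h
    apply hne
    have h' : (cj(g₁, E)).map φ.toMonoidHom = (cj(g₂, E)).map φ.toMonoidHom := by
      rw [fl_map_cj, fl_map_cj]; exact h
    exact Subgroup.map_injective φ.injective h'
  · have := Subgroup.mem_map_of_mem φ.toMonoidHom he₁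
    rw [fl_map_cj] at this
    exact this
  · have := Subgroup.mem_map_of_mem φ.toMonoidHom he₂
    rw [fl_map_cj] at this
    exact this
  · intro h; exact h1 (by simpa using h)
  · intro h; exact h2 (by simpa using h)
  · rw [← map_pow, hpow, map_mul]

/-- transport of the certificate along an isomorphism -/
theorem RootCert.map {p : ℕ} {E : Subgroup Q} (hc : RootCert p E) (φ : Q ≃* Q') :
    RootCert p (E.map φ.toMonoidHom) := by
  constructor
  · intro g' hg' x' hx' hn'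
    obtain ⟨g, rfl⟩ := φ.surjective g'
    obtain ⟨x, hx, rfl⟩ := hx'
    have e1 : cj(φ g, E.map φ.toMonoidHom) = (cj(g, E)).map φ.toMonoidHom := (fl_map_cj _ _ _).symm
    have h1 : cj(g, E) ≠ E := by
      intro h
      apply hg'
      change cj(φ.toMonoidHom g, E.map φ.toMonoidHom) = _
      rw [← fl_map_cj, h]
    have h2 : x ∈ Subgroup.normalizer ((cj(g, E) : Subgroup Q) : Set Q) := by
      change φ.toMonoidHom x ∈ Subgroup.normalizer
        ((cj(φ.toMonoidHom g, E.map φ.toMonoidHom) : Subgroup Q') : Set Q') at hn'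
      rw [← fl_map_cj] at hn'
      have h3 := Subgroup.map_equiv_normalizer_eq (cj(g, E)) φ
      rw [← h3] at hn'
      obtain ⟨z, hz, hzx⟩ := hn'
      have : z = x := φ.injective hzx
      rw [← this]; exact hz
    have := hc.ti g h1 x hx h2
    rw [this]
    exact map_one _
  · intro x' hx'
    obtain ⟨x, rfl⟩ := φ.surjective x'
    have hx : ¬ ∃ k : ℕ, orderOf x = p ^ k := by
      rintro ⟨k, hk⟩
      exact hx' ⟨k, by rw [MulEquiv.orderOf_eq]; exact hk⟩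
    rcases hc.good x hx with h | ⟨hcen, e, he, h⟩
    · exact Or.inl (rgood_map φ h)
    · refine Or.inr ⟨?_, φ e, Subgroup.mem_map_of_mem _ he, ?_⟩
      · rw [Subgroup.mem_center_iff] at hcen ⊢
        intro y'
        obtain ⟨y, rfl⟩ := φ.surjective y'
        rw [← map_mul, ← map_mul, hcen y]
      · rw [← map_mul]
        exact rgood_map φ h

/-- `E` is the only nontrivial subgroup of exponent `p` normal in `N(E)` -/
def BorelCert (p : ℕ) (E : Subgroup Q) : Prop :=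
  ∀ V : Subgroup Q, V ≤ Subgroup.normalizer (E : Set Q) →
    Subgroup.normalizer (E : Set Q) ≤ Subgroup.normalizer (V : Set Q) →
    (∀ v ∈ V, v ^ p = 1) → V ≠ ⊥ → V = E

theorem BorelCert.map {p : ℕ} {E : Subgroup Q} (hc : BorelCert p E) (φ : Q ≃* Q') :
    BorelCert p (E.map φ.toMonoidHom) := by
  intro V' h1 h2 h3 h4
  have hV' : (V'.comap φ.toMonoidHom).map φ.toMonoidHom = V' :=
    Subgroup.map_comap_eq_self_of_surjective φ.surjective V'
  have hN : ∀ K : Subgroup Q, Subgroup.normalizer ((K.map φ.toMonoidHom : Subgroup Q') : Set Q') =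
      (Subgroup.normalizer (K : Set Q)).map φ.toMonoidHom :=
    fun K => (Subgroup.map_equiv_normalizer_eq K φ).symm
  have hle : ∀ {K K' : Subgroup Q}, K.map φ.toMonoidHom ≤ K'.map φ.toMonoidHom → K ≤ K' :=
    fun h => (Subgroup.map_le_map_iff_of_injective φ.injective).mp h
  rw [← hV'] at h1 h2 h4 ⊢
  rw [hN] at h1 h2
  rw [hN] at h2
  congr 1
  apply hc
  · exact hle h1
  · exact hle h2
  · intro v hv
    have := h3 (φ v) hv
    rw [← map_pow] at this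
    exact φ.injective (by rw [this, map_one])
  · intro h
    apply h4
    rw [h, Subgroup.map_bot]

end rootcert

section flmain

variable {H : Type*} [Group H] [Finite H] {Y A : Subgroup H}

/-- an element whose image is good acts fixed-point-freely on `A / C` -/
theorem FLData.good_fix (hD : FLData Y A) [hA : A.Normal] {p : ℕ}
    (hcert : RootCert p (Y.map (QuotientGroup.mk' A)))
    {x : H} (hx : RGood (Y.map (QuotientGroup.mk' A)) (QuotientGroup.mk' A x))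
    {b : H} (hb : b ∈ A) (hfix : x ∈ flStab (Y ⊓ Subgroup.center H) inf_le_right b) :
    b ∈ Y ⊓ Subgroup.center H := by
  obtain ⟨n, g₁', g₂', e₁, e₂, hne, he₁, he₂, h1, h2, hpow⟩ := hx
  obtain ⟨g₁, rfl⟩ := QuotientGroup.mk'_surjective A g₁'
  obtain ⟨g₂, rfl⟩ := QuotientGroup.mk'_surjective A g₂'
  rw [← fl_map_cj] at he₁ he₂
  obtain ⟨y₁, hy₁, rfl⟩ := he₁
  obtain ⟨y₂, hy₂, rfl⟩ := he₂
  have hne' : cj(g₁, Y) ≠ cj(g₂, Y) := by
    intro h
    apply hne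
    rw [← fl_map_cj, ← fl_map_cj, h]
  have hn₁ : y₁ ∉ Subgroup.normalizer ((cj(g₂, Y) : Subgroup H) : Set H) := by
    intro h
    apply h1
    apply hcert.ti2 hne
    · rw [← fl_map_cj]; exact Subgroup.mem_map_of_mem _ hy₁
    · rw [← fl_map_cj]
      exact Subgroup.le_normalizer_map _ (Subgroup.mem_map_of_mem _ h)
  have hn₂ : y₂ ∉ Subgroup.normalizer ((cj(g₁, Y) : Subgroup H) : Set H) := by
    intro h
    apply h2
    apply hcert.ti2 hne.symm
    · rw [← fl_map_cj]; exact Subgroup.mem_map_of_mem _ hy₂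
    · rw [← fl_map_cj]
      exact Subgroup.le_normalizer_map _ (Subgroup.mem_map_of_mem _ h)
  have hex : ∃ g : H, cj(g, Y) ≠ Y := by
    by_contra hcon
    have hcon' : ∀ g : H, cj(g, Y) = Y := fun g => by
      by_contra hg
      exact hcon ⟨g, hg⟩
    exact hne' ((hcon' g₁).trans (hcon' g₂).symm)
  -- x ^ n = y₁ * y₂ * a'
  have ha' : (y₁ * y₂)⁻¹ * x ^ n ∈ A := by
    rw [← QuotientGroup.eq_one_iff, QuotientGroup.mk_mul, QuotientGroup.mk_inv]
    have : ((x ^ n : H) : H ⧸ A) = QuotientGroup.mk' A x ^ n := by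
      rw [← map_pow]; rfl
    rw [this, hpow]
    change (QuotientGroup.mk' A (y₁ * y₂))⁻¹ * _ = 1
    rw [map_mul, inv_mul_cancel]
  have h3 : x ^ n ∈ flStab (Y ⊓ Subgroup.center H) inf_le_right b := Subgroup.pow_mem _ hfix n
  have h4 : (y₁ * y₂)⁻¹ * x ^ n ∈ flStab (Y ⊓ Subgroup.center H) inf_le_right b :=
    hD.comm_A hex ha' hb
  have h5 : y₁ * y₂ ∈ flStab (Y ⊓ Subgroup.center H) inf_le_right b := by
    have e : y₁ * y₂ = x ^ n * ((y₁ * y₂)⁻¹ * x ^ n)⁻¹ := by group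
    rw [e]
    exact Subgroup.mul_mem _ h3 (Subgroup.inv_mem _ h4)
  exact hD.star hne' hy₁ hy₂ hn₁ hn₂ hb h5

/-- main abstract theorem: elements of `H` whose order is not a power of `p` act
fixed-point-freely on `A / C`, `C = Y ∩ Z(H)` -/
theorem FLData.main (hD : FLData Y A) [hA : A.Normal] {p : ℕ} [Fact p.Prime]
    (hAp : IsPGroup p ↥A) (hcert : RootCert p (Y.map (QuotientGroup.mk' A)))
    {h : H} (hh : ¬ ∃ k : ℕ, orderOf h = p ^ k) {a : H} (ha : a ∈ A)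
    (hfix : h * a * h⁻¹ * a⁻¹ ∈ Y ⊓ Subgroup.center H) : a ∈ Y ⊓ Subgroup.center H := by
  have hord : ¬ ∃ k : ℕ, orderOf (QuotientGroup.mk' A h) = p ^ k := by
    rintro ⟨k, hk⟩
    apply hh
    have h1 : (QuotientGroup.mk' A h) ^ (p ^ k) = 1 := by rw [← hk]; exact pow_orderOf_eq_one _
    have h2 : h ^ (p ^ k) ∈ A := by
      rw [← QuotientGroup.eq_one_iff]
      have : ((h ^ (p ^ k) : H) : H ⧸ A) = QuotientGroup.mk' A h ^ (p ^ k) := by
        rw [← map_pow]; rfl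
      rw [this, h1]
    obtain ⟨j, hj⟩ := hAp ⟨_, h2⟩
    have h3 : h ^ (p ^ (k + j)) = 1 := by
      have := congrArg Subtype.val hj
      simp only [Subgroup.coe_pow, Subgroup.coe_one] at this
      rw [pow_add, pow_mul]
      exact this
    have h4 := orderOf_dvd_of_pow_eq_one h3
    obtain ⟨i, _, hi⟩ := (Nat.dvd_prime_pow (Fact.out : p.Prime)).mp h4
    exact ⟨i, hi⟩
  have hfix' : h ∈ flStab (Y ⊓ Subgroup.center H) inf_le_right a := mem_flStab.mpr hfix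
  rcases hcert.good _ hord with hg | ⟨hcen, e, he, hg⟩
  · exact hD.good_fix hcert hg ha hfix'
  · obtain ⟨y, hy, rfl⟩ := he
    have hg' := hg
    obtain ⟨n, g₁', g₂', e₁, e₂, hne, he₁, he₂, h1, h2, hpow⟩ := hg'
    obtain ⟨g₁, rfl⟩ := QuotientGroup.mk'_surjective A g₁'
    obtain ⟨g₂, rfl⟩ := QuotientGroup.mk'_surjective A g₂'
    have hne' : cj(g₁, Y) ≠ cj(g₂, Y) := by
      intro h
      apply hne
      rw [← fl_map_cj, ← fl_map_cj, h]
    have hex : ∃ g : H, cj(g, Y) ≠ Y := by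
      by_contra hcon
      have hcon' : ∀ g : H, cj(g, Y) = Y := fun g => by
        by_contra hg
        exact hcon ⟨g, hg⟩
      exact hne' ((hcon' g₁).trans (hcon' g₂).symm)
    -- `h` normalizes every conjugate of `Y`
    have hnorm : ∀ g : H, cj(h, cj(g, Y)) = cj(g, Y) := by
      intro g
      rw [cj_cj]
      apply hD.cj_eq_of_le_sup
      rw [← cj_cj]
      intro z hz
      have hz' := mem_cj.mp hz
      have h3 : (h⁻¹ * z * h)⁻¹ * z ∈ A := by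
        rw [← QuotientGroup.eq_one_iff]
        change QuotientGroup.mk' A ((h⁻¹ * z * h)⁻¹ * z) = 1
        have hc := Subgroup.mem_center_iff.mp hcen (QuotientGroup.mk' A z)
        rw [map_mul, map_inv, map_mul, map_mul, map_inv, mul_assoc, hc]
        group
      have e : z = (h⁻¹ * z * h) * ((h⁻¹ * z * h)⁻¹ * z) := by group
      rw [e]
      exact Subgroup.mul_mem_sup hz' h3
    -- the pieces of `a` are fixed by `h`
    have hAn₂ : cj(g₁, Y) ⊓ A ≤ Subgroup.normalizer ((cj(g₂, Y) ⊓ A : Subgroup H) : Set H) := by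
      intro x hx
      have h1 := hD.A_le_normalizer_cj g₂ hx.2
      have h2 : x ∈ Subgroup.normalizer ((A : Subgroup H) : Set H) := by
        rw [Subgroup.normalizer_eq_top_iff.mpr hA]
        exact Subgroup.mem_top x
      exact Subgroup.inf_normalizer_le_normalizer_inf ⟨h1, h2⟩
    obtain ⟨d₁, hd₁, d₂, hd₂, rfl⟩ := fl_exists_mul_of_mem_sup hAn₂ (hD.A_le_sup hne' ha)
    have hf₁ : h * d₁ * h⁻¹ * d₁⁻¹ ∈ cj(g₁, Y) ⊓ A := by
      refine ⟨?_, A.mul_mem (hA.conj_mem _ hd₁.2 h) (A.inv_mem hd₁.2)⟩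
      have : h * d₁ * h⁻¹ ∈ cj(h, cj(g₁, Y)) := cj_mem hd₁.1
      rw [hnorm] at this
      exact Subgroup.mul_mem _ this (Subgroup.inv_mem _ hd₁.1)
    have hf₂ : h * d₂ * h⁻¹ * d₂⁻¹ ∈ cj(g₂, Y) ⊓ A := by
      refine ⟨?_, A.mul_mem (hA.conj_mem _ hd₂.2 h) (A.inv_mem hd₂.2)⟩
      have : h * d₂ * h⁻¹ ∈ cj(h, cj(g₂, Y)) := cj_mem hd₂.1
      rw [hnorm] at this
      exact Subgroup.mul_mem _ this (Subgroup.inv_mem _ hd₂.1)
    have hc₀ : d₁ * (h * d₂ * h⁻¹ * d₂⁻¹) * d₁⁻¹ * (h * d₂ * h⁻¹ * d₂⁻¹)⁻¹ ∈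
        Y ⊓ Subgroup.center H := mem_flStab.mp (hD.comm_A hex hd₁.2 hf₂.2)
    have e1 : h * (d₁ * d₂) * h⁻¹ * (d₁ * d₂)⁻¹ =
        (h * d₁ * h⁻¹ * d₁⁻¹) * (d₁ * (h * d₂ * h⁻¹ * d₂⁻¹) * d₁⁻¹ * (h * d₂ * h⁻¹ * d₂⁻¹)⁻¹) *
          (h * d₂ * h⁻¹ * d₂⁻¹) := by group
    rw [e1] at hfix
    -- f₁ ∈ cj(g₂, Y)
    have hf₁' : h * d₁ * h⁻¹ * d₁⁻¹ ∈ cj(g₂, Y) := by
      have e : h * d₁ * h⁻¹ * d₁⁻¹ =
          ((h * d₁ * h⁻¹ * d₁⁻¹) *
            (d₁ * (h * d₂ * h⁻¹ * d₂⁻¹) * d₁⁻¹ * (h * d₂ * h⁻¹ * d₂⁻¹)⁻¹) *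
            (h * d₂ * h⁻¹ * d₂⁻¹)) * (h * d₂ * h⁻¹ * d₂⁻¹)⁻¹ *
            (d₁ * (h * d₂ * h⁻¹ * d₂⁻¹) * d₁⁻¹ * (h * d₂ * h⁻¹ * d₂⁻¹)⁻¹)⁻¹ := by
        have hcc := Subgroup.mem_center_iff.mp hc₀.2
        generalize d₁ * (h * d₂ * h⁻¹ * d₂⁻¹) * d₁⁻¹ * (h * d₂ * h⁻¹ * d₂⁻¹)⁻¹ = c at hcc ⊢
        have := hcc (h * d₂ * h⁻¹ * d₂⁻¹)
        calc h * d₁ * h⁻¹ * d₁⁻¹ = h * d₁ * h⁻¹ * d₁⁻¹ * (c * c⁻¹) := by group
          _ = h * d₁ * h⁻¹ * d₁⁻¹ * (c * ((h * d₂ * h⁻¹ * d₂⁻¹) * (h * d₂ * h⁻¹ * d₂⁻¹)⁻¹) * c⁻¹) := by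
              group
          _ = _ := by group
      rw [e]
      exact Subgroup.mul_mem _ (Subgroup.mul_mem _ (FLData.C_le_cj g₂ hfix)
        (Subgroup.inv_mem _ hf₂.1)) (Subgroup.inv_mem _ (FLData.C_le_cj g₂ hc₀))
    have hf₁C : h * d₁ * h⁻¹ * d₁⁻¹ ∈ Y ⊓ Subgroup.center H := hD.inf_le_C hne' ⟨hf₁.1, hf₁'⟩
    have hf₂C : h * d₂ * h⁻¹ * d₂⁻¹ ∈ Y ⊓ Subgroup.center H := by
      have e : h * d₂ * h⁻¹ * d₂⁻¹ =
          (d₁ * (h * d₂ * h⁻¹ * d₂⁻¹) * d₁⁻¹ * (h * d₂ * h⁻¹ * d₂⁻¹)⁻¹)⁻¹ *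
            ((h * d₁ * h⁻¹ * d₁⁻¹)⁻¹ * ((h * d₁ * h⁻¹ * d₁⁻¹) *
              (d₁ * (h * d₂ * h⁻¹ * d₂⁻¹) * d₁⁻¹ * (h * d₂ * h⁻¹ * d₂⁻¹)⁻¹) *
              (h * d₂ * h⁻¹ * d₂⁻¹))) := by group
      rw [e]
      exact Subgroup.mul_mem _ (Subgroup.inv_mem _ hc₀)
        (Subgroup.mul_mem _ (Subgroup.inv_mem _ hf₁C) hfix)
    -- now use the good element `h * y'`
    have piece : ∀ (g : H) (d : H), d ∈ cj(g, Y) ⊓ A →
        h ∈ flStab (Y ⊓ Subgroup.center H) inf_le_right d → d ∈ Y ⊓ Subgroup.center H := by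
      intro g d hd hst
      have hy' : g * y * g⁻¹ ∈ cj(g, Y) := cj_mem hy
      have h3 : h * (g * y * g⁻¹) ∈ flStab (Y ⊓ Subgroup.center H) inf_le_right d :=
        Subgroup.mul_mem _ hst (flStab_of_commute (hD.ab_cj g hy' hd.1))
      apply hD.good_fix hcert _ hd.2 h3
      have h4 := rgood_conj hg (QuotientGroup.mk' A g)
      have hc := Subgroup.mem_center_iff.mp hcen (QuotientGroup.mk' A g)
      have e : QuotientGroup.mk' A (h * (g * y * g⁻¹)) =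
          QuotientGroup.mk' A g * (QuotientGroup.mk' A h * QuotientGroup.mk' A y) *
            (QuotientGroup.mk' A g)⁻¹ := by
        rw [map_mul, map_mul, map_mul, map_inv]
        calc QuotientGroup.mk' A h * (QuotientGroup.mk' A g * QuotientGroup.mk' A y *
              (QuotientGroup.mk' A g)⁻¹)
            = (QuotientGroup.mk' A h * QuotientGroup.mk' A g) * QuotientGroup.mk' A y *
              (QuotientGroup.mk' A g)⁻¹ := by group
          _ = (QuotientGroup.mk' A g * QuotientGroup.mk' A h) * QuotientGroup.mk' A y *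
              (QuotientGroup.mk' A g)⁻¹ := by rw [hc]
          _ = _ := by group
      rw [e]
      exact h4
    exact Subgroup.mul_mem _ (piece g₁ d₁ hd₁ (mem_flStab.mpr hf₁C))
      (piece g₂ d₂ hd₂ (mem_flStab.mpr hf₂C))

end flmain

end Cfsg.Agent.Helper47
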