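import Cfsg.Agent.Helper47.FL2

set_option autoImplicit false

namespace Cfsg.Agent.Helper47

open scoped commutatorElement Pointwise

local notation "cj(" g "," Q ")" => Subgroup.map (MulEquiv.toMonoidHom (MulAut.conj g)) Q

section fldih

open DihedralGroup

variable {n : ℕ}

theorem fld_two_mul_eq_zero (hr : n.Prime) (hr2 : n ≠ 2) {k : ZMod n} (h : 2 * k = 0) : k = 0 := by
  haveI : Fact n.Prime := ⟨hr⟩
  rcases mul_eq_zero.mp h with h2 | h2
  · exfalso
    have h3 : ((2 : ℕ) : ZMod n) = 0 := by exact_mod_cast h2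
    rw [ZMod.natCast_eq_zero_iff] at h3
    have := (Nat.prime_dvd_prime_iff_eq hr Nat.prime_two).mp h3
    exact hr2 this
  · exact h2

theorem fld_sr_ne_one (i : ZMod n) : (sr i : DihedralGroup n) ≠ 1 := by
  rw [one_def]
  intro h
  cases h

/-- description of an abelian subgroup of exponent two in a dihedral group of odd prime
degree -/
theorem fld_mem_iff (hr : n.Prime) (hr2 : n ≠ 2) {E : Subgroup (DihedralGroup n)} (hE1 : E ≠ ⊥)
    (hE2 : ∀ x ∈ E, x ^ 2 = 1) (hEab : ∀ x ∈ E, ∀ y ∈ E, x * y = y * x) :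
    ∃ i₀ : ZMod n, ∀ y : DihedralGroup n, y ∈ E ↔ y = 1 ∨ y = sr i₀ := by
  have hrot : ∀ j : ZMod n, r j ∈ E → j = 0 := by
    intro j hj
    have h := hE2 _ hj
    rw [r_pow, one_def] at h
    have h' : j * ((2 : ℕ) : ZMod n) = 0 := by
      injection h
    apply fld_two_mul_eq_zero hr hr2
    rw [mul_comm]
    exact_mod_cast h'
  obtain ⟨x, hx, hx1⟩ : ∃ x ∈ E, x ≠ 1 := by
    by_contra hcon
    apply hE1
    rw [eq_bot_iff]
    intro x hx
    by_contra hx1
    exact hcon ⟨x, hx, hx1⟩
  obtain ⟨i₀, hi₀⟩ : ∃ i₀ : ZMod n, sr i₀ ∈ E := by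
    cases x with
    | r j =>
      exfalso
      apply hx1
      rw [hrot j hx, one_def]
    | sr j => exact ⟨j, hx⟩
  refine ⟨i₀, fun y => ⟨fun hy => ?_, fun hy => ?_⟩⟩
  · cases y with
    | r j =>
      left
      rw [hrot j hy, one_def]
    | sr j =>
      right
      have h := hEab _ hi₀ _ hy
      rw [sr_mul_sr, sr_mul_sr] at h
      have h' : j - i₀ = i₀ - j := by injection h
      have h2 : 2 * (j - i₀) = 0 := by linear_combination h'
      have := fld_two_mul_eq_zero hr hr2 h2
      rw [sub_eq_zero.mp this]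
  · rcases hy with rfl | rfl
    · exact E.one_mem
    · exact hi₀

theorem fld_conj_sr (g : DihedralGroup n) (i : ZMod n) : ∃ j : ZMod n, g * sr i * g⁻¹ = sr j := by
  cases g with
  | r k => exact ⟨i - k - k, by rw [r_mul_sr, inv_r, sr_mul_r]; congr 1; ring⟩
  | sr k => exact ⟨k - (i - k), by rw [sr_mul_sr, inv_sr, r_mul_sr]⟩

theorem rootCert_dihedral (hr : n.Prime) (hr2 : n ≠ 2) {E : Subgroup (DihedralGroup n)}
    (hE1 : E ≠ ⊥) (hE2 : ∀ x ∈ E, x ^ 2 = 1) (hEab : ∀ x ∈ E, ∀ y ∈ E, x * y = y * x) :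
    RootCert 2 E := by
  haveI : Fact n.Prime := ⟨hr⟩
  haveI : NeZero n := ⟨hr.ne_zero⟩
  obtain ⟨i₀, hmem⟩ := fld_mem_iff hr hr2 hE1 hE2 hEab
  have hi₀ : sr i₀ ∈ E := (hmem _).mpr (Or.inr rfl)
  constructor
  · intro g hg x hx hn
    rcases (hmem x).mp hx with rfl | rfl
    · rfl
    · exfalso
      obtain ⟨j, hj⟩ := fld_conj_sr g i₀
      have hj' : sr j ∈ cj(g, E) := by rw [← hj]; exact cj_mem hi₀
      have hji : j ≠ i₀ := by
        rintro rfl
        apply hg
        apply cj_eq_of_le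
        intro y hy
        obtain ⟨z, hz, rfl⟩ := hy
        rcases (hmem z).mp hz with rfl | rfl
        · simp
        · change g * sr j * g⁻¹ ∈ E
          rw [hj]; exact hi₀
      -- conjugating sr j by sr i₀ stays in cj(g, E)
      have h1 := (Subgroup.mem_normalizer_iff.mp hn (sr j)).mp hj'
      rw [sr_mul_sr, inv_sr, r_mul_sr] at h1
      have h2 := mem_cj.mp h1
      rcases (hmem _).mp h2 with h3 | h3
      · have h4 : (sr (i₀ - (j - i₀)) : DihedralGroup n) = 1 := by
          have e : (sr (i₀ - (j - i₀)) : DihedralGroup n) =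
              g * (g⁻¹ * sr (i₀ - (j - i₀)) * g) * g⁻¹ := by group
          rw [e, h3]; group
        exact fld_sr_ne_one _ h4
      · have h4 : (sr (i₀ - (j - i₀)) : DihedralGroup n) = sr j := by
          have e : (sr (i₀ - (j - i₀)) : DihedralGroup n) =
              g * (g⁻¹ * sr (i₀ - (j - i₀)) * g) * g⁻¹ := by group
          rw [e, h3, hj]
        have h5 : i₀ - (j - i₀) = j := by injection h4
        have h6 : 2 * (i₀ - j) = 0 := by linear_combination h5
        exact hji (sub_eq_zero.mp (fld_two_mul_eq_zero hr hr2 h6)).symm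
  · intro x hx
    left
    cases x with
    | sr k =>
      exfalso
      exact hx ⟨1, by rw [orderOf_sr, pow_one]⟩
    | r k =>
      have hk : k ≠ 0 := by
        rintro rfl
        apply hx
        exact ⟨0, by rw [r_zero, orderOf_one, pow_zero]⟩
      have h2 : (2 : ZMod n) ≠ 0 := by
        intro h
        have := fld_two_mul_eq_zero hr hr2 (k := 1) (by rw [mul_one]; exact h)
        exact one_ne_zero this
      have hmem2 : sr (i₀ + k) ∈ cj((r (-k * 2⁻¹) : DihedralGroup n), E) := by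
        rw [mem_cj, inv_r, r_mul_sr, sr_mul_r]
        have e : i₀ + k - - (-k * 2⁻¹) + -k * 2⁻¹ = i₀ := by
          field_simp
          ring
        rw [e]
        exact hi₀
      refine ⟨1, 1, r (-k * 2⁻¹), sr i₀, sr (i₀ + k), ?_, ?_, hmem2, fld_sr_ne_one _,
        fld_sr_ne_one _, ?_⟩
      · rw [cj_one]
        intro h
        rw [← h] at hmem2
        rcases (hmem _).mp hmem2 with h3 | h3
        · exact fld_sr_ne_one _ h3
        · have h5 : i₀ + k = i₀ := by injection h3
          exact hk (by linear_combination h5)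
      · rw [cj_one]; exact hi₀
      · rw [pow_one, sr_mul_sr]
        congr 1
        ring

theorem borelCert_dihedral (hr : n.Prime) (hr2 : n ≠ 2) {E : Subgroup (DihedralGroup n)}
    (hE1 : E ≠ ⊥) (hE2 : ∀ x ∈ E, x ^ 2 = 1) (hEab : ∀ x ∈ E, ∀ y ∈ E, x * y = y * x) :
    BorelCert 2 E := by
  haveI : Fact n.Prime := ⟨hr⟩
  obtain ⟨i₀, hmem⟩ := fld_mem_iff hr hr2 hE1 hE2 hEab
  have hi₀ : sr i₀ ∈ E := (hmem _).mpr (Or.inr rfl)
  intro V h1 _ _ h4
  -- the normalizer of `E` is `E`
  have hN : Subgroup.normalizer (E : Set (DihedralGroup n)) ≤ E := by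
    intro g hg
    have h5 := (Subgroup.mem_normalizer_iff.mp hg (sr i₀)).mp hi₀
    rcases (hmem _).mp h5 with h6 | h6
    · exfalso
      have : (sr i₀ : DihedralGroup n) = g⁻¹ * (g * sr i₀ * g⁻¹) * g := by group
      rw [h6] at this
      exact fld_sr_ne_one i₀ (by rw [this]; group)
    · cases g with
      | r k =>
        rw [r_mul_sr, inv_r, sr_mul_r] at h6
        have h7 : i₀ - k + -k = i₀ := by injection h6
        have h8 : 2 * k = 0 := by linear_combination -h7
        rw [fld_two_mul_eq_zero hr hr2 h8, r_zero]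
        exact E.one_mem
      | sr k =>
        rw [sr_mul_sr, inv_sr, r_mul_sr] at h6
        have h7 : k - (i₀ - k) = i₀ := by injection h6
        have h8 : 2 * (k - i₀) = 0 := by linear_combination h7
        rw [sub_eq_zero.mp (fld_two_mul_eq_zero hr hr2 h8)]
        exact hi₀
  have hVE : V ≤ E := h1.trans hN
  apply le_antisymm hVE
  obtain ⟨x, hx, hx1⟩ : ∃ x ∈ V, x ≠ 1 := by
    by_contra hcon
    apply h4
    rw [eq_bot_iff]
    intro x hx
    by_contra hx1
    exact hcon ⟨x, hx, hx1⟩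
  intro y hy
  rcases (hmem y).mp hy with rfl | rfl
  · exact V.one_mem
  · rcases (hmem x).mp (hVE hx) with rfl | rfl
    · exact absurd rfl hx1
    · exact hx

end fldih

end Cfsg.Agent.Helper47
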