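import Cfsg.Agent.Helper47.FL2

set_option autoImplicit false
set_option linter.unusedSimpArgs false

namespace Cfsg.Agent.Helper47

open Matrix

local notation "cj(" g "," Q ")" => Subgroup.map (MulEquiv.toMonoidHom (MulAut.conj g)) Q
local notation "SL2" => Matrix.SpecialLinearGroup (Fin 2)

section flsl

variable {F : Type*} [Field F]

theorem fls_mul00 (g h : SL2 F) : (g * h) 0 0 = g 0 0 * h 0 0 + g 0 1 * h 1 0 := by
  simp [Matrix.mul_apply, Fin.sum_univ_two]
theorem fls_mul01 (g h : SL2 F) : (g * h) 0 1 = g 0 0 * h 0 1 + g 0 1 * h 1 1 := by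
  simp [Matrix.mul_apply, Fin.sum_univ_two]
theorem fls_mul10 (g h : SL2 F) : (g * h) 1 0 = g 1 0 * h 0 0 + g 1 1 * h 1 0 := by
  simp [Matrix.mul_apply, Fin.sum_univ_two]
theorem fls_mul11 (g h : SL2 F) : (g * h) 1 1 = g 1 0 * h 0 1 + g 1 1 * h 1 1 := by
  simp [Matrix.mul_apply, Fin.sum_univ_two]
theorem fls_inv00 (g : SL2 F) : (g⁻¹) 0 0 = g 1 1 := by
  simp [Matrix.SpecialLinearGroup.coe_inv, Matrix.adjugate_fin_two]
theorem fls_inv01 (g : SL2 F) : (g⁻¹) 0 1 = - g 0 1 := by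
  simp [Matrix.SpecialLinearGroup.coe_inv, Matrix.adjugate_fin_two]
theorem fls_inv10 (g : SL2 F) : (g⁻¹) 1 0 = - g 1 0 := by
  simp [Matrix.SpecialLinearGroup.coe_inv, Matrix.adjugate_fin_two]
theorem fls_inv11 (g : SL2 F) : (g⁻¹) 1 1 = g 0 0 := by
  simp [Matrix.SpecialLinearGroup.coe_inv, Matrix.adjugate_fin_two]
theorem fls_det (g : SL2 F) : g 0 0 * g 1 1 - g 0 1 * g 1 0 = 1 := by
  have := g.det_coe
  rw [Matrix.det_fin_two] at this
  exact this
theorem fls_ext {g h : SL2 F} (h00 : g 0 0 = h 0 0) (h01 : g 0 1 = h 0 1) (h10 : g 1 0 = h 1 0)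
    (h11 : g 1 1 = h 1 1) : g = h := by
  apply Matrix.SpecialLinearGroup.ext
  intro i j
  fin_cases i <;> fin_cases j <;> assumption
theorem fls_one00 : (1 : SL2 F) 0 0 = 1 := by simp
theorem fls_one01 : (1 : SL2 F) 0 1 = 0 := by simp
theorem fls_one10 : (1 : SL2 F) 1 0 = 0 := by simp
theorem fls_one11 : (1 : SL2 F) 1 1 = 1 := by simp

/-- an element of `SL₂` from its entries -/
def flsMk (a b c d : F) (h : a * d - b * c = 1) : SL2 F :=
  ⟨!![a, b; c, d], by rw [Matrix.det_fin_two_of]; exact h⟩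
theorem flsMk00 (a b c d : F) (h : a * d - b * c = 1) : (flsMk a b c d h) 0 0 = a := rfl
theorem flsMk01 (a b c d : F) (h : a * d - b * c = 1) : (flsMk a b c d h) 0 1 = b := rfl
theorem flsMk10 (a b c d : F) (h : a * d - b * c = 1) : (flsMk a b c d h) 1 0 = c := rfl
theorem flsMk11 (a b c d : F) (h : a * d - b * c = 1) : (flsMk a b c d h) 1 1 = d := rfl

/-- upper unitriangular elements -/
def flsX (t : F) : SL2 F := flsMk 1 t 0 1 (by ring)

/-- the upper unitriangular subgroup -/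
def flsU (F : Type*) [Field F] : Subgroup (SL2 F) where
  carrier := {g | g 1 0 = 0 ∧ g 0 0 = 1}
  mul_mem' := by
    rintro g h ⟨g1, g2⟩ ⟨h1, h2⟩
    refine ⟨?_, ?_⟩
    · rw [fls_mul10, g1, h1]; ring
    · rw [fls_mul00, g2, h2, h1]; ring
  one_mem' := ⟨fls_one10, fls_one00⟩
  inv_mem' := by
    rintro g ⟨g1, g2⟩
    refine ⟨?_, ?_⟩
    · rw [fls_inv10, g1]; ring
    · rw [fls_inv00]
      have := fls_det g
      rw [g1, g2] at this
      linear_combination this

theorem mem_flsU {g : SL2 F} : g ∈ flsU F ↔ g 1 0 = 0 ∧ g 0 0 = 1 := Iff.rfl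

theorem flsU_11 {g : SL2 F} (hg : g ∈ flsU F) : g 1 1 = 1 := by
  have := fls_det g
  rw [hg.1, hg.2] at this
  linear_combination this

theorem flsX_mem (t : F) : flsX t ∈ flsU F := ⟨rfl, rfl⟩

theorem flsU_eq {g : SL2 F} (hg : g ∈ flsU F) : g = flsX (g 0 1) :=
  fls_ext hg.2 rfl hg.1 (flsU_11 hg)

/-- membership in a conjugate of `U`: fixing the first column of the conjugating element -/
theorem fls_mem_cj_iff (g x : SL2 F) :
    x ∈ cj(g, flsU F) ↔
      x 0 0 * g 0 0 + x 0 1 * g 1 0 = g 0 0 ∧ x 1 0 * g 0 0 + x 1 1 * g 1 0 = g 1 0 := by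
  rw [mem_cj, mem_flsU]
  simp only [fls_mul00, fls_mul01, fls_mul10, fls_mul11, fls_inv00, fls_inv01, fls_inv10, fls_inv11]
  have hd := fls_det g
  constructor
  · rintro ⟨h1, h2⟩
    constructor
    · linear_combination (g 0 0) * h2 + (g 0 1) * h1 - (x 0 0 * g 0 0 + x 0 1 * g 1 0) * hd
    · linear_combination (g 1 0) * h2 + (g 1 1) * h1 - (x 1 0 * g 0 0 + x 1 1 * g 1 0) * hd
  · rintro ⟨h1, h2⟩
    constructor
    · linear_combination (-(g 1 0)) * h1 + (g 0 0) * h2
    · linear_combination (g 1 1) * h1 - (g 0 1) * h2 + hd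

theorem fls_cj_eq_U_of (g : SL2 F) (h : g 1 0 = 0) : cj(g, flsU F) = flsU F := by
  have hd := fls_det g
  rw [h] at hd
  have ha : g 0 0 ≠ 0 := by
    intro h0
    rw [h0] at hd
    simp at hd
  ext x
  rw [fls_mem_cj_iff, mem_flsU, h]
  constructor
  · rintro ⟨h1, h2⟩
    constructor
    · have : x 1 0 * g 0 0 = 0 := by linear_combination h2
      rcases mul_eq_zero.mp this with h3 | h3
      · exact h3
      · exact absurd h3 ha
    · have : (x 0 0 - 1) * g 0 0 = 0 := by linear_combination h1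
      rcases mul_eq_zero.mp this with h3 | h3
      · linear_combination h3
      · exact absurd h3 ha
  · rintro ⟨h1, h2⟩
    rw [h1, h2]
    constructor <;> ring

theorem fls_10_of_cj_eq_U (g : SL2 F) (h : cj(g, flsU F) = flsU F) : g 1 0 = 0 := by
  have h1 : flsX (1 : F) ∈ cj(g, flsU F) := by rw [h]; exact flsX_mem 1
  rw [fls_mem_cj_iff] at h1
  have h2 := h1.1
  change (1 : F) * g 0 0 + 1 * g 1 0 = g 0 0 at h2
  linear_combination h2

theorem fls_mem_normalizer_U_iff (g : SL2 F) :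
    g ∈ Subgroup.normalizer ((flsU F : Subgroup (SL2 F)) : Set (SL2 F)) ↔ g 1 0 = 0 := by
  rw [← cj_eq_self_iff]
  exact ⟨fls_10_of_cj_eq_U g, fls_cj_eq_U_of g⟩

/-- distinct conjugates of `U` intersect the normalizers of each other trivially -/
theorem fls_ti (g : SL2 F) (hg : cj(g, flsU F) ≠ flsU F) {x : SL2 F} (hx : x ∈ flsU F)
    (hn : x ∈ Subgroup.normalizer ((cj(g, flsU F) : Subgroup (SL2 F)) : Set (SL2 F))) : x = 1 := by
  have hc : g 1 0 ≠ 0 := fun h => hg (fls_cj_eq_U_of g h)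
  have h1 : cj(x⁻¹, cj(g, flsU F)) = cj(g, flsU F) :=
    cj_eq_self_iff.mpr (Subgroup.inv_mem _ hn)
  have h2 : cj(g⁻¹ * x⁻¹ * g, flsU F) = flsU F := by
    have e : cj(g⁻¹ * x⁻¹ * g, flsU F) = cj(g⁻¹, cj(x⁻¹, cj(g, flsU F))) := by
      rw [cj_cj, cj_cj, mul_assoc]
    rw [e, h1, fl_cj_inv_cj]
  have h3 := fls_10_of_cj_eq_U _ h2
  simp only [fls_mul10, fls_mul11, fls_inv00, fls_inv01, fls_inv10, fls_inv11] at h3
  rw [hx.1, hx.2, flsU_11 hx] at h3
  have h4 : x 0 1 * (g 1 0 * g 1 0) = 0 := by linear_combination h3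
  have h5 : x 0 1 = 0 := by
    rcases mul_eq_zero.mp h4 with h | h
    · exact h
    · exact absurd (mul_self_eq_zero.mp h) hc
  exact fls_ext (by rw [hx.2, fls_one00]) (by rw [h5, fls_one01]) (by rw [hx.1, fls_one10])
    (by rw [flsU_11 hx, fls_one11])

theorem fls_trace_conj (g M : SL2 F) :
    (g * M * g⁻¹) 0 0 + (g * M * g⁻¹) 1 1 = M 0 0 + M 1 1 := by
  simp only [fls_mul00, fls_mul01, fls_mul10, fls_mul11, fls_inv00, fls_inv01, fls_inv10, fls_inv11]
  linear_combination (M 0 0 + M 1 1) * fls_det g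

/-- an element with nonzero lower left entry and trace different from `2` is a product of
two root elements -/
theorem fls_good_of_ne (M : SL2 F) (hc : M 1 0 ≠ 0) (ht : M 0 0 + M 1 1 ≠ 2) :
    RGood (flsU F) M := by
  have hd := fls_det M
  have hβ : (M 0 0 + M 1 1 - 2) / M 1 0 ≠ 0 := div_ne_zero (sub_ne_zero.mpr ht) hc
  have he₂ : flsX ((M 0 0 + M 1 1 - 2) / M 1 0) ∈ flsU F := flsX_mem _
  have he₁ : M * (flsX ((M 0 0 + M 1 1 - 2) / M 1 0))⁻¹ ∈
      cj(flsMk (-((M 0 0 - 1) / M 1 0)) 1 (-1) 0 (by ring), flsU F) := by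
    rw [fls_mem_cj_iff]
    simp only [fls_mul00, fls_mul01, fls_mul10, fls_mul11, fls_inv00, fls_inv01, fls_inv10,
      fls_inv11, flsMk00, flsMk01, flsMk10, flsMk11, flsX]
    constructor
    · field_simp
      linear_combination hd
    · field_simp
      ring
  refine ⟨1, flsMk (-((M 0 0 - 1) / M 1 0)) 1 (-1) 0 (by ring), 1,
    M * (flsX ((M 0 0 + M 1 1 - 2) / M 1 0))⁻¹, flsX ((M 0 0 + M 1 1 - 2) / M 1 0),
    ?_, he₁, ?_, ?_, ?_, ?_⟩
  · rw [cj_one]
    intro h
    rw [h] at he₁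
    have := Subgroup.mul_mem _ he₁ he₂
    rw [inv_mul_cancel_right] at this
    exact hc this.1
  · rw [cj_one]; exact he₂
  · intro h
    have h10 := congrArg (fun A : SL2 F => A 1 0) h
    simp only [fls_mul10, fls_inv00, fls_inv10, flsX, flsMk10, flsMk11, fls_one10] at h10
    apply hc
    linear_combination h10
  · intro h
    have h01 := congrArg (fun A : SL2 F => A 0 1) h
    simp only [flsX, flsMk01, fls_one01] at h01
    exact hβ h01
  · rw [pow_one, inv_mul_cancel_right]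

/-- a non-scalar element has a conjugate with nonzero lower left entry -/
theorem fls_exists_conj_ne (M : SL2 F) (h : ¬ (M 0 1 = 0 ∧ M 1 0 = 0 ∧ M 0 0 = M 1 1)) :
    ∃ g : SL2 F, (g * M * g⁻¹) 1 0 ≠ 0 := by
  by_cases hc : M 1 0 = 0
  · by_cases hb : M 0 1 = 0
    · refine ⟨flsMk 1 0 1 1 (by ring), ?_⟩
      simp only [fls_mul10, fls_mul11, fls_inv00, fls_inv10, flsMk00, flsMk01, flsMk10, flsMk11]
      rw [hc, hb]
      intro h0
      apply h
      refine ⟨hb, hc, ?_⟩
      linear_combination h0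
    · refine ⟨flsMk 0 1 (-1) 0 (by ring), ?_⟩
      simp only [fls_mul10, fls_mul11, fls_inv00, fls_inv10, flsMk00, flsMk01, flsMk10, flsMk11]
      intro h0
      apply hb
      linear_combination -h0
  · refine ⟨1, ?_⟩
    rw [one_mul, inv_one, mul_one]
    exact hc

theorem fls_good_of_nonscalar (M : SL2 F) (h : ¬ (M 0 1 = 0 ∧ M 1 0 = 0 ∧ M 0 0 = M 1 1))
    (ht : M 0 0 + M 1 1 ≠ 2) : RGood (flsU F) M := by
  obtain ⟨g, hg⟩ := fls_exists_conj_ne M h
  have h1 := fls_good_of_ne (g * M * g⁻¹) hg (by rw [fls_trace_conj]; exact ht)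
  have h2 := rgood_conj h1 g⁻¹
  have e : g⁻¹ * (g * M * g⁻¹) * g⁻¹⁻¹ = M := by group
  rwa [e] at h2

/-- entries of the powers of an element of trace `2` -/
theorem fls_pow_of_trace_two (M : SL2 F) (ht : M 0 0 + M 1 1 = 2) (n : ℕ) :
    (M ^ n) 0 0 = n * M 0 0 - (n - 1) ∧ (M ^ n) 0 1 = n * M 0 1 ∧ (M ^ n) 1 0 = n * M 1 0 ∧
      (M ^ n) 1 1 = n * M 1 1 - (n - 1) := by
  have hd := fls_det M
  induction n with
  | zero =>
    simp only [pow_zero, fls_one00, fls_one01, fls_one10, fls_one11, Nat.cast_zero]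
    refine ⟨by ring, by ring, by ring, by ring⟩
  | succ n ih =>
    obtain ⟨i1, i2, i3, i4⟩ := ih
    rw [pow_succ]
    simp only [fls_mul00, fls_mul01, fls_mul10, fls_mul11, i1, i2, i3, i4, Nat.cast_succ]
    refine ⟨?_, ?_, ?_, ?_⟩
    · linear_combination (n : F) * M 0 0 * ht - (n : F) * hd
    · linear_combination (n : F) * M 0 1 * ht
    · linear_combination (n : F) * M 1 0 * ht
    · linear_combination (n : F) * M 1 1 * ht - (n : F) * hd

theorem fls_order_of_trace_two {p : ℕ} [Fact p.Prime] [CharP F p] (M : SL2 F)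
    (ht : M 0 0 + M 1 1 = 2) : ∃ k : ℕ, orderOf M = p ^ k := by
  obtain ⟨h1, h2, h3, h4⟩ := fls_pow_of_trace_two M ht p
  have hp0 : ((p : ℕ) : F) = 0 := CharP.cast_eq_zero F p
  rw [hp0] at h1 h2 h3 h4
  have hM : M ^ p = 1 :=
    fls_ext (by rw [h1, fls_one00]; ring) (by rw [h2, fls_one01]; ring)
      (by rw [h3, fls_one10]; ring) (by rw [h4, fls_one11]; ring)
  have h5 := orderOf_dvd_of_pow_eq_one hM
  rcases (Nat.dvd_prime (Fact.out : p.Prime)).mp h5 with h | h
  · exact ⟨0, by rw [h, pow_zero]⟩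
  · exact ⟨1, by rw [h, pow_one]⟩

theorem fls_good {p : ℕ} [Fact p.Prime] [CharP F p] (x : SL2 F)
    (hx : ¬ ∃ k : ℕ, orderOf x = p ^ k) :
    RGood (flsU F) x ∨ (x ∈ Subgroup.center (SL2 F) ∧ ∃ e ∈ flsU F, RGood (flsU F) (x * e)) := by
  have ht : x 0 0 + x 1 1 ≠ 2 := fun h => hx (fls_order_of_trace_two x h)
  by_cases hs : x 0 1 = 0 ∧ x 1 0 = 0 ∧ x 0 0 = x 1 1
  · right
    obtain ⟨h01, h10, h00⟩ := hs
    refine ⟨?_, flsX 1, flsX_mem 1, ?_⟩
    · rw [Subgroup.mem_center_iff]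
      intro g
      apply fls_ext <;>
        simp only [fls_mul00, fls_mul01, fls_mul10, fls_mul11, h01, h10, h00] <;> ring
    · apply fls_good_of_nonscalar
      · rintro ⟨h1, -, -⟩
        simp only [fls_mul01, flsX, flsMk01, flsMk11, h01] at h1
        have hd := fls_det x
        rw [h01, h10, ← h00] at hd
        have h2 : x 0 0 = 0 := by linear_combination h1
        rw [h2] at hd
        simp at hd
      · simp only [fls_mul00, fls_mul11, flsX, flsMk00, flsMk10, flsMk01, flsMk11, h01, h10]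
        intro h
        apply ht
        -- x00 + x11 = 2 follows from x00 * 1 + 0 + (0 + x11) = 2
        linear_combination h
  · left
    exact fls_good_of_nonscalar x hs ht

theorem rootCert_flsU {p : ℕ} [Fact p.Prime] [CharP F p] : RootCert p (flsU F) :=
  ⟨fun g hg _ hx hn => fls_ti g hg hx hn, fun x hx => fls_good x hx⟩

theorem fls_pow_00_of_upper (v : SL2 F) (h : v 1 0 = 0) (n : ℕ) :
    (v ^ n) 1 0 = 0 ∧ (v ^ n) 0 0 = v 0 0 ^ n := by
  induction n with
  | zero => exact ⟨by rw [pow_zero, fls_one10], by rw [pow_zero, pow_zero, fls_one00]⟩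
  | succ n ih =>
    rw [pow_succ, fls_mul10, fls_mul00, ih.1, ih.2, h]
    constructor <;> ring

theorem borelCert_flsU [Finite F] {p : ℕ} [Fact p.Prime] [CharP F p] : BorelCert p (flsU F) := by
  intro V h1 h2 h3 h4
  -- `V ≤ U`
  have hVU : V ≤ flsU F := by
    intro v hv
    have h10 := (fls_mem_normalizer_U_iff v).mp (h1 hv)
    refine ⟨h10, ?_⟩
    have h5 := (fls_pow_00_of_upper v h10 p).2
    rw [h3 v hv, fls_one00] at h5
    have h6 : (v 0 0 - 1) ^ p = 0 := by
      rw [sub_pow_char, ← h5, one_pow, sub_self]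
    have h7 := pow_eq_zero_iff (Fact.out : p.Prime).ne_zero |>.mp h6
    linear_combination h7
  apply le_antisymm hVU
  obtain ⟨v₀, hv₀, hv₀1⟩ : ∃ x ∈ V, x ≠ 1 := by
    by_contra hcon
    apply h4
    rw [eq_bot_iff]
    intro x hx
    by_contra hx1
    exact hcon ⟨x, hx, hx1⟩
  have ht₀ : v₀ 0 1 ≠ 0 := by
    intro h
    apply hv₀1
    have hu := hVU hv₀
    exact fls_ext (by rw [hu.2, fls_one00]) (by rw [h, fls_one01]) (by rw [hu.1, fls_one10])
      (by rw [flsU_11 hu, fls_one11])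
  have hv₀' : flsX (v₀ 0 1) ∈ V := by rw [← flsU_eq (hVU hv₀)]; exact hv₀
  -- the set of `t` with `x(t) ∈ V`
  have hadd : ∀ s t : F, flsX s ∈ V → flsX t ∈ V → flsX (s - t) ∈ V := by
    intro s t hs ht
    have e : flsX (s - t) = flsX s * (flsX t)⁻¹ := by
      apply fls_ext <;>
        simp only [fls_mul00, fls_mul01, fls_mul10, fls_mul11, fls_inv00, fls_inv01, fls_inv10,
          fls_inv11, flsX, flsMk00, flsMk01, flsMk10, flsMk11] <;> ring
    rw [e]
    exact V.mul_mem hs (V.inv_mem ht)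
  have hzero : flsX (0 : F) ∈ V := by
    have := hadd _ _ hv₀' hv₀'
    rwa [sub_self] at this
  have hsq : ∀ l : F, flsX (l * l * v₀ 0 1) ∈ V := by
    intro l
    by_cases hl : l = 0
    · rw [hl, zero_mul, zero_mul]; exact hzero
    · have hT : flsMk l 0 0 l⁻¹ (by field_simp; ring) ∈
          Subgroup.normalizer ((V : Subgroup (SL2 F)) : Set (SL2 F)) :=
        h2 ((fls_mem_normalizer_U_iff _).mpr rfl)
      have h5 := (Subgroup.mem_normalizer_iff.mp hT _).mp hv₀'
      have e : flsMk l 0 0 l⁻¹ (by field_simp; ring) * flsX (v₀ 0 1) *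
          (flsMk l 0 0 l⁻¹ (by field_simp; ring))⁻¹ = flsX (l * l * v₀ 0 1) := by
        apply fls_ext <;>
          simp only [fls_mul00, fls_mul01, fls_mul10, fls_mul11, fls_inv00, fls_inv01, fls_inv10,
            fls_inv11, flsX, flsMk00, flsMk01, flsMk10, flsMk11] <;> field_simp <;> ring
      rwa [e] at h5
  have hall : ∀ z : F, flsX (z * v₀ 0 1) ∈ V := by
    intro z
    by_cases h2F : (2 : F) = 0
    · -- characteristic two: every element is a square
      have hchar : ringChar F = 2 := by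
        have hne : (1 : F) ≠ 0 := one_ne_zero
        apply CharP.ringChar_of_prime_eq_zero Nat.prime_two
        exact_mod_cast h2F
      have := Fintype.ofFinite F
      obtain ⟨w, hw⟩ := FiniteField.isSquare_of_char_two hchar z
      rw [hw]
      exact hsq w
    · have e : z * v₀ 0 1 = ((z + 1) / 2) * ((z + 1) / 2) * v₀ 0 1 -
          ((z - 1) / 2) * ((z - 1) / 2) * v₀ 0 1 := by
        field_simp
        ring
      rw [e]
      exact hadd _ _ (hsq _) (hsq _)
  intro g hg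
  rw [flsU_eq hg]
  have := hall (g 0 1 / v₀ 0 1)
  rwa [div_mul_cancel₀ _ ht₀] at this

theorem fls_card_U [Finite F] : Nat.card (flsU F) = Nat.card F := by
  apply Nat.card_congr
  refine Equiv.ofBijective (fun g : flsU F => (g : SL2 F) 0 1) ⟨?_, ?_⟩
  · intro g h hgh
    apply Subtype.ext
    rw [flsU_eq g.2, flsU_eq h.2]
    exact congrArg flsX hgh
  · intro t
    exact ⟨⟨flsX t, flsX_mem t⟩, rfl⟩

/-- a subgroup of `SL₂(F)` of order `|F|` is conjugate to the unitriangular subgroup -/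
theorem fls_exists_conj [Finite F] {p : ℕ} [Fact p.Prime] [CharP F p] (E : Subgroup (SL2 F))
    (hE : Nat.card E = Nat.card F) : ∃ g : SL2 F, E = cj(g, flsU F) := by
  have := Fintype.ofFinite F
  obtain ⟨k, hk⟩ : ∃ k : ℕ, Nat.card F = p ^ k := by
    obtain ⟨n, hn, hc⟩ := FiniteField.card F p
    exact ⟨n, by rw [Nat.card_eq_fintype_card, hc]⟩
  have hEp : IsPGroup p E := IsPGroup.of_card (hE.trans hk)
  have hkpos : k ≠ 0 := by
    rintro rfl
    rw [pow_zero] at hk
    have : 1 < Nat.card F := Finite.one_lt_card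
    omega
  have hdvd : p ∣ Nat.card (Fin 2 → F) := by
    rw [Nat.card_fun, Nat.card_fin, hk, ← pow_mul]
    exact dvd_pow_self p (by positivity)
  have h0 : (0 : Fin 2 → F) ∈ MulAction.fixedPoints E (Fin 2 → F) := by
    intro x
    exact smul_zero _
  obtain ⟨v, hv, hv0⟩ := hEp.exists_fixed_point_of_prime_dvd_card_of_fixed_point (Fin 2 → F) hdvd h0
  -- a matrix with first column `v`
  have hfix : ∀ x ∈ E, x 0 0 * v 0 + x 0 1 * v 1 = v 0 ∧ x 1 0 * v 0 + x 1 1 * v 1 = v 1 := by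
    intro x hx
    have h1 : (x : SL2 F) • v = v := hv ⟨x, hx⟩
    rw [Matrix.SpecialLinearGroup.smul_def] at h1
    have h2 := congrFun h1 0
    have h3 := congrFun h1 1
    simp only [Matrix.smul_eq_mulVec, Matrix.mulVec, dotProduct, Fin.sum_univ_two] at h2 h3
    exact ⟨h2, h3⟩
  obtain ⟨g, hg0, hg1⟩ : ∃ g : SL2 F, g 0 0 = v 0 ∧ g 1 0 = v 1 := by
    by_cases ha : v 0 = 0
    · have hc : v 1 ≠ 0 := by
        intro hc
        apply hv0
        ext i
        fin_cases i
        · exact ha.symm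
        · exact hc.symm
      exact ⟨flsMk 0 (-(v 1)⁻¹) (v 1) 0 (by field_simp; ring), ha.symm, rfl⟩
    · exact ⟨flsMk (v 0) 0 (v 1) (v 0)⁻¹ (by field_simp; ring), rfl, rfl⟩
  refine ⟨g, ?_⟩
  apply Subgroup.eq_of_le_of_card_ge
  · intro x hx
    rw [fls_mem_cj_iff, hg0, hg1]
    exact hfix x hx
  · rw [card_cj, fls_card_U, hE]

/-- both certificates for a subgroup of order `|F|` of `SL₂(F)` -/
theorem certs_sl2 [Finite F] {p : ℕ} [Fact p.Prime] [CharP F p] (E : Subgroup (SL2 F))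
    (hE : Nat.card E = Nat.card F) : RootCert p E ∧ BorelCert p E := by
  obtain ⟨g, rfl⟩ := fls_exists_conj (p := p) E hE
  exact ⟨(rootCert_flsU (F := F) (p := p)).map (MulAut.conj g),
    (borelCert_flsU (F := F) (p := p)).map (MulAut.conj g)⟩

end flsl

end Cfsg.Agent.Helper47
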