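import Cfsg.Agent.Helper47.FL2
import Cfsg.Agent.Helper60.SzBridge
import Cfsg.Agent.Helper60.SzSubC
import Cfsg.Agent.Helper6.SzSol4
import Cfsg.Agent.Helper6.SzNorm
import Cfsg.Agent.Helper6.SzFix

set_option autoImplicit false

namespace Cfsg.Agent.Helper47

open scoped commutatorElement Pointwise

local notation "cj(" g "," Q ")" => Subgroup.map (MulEquiv.toMonoidHom (MulAut.conj g)) Q

section flsz

variable {F : Type*} [Field F] [Fintype F] {m : ℕ} [CharP F 2]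

/-- the centre of the standard unipotent subgroup of the Suzuki group (ovoid model) -/
def flzZ (hF : Fintype.card F = 2 ^ (2 * m + 1)) : Subgroup (Cfsg.Sz F m) where
  carrier := {g | ∃ b : F, g = Helper60.tG hF 0 b}
  mul_mem' := by
    rintro _ _ ⟨b, rfl⟩ ⟨b', rfl⟩
    refine ⟨b + b', ?_⟩
    rw [Helper60.tG_mul]
    simp
  one_mem' := ⟨0, (Helper60.tG_zero hF).symm⟩
  inv_mem' := by
    rintro _ ⟨b, rfl⟩
    exact ⟨b, Helper6.tG_center_inv hF b⟩

theorem mem_flzZ (hF : Fintype.card F = 2 ^ (2 * m + 1)) {g : Cfsg.Sz F m} :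
    g ∈ flzZ hF ↔ ∃ b : F, g = Helper60.tG hF 0 b := Iff.rfl

theorem flz_card (hF : Fintype.card F = 2 ^ (2 * m + 1)) :
    Nat.card (flzZ hF) = Fintype.card F := by
  rw [← Nat.card_eq_fintype_card]
  symm
  refine Nat.card_congr (Equiv.ofBijective (fun b : F => (⟨Helper60.tG hF 0 b, ⟨b, rfl⟩⟩ : flzZ hF))
    ⟨?_, ?_⟩)
  · intro b b' h
    exact (Helper60.tG_inj hF (congrArg Subtype.val h)).2
  · rintro ⟨_, ⟨b, rfl⟩⟩
    exact ⟨b, rfl⟩

theorem flz_le_Bo (hF : Fintype.card F = 2 ^ (2 * m + 1)) : flzZ hF ≤ Helper60.Bo F m := by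
  rintro _ ⟨b, rfl⟩
  exact Helper60.tG_mem_Bo hF 0 b

theorem flz_of_invol (hF : Fintype.card F = 2 ^ (2 * m + 1)) (hm : 1 ≤ m) {g : Cfsg.Sz F m}
    (hg : g ∈ Helper60.Bo F m) (h2 : g * g = 1) : g ∈ flzZ hF :=
  Helper60.Bo_invol hF hm hg h2

theorem flz_sq (hF : Fintype.card F = 2 ^ (2 * m + 1)) {x : Cfsg.Sz F m} (hx : x ∈ flzZ hF) :
    x * x = 1 := by
  obtain ⟨b, rfl⟩ := hx
  exact Helper6.tG_center_sq hF b

theorem flz_comm (hF : Fintype.card F = 2 ^ (2 * m + 1)) {x y : Cfsg.Sz F m} (hx : x ∈ flzZ hF)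
    (hy : y ∈ flzZ hF) : x * y = y * x := by
  obtain ⟨b, rfl⟩ := hx
  obtain ⟨b', rfl⟩ := hy
  rw [Helper60.tG_mul, Helper60.tG_mul]
  simp [add_comm]

theorem flz_conj_mem (hF : Fintype.card F = 2 ^ (2 * m + 1)) (hm : 1 ≤ m) {g : Cfsg.Sz F m}
    (hg : g ∈ Helper60.Bo F m) {x : Cfsg.Sz F m} (hx : x ∈ flzZ hF) : g * x * g⁻¹ ∈ flzZ hF := by
  apply flz_of_invol hF hm
  · exact (Helper60.Bo F m).mul_mem ((Helper60.Bo F m).mul_mem hg (flz_le_Bo hF hx))
      ((Helper60.Bo F m).inv_mem hg)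
  · have e : g * x * g⁻¹ * (g * x * g⁻¹) = g * (x * x) * g⁻¹ := by group
    rw [e, flz_sq hF hx, mul_one, mul_inv_cancel]

theorem flz_cj_eq_iff (hF : Fintype.card F = 2 ^ (2 * m + 1)) (hm : 1 ≤ m) (g : Cfsg.Sz F m) :
    cj(g, flzZ hF) = flzZ hF ↔ g ∈ Helper60.Bo F m := by
  constructor
  · intro h
    have h1 : g * Helper60.tG hF 0 1 * g⁻¹ ∈ cj(g, flzZ hF) := cj_mem ⟨1, rfl⟩
    rw [h] at h1
    exact Helper60.invol_conj_Bo hF hm one_ne_zero (flz_le_Bo hF h1)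
  · intro hg
    apply cj_eq_of_le
    intro x hx
    rw [mem_cj] at hx
    have := flz_conj_mem hF hm hg hx
    have e : g * (g⁻¹ * x * g) * g⁻¹ = x := by group
    rwa [e] at this

theorem flz_ti (hF : Fintype.card F = 2 ^ (2 * m + 1)) (hm : 1 ≤ m) (g : Cfsg.Sz F m)
    (hg : cj(g, flzZ hF) ≠ flzZ hF) {x : Cfsg.Sz F m} (hx : x ∈ flzZ hF)
    (hn : x ∈ Subgroup.normalizer ((cj(g, flzZ hF) : Subgroup (Cfsg.Sz F m)) : Set (Cfsg.Sz F m))) :
    x = 1 := by
  by_contra hx1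
  obtain ⟨b, rfl⟩ := hx
  have hb : b ≠ 0 := by
    rintro rfl
    exact hx1 (Helper60.tG_zero hF)
  rw [normalizer_cj, mem_cj, ← cj_eq_self_iff, flz_cj_eq_iff hF hm] at hn
  have h1 : g⁻¹ * Helper60.tG hF 0 b * g⁻¹⁻¹ ∈ Helper60.Bo F m := by
    rw [inv_inv]; exact hn
  have h2 := Helper60.invol_conj_Bo hF hm hb h1
  have h3 : g ∈ Helper60.Bo F m := by
    have := (Helper60.Bo F m).inv_mem h2
    rwa [inv_inv] at this
  exact hg ((flz_cj_eq_iff hF hm g).mpr h3)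

/-- every involution lies in a conjugate of the centre of the unipotent subgroup -/
theorem flz_invol_mem (hF : Fintype.card F = 2 ^ (2 * m + 1)) (hm : 1 ≤ m) {u : Cfsg.Sz F m}
    (hu : u * u = 1) : ∃ c : Cfsg.Sz F m, u ∈ cj(c, flzZ hF) := by
  have hu' : (u : Matrix.SpecialLinearGroup (Fin 4) F) * (u : Matrix.SpecialLinearGroup (Fin 4) F)
      = 1 := by
    have := congrArg Subtype.val hu
    exact this
  obtain ⟨p, hp, hfix⟩ := Helper6.sz_invol_fixed hF u.2 hu'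
  obtain ⟨h, hh, hhp⟩ := Helper6.sz_exists_smul_eq_inf hF hp
  refine ⟨(⟨h, hh⟩ : Cfsg.Sz F m)⁻¹, ?_⟩
  rw [mem_cj, inv_inv]
  apply flz_of_invol hF hm
  · rw [Helper60.mem_Bo]
    show (h * (u : Matrix.SpecialLinearGroup (Fin 4) F) * h⁻¹) • Cfsg.suzukiPointInfinity F =
      Cfsg.suzukiPointInfinity F
    rw [mul_smul, mul_smul, ← hhp, inv_smul_smul, hfix]
  · have e : (⟨h, hh⟩ : Cfsg.Sz F m) * u * (⟨h, hh⟩ : Cfsg.Sz F m)⁻¹ *
        ((⟨h, hh⟩ : Cfsg.Sz F m) * u * (⟨h, hh⟩ : Cfsg.Sz F m)⁻¹) =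
        (⟨h, hh⟩ : Cfsg.Sz F m) * (u * u) * (⟨h, hh⟩ : Cfsg.Sz F m)⁻¹ := by group
    rw [e, hu, mul_one, mul_inv_cancel]

/-- an element whose order is not a power of `2` has a power which is a product of two
involutions from distinct conjugates -/
theorem flz_good (hF : Fintype.card F = 2 ^ (2 * m + 1)) (hm : 1 ≤ m) (x : Cfsg.Sz F m)
    (hx : ¬ ∃ k : ℕ, orderOf x = 2 ^ k) : RGood (flzZ hF) x := by
  have hn0 : orderOf x ≠ 0 := (orderOf_pos x).ne'
  obtain ⟨k, n, hn, he⟩ := Nat.exists_eq_two_pow_mul_odd hn0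
  have hn1 : n ≠ 1 := by
    rintro rfl
    exact hx ⟨k, by rw [he, mul_one]⟩
  obtain ⟨h', hh'⟩ : ∃ h' : Cfsg.Sz F m, h' = x ^ (2 ^ k) := ⟨_, rfl⟩
  have hord : orderOf h' = n := by
    rw [hh', orderOf_pow_of_dvd (pow_ne_zero k two_ne_zero) (by rw [he]; exact dvd_mul_right _ _),
      he]
    exact Nat.mul_div_cancel_left n (by positivity)
  have hodd : Odd (orderOf h') := hord ▸ hn
  have hh1 : h' ≠ 1 := by
    intro h
    rw [h, orderOf_one] at hord
    exact hn1 hord.symm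
  have hsq : h' * h' ≠ 1 := by
    intro h
    have h2 : orderOf h' ∣ 2 := orderOf_dvd_of_pow_eq_one (by rw [pow_two]; exact h)
    have h3 : orderOf h' = 1 := by
      rcases (Nat.dvd_prime Nat.prime_two).mp h2 with h3 | h3
      · exact h3
      · rw [h3] at hodd
        exact absurd hodd (by decide)
    exact hh1 (orderOf_eq_one_iff.mp h3)
  have hinv : ∃ z : Cfsg.Sz F m, z * z = 1 ∧ z ≠ 1 ∧ z * h' * z⁻¹ = h'⁻¹ := by
    have key : (h' ∈ Helper6.szE F m ∨ h' ∈ Helper6.szDE hF) →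
        2 ∣ Nat.card (Helper6.szNC h') →
        ∃ z : Cfsg.Sz F m, z * z = 1 ∧ z ≠ 1 ∧ z * h' * z⁻¹ = h'⁻¹ := by
      intro hu h2
      obtain ⟨z, hz⟩ := exists_prime_orderOf_dvd_card' 2 h2
      have hz' : orderOf (z : Cfsg.Sz F m) = 2 := by rw [Subgroup.orderOf_coe, hz]
      have hz2 : (z : Cfsg.Sz F m) * (z : Cfsg.Sz F m) = 1 := by
        rw [← pow_two, ← hz']
        exact pow_orderOf_eq_one _
      have hz1 : (z : Cfsg.Sz F m) ≠ 1 := by
        intro h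
        rw [h, orderOf_one] at hz'
        exact absurd hz' (by norm_num)
      exact ⟨z, hz2, hz1, Helper6.szTor_invol_inverts hm hF hu z.2 hz2 hz1
        (Subgroup.mem_centralizer_singleton_iff.mpr rfl)⟩
    rcases Helper6.sz_trichotomy hm hF hh1 with h | ⟨y, a, b, hab, e⟩ | ⟨y, t, ht, e⟩
    · apply key (Or.inl h)
      show 2 ∣ Nat.card (Subgroup.normalizer
        ((Subgroup.centralizer ({h'} : Set (Cfsg.Sz F m)) : Subgroup (Cfsg.Sz F m)) :
          Set (Cfsg.Sz F m)))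
      rw [Helper6.szEnorm_card hm hF h]
      exact Dvd.dvd.mul_right (by norm_num) _
    · exact absurd (Helper6.tG_conj_odd hF e hodd) hh1
    · apply key (Or.inr ⟨y, t, ht, e⟩)
      show 2 ∣ Nat.card (Subgroup.normalizer
        ((Subgroup.centralizer ({h'} : Set (Cfsg.Sz F m)) : Subgroup (Cfsg.Sz F m)) :
          Set (Cfsg.Sz F m)))
      rw [Helper6.szDnorm_card hm hF ⟨y, t, ht, e⟩]
      exact dvd_mul_right _ _
  obtain ⟨z, hz2, hz1, hzi⟩ := hinv
  have hzinv : z⁻¹ = z := inv_eq_of_mul_eq_one_left hz2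
  obtain ⟨t, ht⟩ : ∃ t : Cfsg.Sz F m, t = z * h' := ⟨_, rfl⟩
  have ht2 : t * t = 1 := by
    calc t * t = (z * h' * z⁻¹) * (z * z) * h' := by rw [ht]; group
      _ = 1 := by rw [hzi, hz2, mul_one, inv_mul_cancel]
  have he' : h' = z * t := by rw [ht, ← mul_assoc, hz2, one_mul]
  have ht1 : t ≠ 1 := by
    intro h
    apply hsq
    rw [he', h, mul_one]
    exact hz2
  obtain ⟨c₁, hc₁⟩ := flz_invol_mem hF hm hz2
  obtain ⟨c₂, hc₂⟩ := flz_invol_mem hF hm ht2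
  refine ⟨2 ^ k, c₁, c₂, z, t, ?_, hc₁, hc₂, hz1, ht1, ?_⟩
  · intro heq
    rw [← heq] at hc₂
    apply hsq
    have hcomm : z * t = t * z := by
      rw [mem_cj] at hc₁ hc₂
      have h5 := flz_comm hF hc₁ hc₂
      calc z * t = c₁ * ((c₁⁻¹ * z * c₁) * (c₁⁻¹ * t * c₁)) * c₁⁻¹ := by group
        _ = c₁ * ((c₁⁻¹ * t * c₁) * (c₁⁻¹ * z * c₁)) * c₁⁻¹ := by rw [h5]
        _ = t * z := by group
    calc h' * h' = z * t * (z * t) := by rw [← he']
      _ = z * (t * z) * t := by group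
      _ = z * (z * t) * t := by rw [hcomm]
      _ = (z * z) * (t * t) := by group
      _ = 1 := by rw [hz2, ht2, mul_one]
  · rw [← hh', he']

theorem rootCert_flzZ (hF : Fintype.card F = 2 ^ (2 * m + 1)) (hm : 1 ≤ m) :
    RootCert 2 (flzZ hF) :=
  ⟨fun g hg _ hx hn => flz_ti hF hm g hg hx hn, fun x hx => Or.inl (flz_good hF hm x hx)⟩

theorem flz_exists_unit (hF : Fintype.card F = 2 ^ (2 * m + 1)) {b c : F} (hb : b ≠ 0)
    (hc : c ≠ 0) : ∃ t : Fˣ, Helper6.szS F m (t : F) ^ 2 * (t : F) ^ 2 * b = c := by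
  have hinj1 : Function.Injective (fun a : F => Helper6.szS F m a * a) :=
    fun a a' h => Helper6.sz_sigma_mul_inj hF h
  have hsurj1 := (Finite.injective_iff_surjective).mp hinj1
  have hinj2 : Function.Injective (fun a : F => a ^ 2) := by
    intro a a' h
    have h2 : (2 : F) = 0 := by
      have := CharP.cast_eq_zero F 2
      exact_mod_cast this
    have h' : a ^ 2 = a' ^ 2 := h
    have h3 : (a - a') ^ 2 = 0 := by linear_combination h' + (a' ^ 2 - a * a') * h2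
    exact sub_eq_zero.mp ((pow_eq_zero_iff two_ne_zero).mp h3)
  have hsurj2 := (Finite.injective_iff_surjective).mp hinj2
  obtain ⟨s, hs⟩ := hsurj2 (c / b)
  obtain ⟨a, ha⟩ := hsurj1 s
  have hs' : s ^ 2 = c / b := hs
  have ha' : Helper6.szS F m a * a = s := ha
  have ha0 : a ≠ 0 := by
    rintro rfl
    rw [mul_zero] at ha'
    rw [← ha'] at hs'
    have : c / b = 0 := by rw [← hs']; ring
    rcases div_eq_zero_iff.mp this with h | h
    · exact hc h
    · exact hb h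
  refine ⟨Units.mk0 a ha0, ?_⟩
  rw [Units.val_mk0]
  have e : Helper6.szS F m a ^ 2 * a ^ 2 = (Helper6.szS F m a * a) ^ 2 := by ring
  rw [e, ha', hs', div_mul_cancel₀ c hb]

theorem borelCert_flzZ (hF : Fintype.card F = 2 ^ (2 * m + 1)) (hm : 1 ≤ m) :
    BorelCert 2 (flzZ hF) := by
  intro V h1 h2 h3 h4
  have hVZ : V ≤ flzZ hF := by
    intro v hv
    have hvB : v ∈ Helper60.Bo F m := (flz_cj_eq_iff hF hm v).mp (cj_eq_self_iff.mpr (h1 hv))
    exact flz_of_invol hF hm hvB (by have := h3 v hv; rwa [pow_two] at this)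
  apply le_antisymm hVZ
  obtain ⟨v, hv, hv1⟩ : ∃ v ∈ V, v ≠ 1 := by
    by_contra hcon
    apply h4
    rw [Subgroup.eq_bot_iff_forall]
    intro x hx
    by_contra hx1
    exact hcon ⟨x, hx, hx1⟩
  obtain ⟨b, rfl⟩ := hVZ hv
  have hb : b ≠ 0 := by
    rintro rfl
    exact hv1 (Helper60.tG_zero hF)
  rintro _ ⟨c, rfl⟩
  by_cases hc : c = 0
  · subst hc
    rw [Helper60.tG_zero]
    exact V.one_mem
  obtain ⟨t, ht⟩ := flz_exists_unit hF hb hc
  have hd : Helper60.dG hF t ∈ Subgroup.normalizer (V : Set (Cfsg.Sz F m)) :=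
    h2 (cj_eq_self_iff.mp ((flz_cj_eq_iff hF hm _).mpr (Helper60.dG_mem_Bo hF t)))
  have h5 := (Subgroup.mem_normalizer_iff.mp hd (Helper60.tG hF 0 b)).mp hv
  have e : Helper60.dG hF t * Helper60.tG hF 0 b * (Helper60.dG hF t)⁻¹ = Helper60.tG hF 0 c := by
    rw [Helper60.dG_mul_tG, mul_zero, ht, mul_assoc, mul_inv_cancel, mul_one]
  rwa [e] at h5

theorem flz_exists_conj (hF : Fintype.card F = 2 ^ (2 * m + 1)) (hm : 1 ≤ m)
    (E : Subgroup (Cfsg.Sz F m)) (hE : Nat.card E = Fintype.card F) (hE2 : ∀ x ∈ E, x ^ 2 = 1) :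
    ∃ c : Cfsg.Sz F m, E = cj(c, flzZ hF) := by
  have hp : IsPGroup 2 E := IsPGroup.of_card (hE.trans hF)
  obtain ⟨Q, hQ⟩ := hp.exists_le_sylow
  obtain ⟨c, rfl⟩ := MulAction.exists_smul_eq (Cfsg.Sz F m) (Helper60.UoSylow hF hm) Q
  refine ⟨c, ?_⟩
  apply Subgroup.eq_of_le_of_card_ge
  · intro x hx
    rw [mem_cj]
    have h1 := hQ hx
    rw [Sylow.coe_subgroup_smul, Helper60.mem_conj_smul_iff, Helper60.coe_UoSylow] at h1
    apply flz_of_invol hF hm (Helper60.Uo_le_Bo hF h1)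
    have h2 := hE2 x hx
    calc c⁻¹ * x * c * (c⁻¹ * x * c) = c⁻¹ * (x ^ 2) * c := by rw [pow_two]; group
      _ = 1 := by rw [h2]; group
  · rw [card_cj, flz_card, hE]

/-- the certificates for the ovoid model -/
theorem certs_sz_ovoid (hF : Fintype.card F = 2 ^ (2 * m + 1)) (hm : 1 ≤ m)
    (E : Subgroup (Cfsg.Sz F m)) (hE : Nat.card E = Fintype.card F) (hE2 : ∀ x ∈ E, x ^ 2 = 1) :
    RootCert 2 E ∧ BorelCert 2 E := by
  obtain ⟨c, rfl⟩ := flz_exists_conj hF hm E hE hE2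
  exact ⟨(rootCert_flzZ hF hm).map (MulAut.conj c), (borelCert_flzZ hF hm).map (MulAut.conj c)⟩

end flsz

section fltransport

variable {Q Q' : Type*} [Group Q] [Group Q']

theorem fl_map_symm_map (φ : Q ≃* Q') (E : Subgroup Q) :
    (E.map φ.toMonoidHom).map φ.symm.toMonoidHom = E := by
  ext x
  constructor
  · rintro ⟨_, ⟨y, hy, rfl⟩, rfl⟩
    simpa using hy
  · intro hx
    exact ⟨φ x, ⟨x, hx, rfl⟩, by simp⟩

theorem rootCert_of_map {p : ℕ} (φ : Q ≃* Q') {E : Subgroup Q}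
    (h : RootCert p (E.map φ.toMonoidHom)) : RootCert p E := by
  have := h.map φ.symm
  rwa [fl_map_symm_map] at this

theorem borelCert_of_map {p : ℕ} (φ : Q ≃* Q') {E : Subgroup Q}
    (h : BorelCert p (E.map φ.toMonoidHom)) : BorelCert p E := by
  have := h.map φ.symm
  rwa [fl_map_symm_map] at this

/-- in a group of order `20`, a subgroup of order `2` whose proper overgroups all normalize it
is normal -/
theorem fl_card20 (hQ : Nat.card Q = 20) (E : Subgroup Q) (hE : Nat.card E = 2)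
    (h3 : ∀ X : Subgroup Q, E ≤ X → X ≠ ⊤ → X ≤ Subgroup.normalizer (E : Set Q)) :
    Subgroup.normalizer (E : Set Q) = ⊤ := by
  haveI : Finite Q := Nat.finite_of_card_ne_zero (by rw [hQ]; norm_num)
  haveI : Fact (Nat.Prime 5) := ⟨by norm_num⟩
  have hE2 : IsPGroup 2 E := IsPGroup.of_card (n := 1) (by rw [hE]; norm_num)
  obtain ⟨P, hP⟩ := hE2.exists_le_sylow
  have hPtop : (P : Subgroup Q) ≠ ⊤ := by
    intro h
    have h1 : IsPGroup 2 Q := by
      have h2 := P.isPGroup'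
      rw [h] at h2
      exact IsPGroup.of_equiv h2 Subgroup.topEquiv
    obtain ⟨k, hk⟩ := IsPGroup.iff_card.mp h1
    have h5 : 5 ∣ 2 ^ k := by rw [← hk, hQ]; norm_num
    have h6 := Nat.Prime.dvd_of_dvd_pow (by norm_num : Nat.Prime 5) h5
    norm_num at h6
  have hPN := h3 P hP hPtop
  obtain ⟨R⟩ : Nonempty (Sylow 5 Q) := inferInstance
  have hRidx : ¬ 5 ∣ (R : Subgroup Q).index := Sylow.not_dvd_index R
  obtain ⟨n, hn⟩ := IsPGroup.iff_card.mp R.isPGroup'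
  have hcm : Nat.card R * (R : Subgroup Q).index = 20 := by rw [Subgroup.card_mul_index, hQ]
  have hidx4 : (R : Subgroup Q).index ∣ 4 := by
    have h1 : (R : Subgroup Q).index ∣ 4 * 5 := ⟨Nat.card R, by rw [mul_comm (R : Subgroup Q).index, hcm]⟩
    have h2 : Nat.Coprime (R : Subgroup Q).index 5 :=
      Nat.Coprime.symm ((Nat.Prime.coprime_iff_not_dvd (by norm_num)).mpr hRidx)
    exact h2.dvd_of_dvd_mul_right h1
  have hn5 : Nat.card (Sylow 5 Q) = 1 := by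
    have h1 := card_sylow_modEq_one 5 Q
    have h2 : Nat.card (Sylow 5 Q) ∣ 4 := (Sylow.card_dvd_index R).trans hidx4
    have h3 : Nat.card (Sylow 5 Q) ≤ 4 := Nat.le_of_dvd (by norm_num) h2
    unfold Nat.ModEq at h1
    omega
  have : Subsingleton (Sylow 5 Q) := (Nat.card_eq_one_iff_unique.mp hn5).1
  have hRn : (R : Subgroup Q).Normal := Sylow.normal_of_subsingleton R
  have hER : E ⊔ (R : Subgroup Q) ≠ ⊤ := by
    intro h
    have h1 := card_mul_relIndex (le_sup_right : (R : Subgroup Q) ≤ E ⊔ R)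
    rw [Subgroup.relIndex_sup_right, h, Subgroup.card_top, hQ, hn] at h1
    have h2 : (R : Subgroup Q).relIndex E ∣ 2 := hE ▸ Subgroup.relIndex_dvd_card _ _
    have h3 : (4 : ℕ) ∣ 5 ^ n * (R : Subgroup Q).relIndex E := by rw [h1]; norm_num
    have h4 : (4 : ℕ) ∣ (R : Subgroup Q).relIndex E :=
      (Nat.Coprime.pow_right n (by norm_num : Nat.Coprime 4 5)).dvd_of_dvd_mul_left h3
    have h5 := Nat.le_of_dvd (by norm_num) h2
    have h6 := Nat.le_of_dvd (Nat.pos_of_dvd_of_pos h2 (by norm_num)) h4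
    omega
  have hRN : (R : Subgroup Q) ≤ Subgroup.normalizer (E : Set Q) :=
    le_sup_right.trans (h3 _ le_sup_left hER)
  rw [← Subgroup.index_eq_one]
  have hi2 : ¬ 2 ∣ (Subgroup.normalizer (E : Set Q)).index :=
    fun h => (Sylow.not_dvd_index P) (h.trans (Subgroup.index_dvd_of_le hPN))
  have hi5 : ¬ 5 ∣ (Subgroup.normalizer (E : Set Q)).index :=
    fun h => hRidx (h.trans (Subgroup.index_dvd_of_le hRN))
  have hd : (Subgroup.normalizer (E : Set Q)).index ∣ 20 := hQ ▸ Subgroup.index_dvd_card _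
  have hle := Nat.le_of_dvd (by norm_num) hd
  have hpos : 0 < (Subgroup.normalizer (E : Set Q)).index :=
    Nat.pos_of_dvd_of_pos hd (by norm_num)
  obtain ⟨d, hd'⟩ : ∃ d, d = (Subgroup.normalizer (E : Set Q)).index := ⟨_, rfl⟩
  rw [← hd'] at hi2 hi5 hd hle hpos ⊢
  interval_cases d <;> omega

end fltransport

section flszmain

/-- the certificates for the Suzuki groups in the model used in the definitions -/
theorem certs_sz {F : Type*} [Field F] [Fintype F] {m : ℕ}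
    (hF : Fintype.card F = 2 ^ (2 * m + 1)) (E : Subgroup ↥(Cfsg.Lie.Sz F (2 ^ (m + 1))))
    (hE : Nat.card E = Fintype.card F) (hE2 : ∀ x ∈ E, x ^ 2 = 1)
    (h3 : ∀ X : Subgroup ↥(Cfsg.Lie.Sz F (2 ^ (m + 1))), E ≤ X → X ≠ ⊤ →
      X ≤ Subgroup.normalizer (E : Set ↥(Cfsg.Lie.Sz F (2 ^ (m + 1)))))
    (h4 : Subgroup.normalizer (E : Set ↥(Cfsg.Lie.Sz F (2 ^ (m + 1)))) ≠ ⊤) :
    RootCert 2 E ∧ BorelCert 2 E := by
  haveI := Helper6.sz_charP hF
  rcases Nat.eq_zero_or_pos m with hm | hm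
  · subst hm
    exfalso
    apply h4
    haveI := Helper60.szField_of_card hF
    have hcard : Nat.card ↥(Cfsg.Lie.Sz F (2 ^ (0 + 1))) = 20 := by
      rw [Helper60.card_Sz, hF]
      norm_num
    exact fl_card20 hcard E (by rw [hE, hF]; norm_num) h3
  · obtain ⟨φ, -⟩ : ∃ φ : ↥(Cfsg.Lie.Sz F (2 ^ (m + 1))) ≃* ↥(Cfsg.Sz F m), True :=
      ⟨Helper60.szBridge hm hF, trivial⟩
    have h := certs_sz_ovoid hF hm (E.map φ.toMonoidHom)
      (by rw [Subgroup.card_map_of_injective φ.injective, hE])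
      (by
        rintro _ ⟨x, hx, rfl⟩
        show φ x ^ 2 = 1
        rw [← map_pow, hE2 x hx, map_one])
    exact ⟨rootCert_of_map φ h.1, borelCert_of_map φ h.2⟩

end flszmain

end Cfsg.Agent.Helper47
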