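import Cfsg.Agent.Helper47.FL3
import Cfsg.Agent.Helper47.FL4
import Cfsg.Agent.Helper47.FL5
import Cfsg.Agent.Helper47.EA

set_option autoImplicit false

namespace Cfsg.Agent.Helper47

open scoped commutatorElement Pointwise

local notation "cj(" g "," Q ")" => Subgroup.map (MulEquiv.toMonoidHom (MulAut.conj g)) Q

section flgeneric

variable {Q Q' : Type*} [Group Q] [Group Q']

theorem fl_max_map (φ : Q ≃* Q') {E : Subgroup Q}
    (h3 : ∀ X : Subgroup Q, E ≤ X → X ≠ ⊤ → X ≤ Subgroup.normalizer (E : Set Q)) :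
    ∀ X' : Subgroup Q', E.map φ.toMonoidHom ≤ X' → X' ≠ ⊤ →
      X' ≤ Subgroup.normalizer ((E.map φ.toMonoidHom : Subgroup Q') : Set Q') := by
  intro X' h1 h2
  have h4 : E ≤ X'.comap φ.toMonoidHom := Subgroup.map_le_iff_le_comap.mp h1
  have h5 : X'.comap φ.toMonoidHom ≠ ⊤ := by
    intro h
    apply h2
    rw [eq_top_iff]
    intro x _
    obtain ⟨y, rfl⟩ := φ.surjective x
    have : y ∈ X'.comap φ.toMonoidHom := by rw [h]; trivial
    exact this
  have h6 := h3 _ h4 h5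
  intro x hx
  obtain ⟨y, rfl⟩ := φ.surjective x
  rw [← Subgroup.map_equiv_normalizer_eq]
  exact ⟨y, h6 hx, rfl⟩

theorem fl_normalizer_map_ne_top (φ : Q ≃* Q') {E : Subgroup Q}
    (h4 : Subgroup.normalizer (E : Set Q) ≠ ⊤) :
    Subgroup.normalizer ((E.map φ.toMonoidHom : Subgroup Q') : Set Q') ≠ ⊤ := by
  intro h
  apply h4
  rw [← Subgroup.map_equiv_normalizer_eq] at h
  rw [eq_top_iff]
  intro x _
  have hx : φ x ∈ (Subgroup.normalizer (E : Set Q)).map φ.toMonoidHom := by rw [h]; trivial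
  obtain ⟨y, hy, hyx⟩ := hx
  have e : y = x := φ.injective hyx
  rw [← e]
  exact hy

theorem fl_card_map_mk (Y A : Subgroup Q) [A.Normal] :
    Nat.card (Y.map (QuotientGroup.mk' A)) = (Y ⊓ A).relIndex Y := by
  have h1 : ((QuotientGroup.mk' A).comp Y.subtype).range = Y.map (QuotientGroup.mk' A) := by
    rw [MonoidHom.range_comp, Subgroup.range_subtype]
  have h2 : ((QuotientGroup.mk' A).comp Y.subtype).ker = A.subgroupOf Y := by
    rw [← MonoidHom.comap_ker, QuotientGroup.ker_mk']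
    rfl
  rw [← h1, ← Subgroup.index_ker, h2, Subgroup.inf_relIndex_left]
  rfl

theorem fl_charP_of_card {F : Type*} [Field F] [Fintype F] {p k : ℕ} [Fact p.Prime] (hk : k ≠ 0)
    (h : Fintype.card F = p ^ k) : CharP F p := by
  obtain ⟨q, hq⟩ := CharP.exists F
  haveI := hq
  obtain ⟨n, hn, hcard⟩ := FiniteField.card F q
  have h1 : p ∣ q ^ (n : ℕ) := by
    rw [← hcard, h]
    exact dvd_pow_self p hk
  have h2 : p ∣ q := (Fact.out : p.Prime).dvd_of_dvd_pow h1
  have h3 : p = q := (Nat.prime_dvd_prime_iff_eq Fact.out hn).mp h2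
  rw [h3]
  exact hq

end flgeneric

section flhyp

variable {H : Type*} [Group H]

/-- the `𝔏`-hypotheses on the pair `(H, Y)`, where `H` plays the role of `L` -/
structure FLHyp (p : ℕ) (Y : Subgroup H) : Prop where
  comm : ∀ x ∈ Y, ∀ y ∈ Y, x * y = y * x
  exp : ∀ x ∈ Y, x ^ p = 1
  gen : Cfsg.pCore p H = Subgroup.normalClosure ((Y ⊓ Cfsg.pCore p H : Subgroup H) : Set H)
  AY : Cfsg.pCore p H ≤ Subgroup.normalizer (Y : Set H)
  ncl : Subgroup.normalClosure (Y : Set H) = ⊤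
  max1 : Subgroup.normalizer (Y : Set H) ≠ ⊤
  max2 : ∀ X : Subgroup H, Y ≤ X → X ≠ ⊤ → X ≤ Subgroup.normalizer (Y : Set H)

variable {p : ℕ} {Y : Subgroup H}

theorem FLHyp.top_of_normal (hH : FLHyp p Y) {W : Subgroup H} (hW : W.Normal) (hYW : Y ≤ W) :
    W = ⊤ := by
  haveI := hW
  have h := Subgroup.normalClosure_le_normal (N := W) (s := (Y : Set H)) hYW
  rw [hH.ncl] at h
  exact top_le_iff.mp h

theorem FLHyp.isPGroup (hH : FLHyp p Y) : IsPGroup p ↥Y :=
  isPGroup_of_pow (fun c hc => ⟨1, by rw [pow_one]; exact hH.exp c hc⟩)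

theorem FLHyp.sup_ne_top (hH : FLHyp p Y) [Fact p.Prime] [Finite H] :
    Y ⊔ Cfsg.pCore p H ≠ ⊤ := by
  intro h
  have h1 : IsPGroup p ↥(Y ⊔ Cfsg.pCore p H) :=
    IsPGroup.to_sup_of_normal_right hH.isPGroup (pCore_isPGroup p H)
  rw [h] at h1
  have h2 : (⊤ : Subgroup H) ≤ Cfsg.pCore p H := le_pCore inferInstance h1
  exact hH.max1 (top_le_iff.mp (h2.trans hH.AY))

theorem FLHyp.flData (hH : FLHyp p Y) [Fact p.Prime] [Finite H] :
    FLData Y (Cfsg.pCore p H) where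
  ab := hH.comm
  AY := hH.AY
  gen := by
    intro W hW h
    haveI := hW
    exact hH.gen.le.trans (Subgroup.normalClosure_le_normal h)
  pair := by
    intro g hg
    by_contra hX
    have h1 : Y ⊔ cj(g, Y) ≤ Subgroup.normalizer (Y : Set H) := hH.max2 _ le_sup_left hX
    have h2 : Y ≤ cj(g⁻¹, Subgroup.normalizer (Y : Set H)) :=
      cj_le_iff.mp (le_sup_right.trans h1)
    have h3 : cj(g⁻¹, Subgroup.normalizer (Y : Set H)) ≠ ⊤ := by
      intro h
      apply hH.max1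
      have h' := fl_cj_cj_inv g (Subgroup.normalizer (Y : Set H))
      rw [h, fl_cj_top] at h'
      exact h'.symm
    have h4 : cj(g⁻¹, Subgroup.normalizer (Y : Set H)) = Subgroup.normalizer (Y : Set H) :=
      cj_eq_of_le (hH.max2 _ h2 h3)
    have h5 : g⁻¹ ∈ Subgroup.normalizer
        ((Subgroup.normalizer (Y : Set H) : Subgroup H) : Set H) := cj_eq_self_iff.mp h4
    have h6 : g ∈ Subgroup.normalizer
        ((Subgroup.normalizer (Y : Set H) : Subgroup H) : Set H) := by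
      have h' := Subgroup.inv_mem _ h5
      rwa [inv_inv] at h'
    by_cases h7 : Subgroup.normalizer
        ((Subgroup.normalizer (Y : Set H) : Subgroup H) : Set H) = ⊤
    · have h8 : (Subgroup.normalizer (Y : Set H)).Normal := Subgroup.normalizer_eq_top_iff.mp h7
      exact hH.max1 (hH.top_of_normal h8 Subgroup.le_normalizer)
    · have h8 := hH.max2 _ (Subgroup.le_normalizer.trans Subgroup.le_normalizer) h7
      exact hg (cj_eq_self_iff.mpr (h8 h6))
  CA := by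
    apply le_pCore
    · constructor
      intro n hn g
      have h := Subgroup.mem_center_iff.mp hn.2 g
      have e : g * n * g⁻¹ = n := by rw [h]; group
      rw [e]
      exact hn
    · exact isPGroup_of_pow (fun c hc => ⟨1, by rw [pow_one]; exact hH.exp c hc.1⟩)
  ne := hH.sup_ne_top

theorem FLHyp.map_exp (hH : FLHyp p Y) :
    ∀ x ∈ Y.map (QuotientGroup.mk' (Cfsg.pCore p H)), x ^ p = 1 := by
  rintro _ ⟨y, hy, rfl⟩
  rw [← map_pow, hH.exp y hy, map_one]

theorem FLHyp.map_comm (hH : FLHyp p Y) :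
    ∀ x ∈ Y.map (QuotientGroup.mk' (Cfsg.pCore p H)),
      ∀ y ∈ Y.map (QuotientGroup.mk' (Cfsg.pCore p H)), x * y = y * x := by
  rintro _ ⟨x, hx, rfl⟩ _ ⟨y, hy, rfl⟩
  rw [← map_mul, ← map_mul, hH.comm x hx y hy]

theorem FLHyp.map_max2 (hH : FLHyp p Y) :
    ∀ X : Subgroup (H ⧸ Cfsg.pCore p H), Y.map (QuotientGroup.mk' (Cfsg.pCore p H)) ≤ X →
      X ≠ ⊤ → X ≤ Subgroup.normalizer
        ((Y.map (QuotientGroup.mk' (Cfsg.pCore p H)) : Subgroup (H ⧸ Cfsg.pCore p H)) :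
          Set (H ⧸ Cfsg.pCore p H)) := by
  intro X hX hXtop
  have h1 : Y ≤ X.comap (QuotientGroup.mk' (Cfsg.pCore p H)) :=
    Subgroup.map_le_iff_le_comap.mp hX
  have h2 : X.comap (QuotientGroup.mk' (Cfsg.pCore p H)) ≠ ⊤ := by
    intro h
    apply hXtop
    rw [eq_top_iff]
    intro x _
    obtain ⟨y, rfl⟩ := QuotientGroup.mk'_surjective (Cfsg.pCore p H) x
    have : y ∈ X.comap (QuotientGroup.mk' (Cfsg.pCore p H)) := by rw [h]; trivial
    exact this
  have h3 := hH.max2 _ h1 h2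
  intro x hx
  obtain ⟨y, rfl⟩ := QuotientGroup.mk'_surjective (Cfsg.pCore p H) x
  exact Subgroup.le_normalizer_map _ ⟨y, h3 hx, rfl⟩

theorem FLHyp.map_max1 (hH : FLHyp p Y) [Fact p.Prime] [Finite H] :
    Subgroup.normalizer
      ((Y.map (QuotientGroup.mk' (Cfsg.pCore p H)) : Subgroup (H ⧸ Cfsg.pCore p H)) :
        Set (H ⧸ Cfsg.pCore p H)) ≠ ⊤ := by
  intro h
  have h1 : (Y.map (QuotientGroup.mk' (Cfsg.pCore p H))).Normal :=
    Subgroup.normalizer_eq_top_iff.mp h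
  have h2 : ((Y.map (QuotientGroup.mk' (Cfsg.pCore p H))).comap
      (QuotientGroup.mk' (Cfsg.pCore p H))).Normal := h1.comap _
  have h3 := hH.top_of_normal h2 (Subgroup.le_comap_map _ _)
  rw [QuotientGroup.comap_map_mk'] at h3
  exact hH.sup_ne_top (by rw [sup_comm]; exact h3)

theorem FLHyp.map_ne_bot (hH : FLHyp p Y) [Fact p.Prime] [Finite H] :
    Y.map (QuotientGroup.mk' (Cfsg.pCore p H)) ≠ ⊥ := by
  intro h
  have h1 : Y ≤ Cfsg.pCore p H := by
    intro y hy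
    have h' : QuotientGroup.mk' (Cfsg.pCore p H) y ∈
        Y.map (QuotientGroup.mk' (Cfsg.pCore p H)) := ⟨y, hy, rfl⟩
    rw [h, Subgroup.mem_bot] at h'
    exact (QuotientGroup.eq_one_iff y).mp h'
  have h2 := hH.top_of_normal inferInstance h1
  apply hH.sup_ne_top
  rw [h2]
  exact sup_top_eq _

theorem FLHyp.normalizer_map (hH : FLHyp p Y) [Fact p.Prime] [Finite H] :
    Subgroup.normalizer
      ((Y.map (QuotientGroup.mk' (Cfsg.pCore p H)) : Subgroup (H ⧸ Cfsg.pCore p H)) :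
        Set (H ⧸ Cfsg.pCore p H)) =
      (Subgroup.normalizer (Y : Set H)).map (QuotientGroup.mk' (Cfsg.pCore p H)) := by
  apply le_antisymm
  · intro x hx
    obtain ⟨y, rfl⟩ := QuotientGroup.mk'_surjective (Cfsg.pCore p H) x
    have h1 : Y ≤ (Subgroup.normalizer
        ((Y.map (QuotientGroup.mk' (Cfsg.pCore p H)) : Subgroup (H ⧸ Cfsg.pCore p H)) :
          Set (H ⧸ Cfsg.pCore p H))).comap (QuotientGroup.mk' (Cfsg.pCore p H)) := by
      intro z hz
      exact Subgroup.le_normalizer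
        (⟨z, hz, rfl⟩ : QuotientGroup.mk' (Cfsg.pCore p H) z ∈
          Y.map (QuotientGroup.mk' (Cfsg.pCore p H)))
    have h2 : (Subgroup.normalizer
        ((Y.map (QuotientGroup.mk' (Cfsg.pCore p H)) : Subgroup (H ⧸ Cfsg.pCore p H)) :
          Set (H ⧸ Cfsg.pCore p H))).comap (QuotientGroup.mk' (Cfsg.pCore p H)) ≠ ⊤ := by
      intro h
      apply hH.map_max1
      rw [eq_top_iff]
      intro x _
      obtain ⟨z, rfl⟩ := QuotientGroup.mk'_surjective (Cfsg.pCore p H) x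
      have h' : z ∈ (Subgroup.normalizer
          ((Y.map (QuotientGroup.mk' (Cfsg.pCore p H)) : Subgroup (H ⧸ Cfsg.pCore p H)) :
            Set (H ⧸ Cfsg.pCore p H))).comap (QuotientGroup.mk' (Cfsg.pCore p H)) := by
        rw [h]; trivial
      exact h'
    exact ⟨y, hH.max2 _ h1 h2 hx, rfl⟩
  · exact Subgroup.le_normalizer_map _

/-- the two certificates on the image of `Y` in `H / O_p(H)` -/
theorem FLHyp.certs (hH : FLHyp p Y) [Fact p.Prime] [Finite H]
    (hq : (∃ (F : Type) (_ : Field F) (_ : Fintype F),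
        Fintype.card F = (Y ⊓ Cfsg.pCore p H).relIndex Y ∧
          Nonempty (H ⧸ Cfsg.pCore p H ≃* Matrix.SpecialLinearGroup (Fin 2) F)) ∨
      (p = 2 ∧ ∃ (F : Type) (_ : Field F) (_ : Fintype F) (m : ℕ),
        Fintype.card F = 2 ^ (2 * m + 1) ∧
          Fintype.card F = (Y ⊓ Cfsg.pCore p H).relIndex Y ∧
            Nonempty (H ⧸ Cfsg.pCore p H ≃* ↥(Cfsg.Lie.Sz F (2 ^ (m + 1))))) ∨
      (p = 2 ∧ ∃ r : ℕ, r.Prime ∧ r ≠ 2 ∧
        Nonempty (H ⧸ Cfsg.pCore p H ≃* DihedralGroup r))) :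
    RootCert p (Y.map (QuotientGroup.mk' (Cfsg.pCore p H))) ∧
      BorelCert p (Y.map (QuotientGroup.mk' (Cfsg.pCore p H))) := by
  rcases hq with ⟨F, _, _, hcard, ⟨φ⟩⟩ | ⟨rfl, F, _, _, m, hF, hcard, ⟨φ⟩⟩ |
    ⟨rfl, r, hr, hr2, ⟨φ⟩⟩
  · have hcE : Nat.card (Y.map (QuotientGroup.mk' (Cfsg.pCore p H))) = Fintype.card F := by
      rw [fl_card_map_mk, hcard]
    have hp : IsPGroup p ↥(Y.map (QuotientGroup.mk' (Cfsg.pCore p H))) :=
      isPGroup_of_pow (fun c hc => ⟨1, by rw [pow_one]; exact hH.map_exp c hc⟩)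
    obtain ⟨k, hk⟩ := IsPGroup.iff_card.mp hp
    have hk0 : k ≠ 0 := by
      rintro rfl
      rw [pow_zero] at hk
      exact hH.map_ne_bot (Subgroup.eq_bot_of_card_eq _ hk)
    haveI : CharP F p := fl_charP_of_card hk0 (by rw [← hcE, hk])
    have h := certs_sl2 (p := p)
      ((Y.map (QuotientGroup.mk' (Cfsg.pCore p H))).map φ.toMonoidHom)
      (by rw [Subgroup.card_map_of_injective φ.injective, hcE, Nat.card_eq_fintype_card])
    exact ⟨rootCert_of_map φ h.1, borelCert_of_map φ h.2⟩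
  · have h := certs_sz hF
      ((Y.map (QuotientGroup.mk' (Cfsg.pCore 2 H))).map φ.toMonoidHom)
      (by rw [Subgroup.card_map_of_injective φ.injective, fl_card_map_mk, hcard])
      (by
        rintro _ ⟨x, hx, rfl⟩
        show φ x ^ 2 = 1
        rw [← map_pow, hH.map_exp x hx, map_one])
      (fl_max_map φ hH.map_max2) (fl_normalizer_map_ne_top φ hH.map_max1)
    exact ⟨rootCert_of_map φ h.1, borelCert_of_map φ h.2⟩
  · have hE1 : (Y.map (QuotientGroup.mk' (Cfsg.pCore 2 H))).map φ.toMonoidHom ≠ ⊥ := by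
      intro h
      exact hH.map_ne_bot ((Subgroup.map_eq_bot_iff_of_injective _ φ.injective).mp h)
    have hE2 : ∀ x ∈ (Y.map (QuotientGroup.mk' (Cfsg.pCore 2 H))).map φ.toMonoidHom,
        x ^ 2 = 1 := by
      rintro _ ⟨x, hx, rfl⟩
      show φ x ^ 2 = 1
      rw [← map_pow, hH.map_exp x hx, map_one]
    have hEab : ∀ x ∈ (Y.map (QuotientGroup.mk' (Cfsg.pCore 2 H))).map φ.toMonoidHom,
        ∀ y ∈ (Y.map (QuotientGroup.mk' (Cfsg.pCore 2 H))).map φ.toMonoidHom,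
          x * y = y * x := by
      rintro _ ⟨x, hx, rfl⟩ _ ⟨y, hy, rfl⟩
      show φ x * φ y = φ y * φ x
      rw [← map_mul, ← map_mul, hH.map_comm x hx y hy]
    exact ⟨rootCert_of_map φ (rootCert_dihedral hr hr2 hE1 hE2 hEab),
      borelCert_of_map φ (borelCert_dihedral hr hr2 hE1 hE2 hEab)⟩

end flhyp

section fltranslate

variable {G : Type*} [Group G] {p : ℕ} {M L : Subgroup G}

theorem fl_inf_subgroupOf (Y L : Subgroup G) :
    (Y ⊓ Cfsg.pCoreOf p L).subgroupOf L = Y.subgroupOf L ⊓ Cfsg.pCore p ↥L := by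
  ext x
  simp only [Subgroup.mem_subgroupOf, Subgroup.mem_inf]
  constructor
  · rintro ⟨h1, ⟨y, hy, hyx⟩⟩
    have e : y = x := Subtype.ext hyx
    exact ⟨h1, e ▸ hy⟩
  · rintro ⟨h1, h2⟩
    exact ⟨h1, ⟨x, h2, rfl⟩⟩

theorem flHyp_of_isInFrakL [Finite G] [Fact p.Prime] (hL : Cfsg.IsInFrakL p M L) :
    FLHyp p ((Cfsg.largestPReducedOf p M).subgroupOf L) := by
  obtain ⟨hYL, hgen, hAY, ⟨hncl, -⟩, -, ⟨hmax1, hmax2⟩, -⟩ := hL
  have hea := largestPReducedOf_isElementaryAbelian (p := p) M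
  have hnorm := Subgroup.subgroupOf_normalizer_eq hYL
  refine ⟨?_, ?_, ?_, ?_, hncl, ?_, ?_⟩
  · intro x hx y hy
    apply Subtype.ext
    exact IsElementaryAbelian_comm hea hx hy
  · intro x hx
    apply Subtype.ext
    have h := hea.2 (x : G) hx
    simpa using h
  · rw [fl_inf_subgroupOf] at hgen
    exact Subgroup.map_injective L.subtype_injective hgen
  · intro a ha
    rw [← hnorm, Subgroup.mem_subgroupOf]
    exact hAY ⟨a, ha, rfl⟩
  · intro h
    rw [← hnorm, Subgroup.subgroupOf_eq_top] at h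
    exact hmax1.ne (inf_eq_left.mpr h)
  · intro X hX hXtop
    have h1 : Cfsg.largestPReducedOf p M ≤ X.map L.subtype := by
      intro y hy
      exact ⟨⟨y, hYL hy⟩, hX hy, rfl⟩
    have h2 : X.map L.subtype < L := by
      refine lt_of_le_of_ne (Subgroup.map_subtype_le X) ?_
      intro h
      apply hXtop
      rw [eq_top_iff]
      intro x _
      have hx : (x : G) ∈ X.map L.subtype := by rw [h]; exact x.2
      obtain ⟨y, hy, hyx⟩ := hx
      have e : y = x := Subtype.ext hyx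
      exact e ▸ hy
    have h3 := hmax2 _ h1 h2
    intro x hx
    rw [← hnorm, Subgroup.mem_subgroupOf]
    exact (h3 ⟨x, hx, rfl⟩).2

theorem flQuot_of_isInFrakL (hL : Cfsg.IsInFrakL p M L) :
    (∃ (F : Type) (_ : Field F) (_ : Fintype F),
        Fintype.card F = ((Cfsg.largestPReducedOf p M).subgroupOf L ⊓
          Cfsg.pCore p ↥L).relIndex ((Cfsg.largestPReducedOf p M).subgroupOf L) ∧
          Nonempty (↥L ⧸ Cfsg.pCore p ↥L ≃* Matrix.SpecialLinearGroup (Fin 2) F)) ∨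
      (p = 2 ∧ ∃ (F : Type) (_ : Field F) (_ : Fintype F) (m : ℕ),
        Fintype.card F = 2 ^ (2 * m + 1) ∧
          Fintype.card F = ((Cfsg.largestPReducedOf p M).subgroupOf L ⊓
            Cfsg.pCore p ↥L).relIndex ((Cfsg.largestPReducedOf p M).subgroupOf L) ∧
            Nonempty (↥L ⧸ Cfsg.pCore p ↥L ≃* ↥(Cfsg.Lie.Sz F (2 ^ (m + 1))))) ∨
      (p = 2 ∧ ∃ r : ℕ, r.Prime ∧ r ≠ 2 ∧
        Nonempty (↥L ⧸ Cfsg.pCore p ↥L ≃* DihedralGroup r)) := by
  have hYL := hL.1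
  have hq := hL.2.2.2.2.2.2
  have e : ((Cfsg.largestPReducedOf p M).subgroupOf L ⊓
      Cfsg.pCore p ↥L).relIndex ((Cfsg.largestPReducedOf p M).subgroupOf L) =
      (Cfsg.largestPReducedOf p M ⊓ Cfsg.pCoreOf p L).relIndex (Cfsg.largestPReducedOf p M) := by
    rw [← fl_inf_subgroupOf, Subgroup.relIndex_subgroupOf hYL]
  rw [e]
  exact hq

/-- elements of `L` whose order is not a power of `p` act fixed-point-freely on
`O_p(L) / C_{Y}(L)` -/
theorem fl_main_of_isInFrakL [Finite G] [Fact p.Prime] (hL : Cfsg.IsInFrakL p M L) {h : G}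
    (hh : h ∈ L) (hnp : ¬ ∃ k : ℕ, orderOf h = p ^ k) :
    ∀ a ∈ Cfsg.pCoreOf p L,
      h * a * h⁻¹ * a⁻¹ ∈ Cfsg.largestPReducedOf p M ⊓ Subgroup.centralizer (L : Set G) →
      a ∈ Cfsg.largestPReducedOf p M ⊓ Subgroup.centralizer (L : Set G) := by
  intro a ha hfix
  have hH := flHyp_of_isInFrakL hL
  have hcert := (hH.certs (flQuot_of_isInFrakL hL)).1
  obtain ⟨a', ha', rfl⟩ := ha
  have hord : ¬ ∃ k : ℕ, orderOf (⟨h, hh⟩ : ↥L) = p ^ k := by
    rwa [Subgroup.orderOf_mk]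
  have hfix' : (⟨h, hh⟩ : ↥L) * a' * (⟨h, hh⟩ : ↥L)⁻¹ * a'⁻¹ ∈
      (Cfsg.largestPReducedOf p M).subgroupOf L ⊓ Subgroup.center ↥L := by
    rw [Subgroup.mem_inf] at hfix ⊢
    refine ⟨hfix.1, ?_⟩
    rw [Subgroup.mem_center_iff]
    intro g
    apply Subtype.ext
    exact Subgroup.mem_centralizer_iff.mp hfix.2 g g.2
  have key := hH.flData.main (pCore_isPGroup p ↥L) hcert hord ha' hfix'
  rw [Subgroup.mem_inf] at key ⊢
  refine ⟨key.1, ?_⟩
  rw [Subgroup.mem_centralizer_iff]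
  intro g hg
  have h5 := Subgroup.mem_center_iff.mp key.2 ⟨g, hg⟩
  exact congrArg Subtype.val h5

end fltranslate

end Cfsg.Agent.Helper47
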