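import Cfsg.Agent.Helper47.FL6

set_option autoImplicit false

namespace Cfsg.Agent.Helper47

open scoped commutatorElement Pointwise

local notation "cj(" g "," Q ")" => Subgroup.map (MulEquiv.toMonoidHom (MulAut.conj g)) Q

section flquot

variable {G : Type*} [Group G] {p : ℕ}

theorem flPsi_ker {NL L : Subgroup G} (h : NL ≤ L) (x : ↥NL) :
    (QuotientGroup.mk' (Cfsg.pCore p ↥L)).comp (Subgroup.inclusion h) x = 1 ↔
      x ∈ (Cfsg.pCoreOf p L).subgroupOf NL := by
  show QuotientGroup.mk' (Cfsg.pCore p ↥L) (Subgroup.inclusion h x) = 1 ↔ _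
  rw [QuotientGroup.mk'_apply, QuotientGroup.eq_one_iff, Subgroup.mem_subgroupOf]
  constructor
  · intro hx
    exact ⟨_, hx, rfl⟩
  · rintro ⟨y, hy, hyx⟩
    have e : y = Subgroup.inclusion h x := Subtype.ext hyx
    exact e ▸ hy

/-- the natural map `NL / (O_p(L) ∩ NL) → L / O_p(L)` -/
noncomputable def flPsi (p : ℕ) {NL L : Subgroup G} (h : NL ≤ L)
    [hn : ((Cfsg.pCoreOf p L).subgroupOf NL).Normal] :
    ↥NL ⧸ (Cfsg.pCoreOf p L).subgroupOf NL →* ↥L ⧸ Cfsg.pCore p ↥L :=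
  QuotientGroup.lift _ ((QuotientGroup.mk' (Cfsg.pCore p ↥L)).comp (Subgroup.inclusion h))
    (fun x hx => MonoidHom.mem_ker.mpr ((flPsi_ker h x).mpr hx))

theorem flPsi_mk {NL L : Subgroup G} (h : NL ≤ L)
    [hn : ((Cfsg.pCoreOf p L).subgroupOf NL).Normal] (x : ↥NL) :
    flPsi p h (QuotientGroup.mk' ((Cfsg.pCoreOf p L).subgroupOf NL) x) =
      QuotientGroup.mk' (Cfsg.pCore p ↥L) (Subgroup.inclusion h x) := rfl

theorem flPsi_injective {NL L : Subgroup G} (h : NL ≤ L)
    [hn : ((Cfsg.pCoreOf p L).subgroupOf NL).Normal] : Function.Injective (flPsi p h) := by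
  rw [injective_iff_map_eq_one]
  intro z hz
  obtain ⟨x, rfl⟩ := QuotientGroup.mk'_surjective _ z
  rw [flPsi_mk] at hz
  exact (QuotientGroup.eq_one_iff x).mpr ((flPsi_ker h x).mp hz)

/-- `Y A / A` is the unique nontrivial elementary abelian normal `p`-subgroup of `N_L(Y) / A` -/
theorem fl_normquot_of_isInFrakL [Finite G] [Fact p.Prime] {M L : Subgroup G}
    (hL : Cfsg.IsInFrakL p M L) (NL : Subgroup G)
    (hNL : NL = L ⊓ Subgroup.normalizer ((Cfsg.largestPReducedOf p M : Subgroup G) : Set G))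
    [hn : ((Cfsg.pCoreOf p L).subgroupOf NL).Normal] :
    ((Cfsg.largestPReducedOf p M).subgroupOf NL).map
        (QuotientGroup.mk' ((Cfsg.pCoreOf p L).subgroupOf NL)) ≠ ⊥ ∧
      (((Cfsg.largestPReducedOf p M).subgroupOf NL).map
        (QuotientGroup.mk' ((Cfsg.pCoreOf p L).subgroupOf NL))).Normal ∧
      Cfsg.IsElementaryAbelian p (((Cfsg.largestPReducedOf p M).subgroupOf NL).map
        (QuotientGroup.mk' ((Cfsg.pCoreOf p L).subgroupOf NL))) ∧
      ∀ V : Subgroup (↥NL ⧸ (Cfsg.pCoreOf p L).subgroupOf NL), V.Normal →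
        Cfsg.IsElementaryAbelian p V → V ≠ ⊥ →
        V = ((Cfsg.largestPReducedOf p M).subgroupOf NL).map
          (QuotientGroup.mk' ((Cfsg.pCoreOf p L).subgroupOf NL)) := by
  have hH := flHyp_of_isInFrakL hL
  have hB := (hH.certs (flQuot_of_isInFrakL hL)).2
  have hYL := hL.1
  have hNLL : NL ≤ L := hNL ▸ inf_le_left
  have hNLN : NL ≤ Subgroup.normalizer ((Cfsg.largestPReducedOf p M : Subgroup G) : Set G) :=
    hNL ▸ inf_le_right
  have hYNL : Cfsg.largestPReducedOf p M ≤ NL := by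
    rw [hNL]
    exact le_inf hYL Subgroup.le_normalizer
  have hea := largestPReducedOf_isElementaryAbelian (p := p) M
  have hnorm := Subgroup.subgroupOf_normalizer_eq hYL
  have hinj := flPsi_injective (p := p) hNLL
  -- the image of the natural map is the normalizer of the image of `Y`
  have hrange1 : ∀ z : ↥NL ⧸ (Cfsg.pCoreOf p L).subgroupOf NL, flPsi p hNLL z ∈
      Subgroup.normalizer ((((Cfsg.largestPReducedOf p M).subgroupOf L).map
        (QuotientGroup.mk' (Cfsg.pCore p ↥L)) : Subgroup (↥L ⧸ Cfsg.pCore p ↥L)) :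
          Set (↥L ⧸ Cfsg.pCore p ↥L)) := by
    intro z
    obtain ⟨x, rfl⟩ := QuotientGroup.mk'_surjective _ z
    rw [flPsi_mk, hH.normalizer_map]
    have hx : Subgroup.inclusion hNLL x ∈ (Subgroup.normalizer
        ((Cfsg.largestPReducedOf p M : Subgroup G) : Set G)).subgroupOf L :=
      Subgroup.mem_subgroupOf.mpr (hNLN x.2)
    rw [hnorm] at hx
    exact ⟨Subgroup.inclusion hNLL x, hx, rfl⟩
  have hrange2 : ∀ n ∈ Subgroup.normalizer ((((Cfsg.largestPReducedOf p M).subgroupOf L).map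
        (QuotientGroup.mk' (Cfsg.pCore p ↥L)) : Subgroup (↥L ⧸ Cfsg.pCore p ↥L)) :
          Set (↥L ⧸ Cfsg.pCore p ↥L)),
      ∃ z : ↥NL ⧸ (Cfsg.pCoreOf p L).subgroupOf NL, flPsi p hNLL z = n := by
    intro n hn'
    rw [hH.normalizer_map] at hn'
    obtain ⟨y, hy, rfl⟩ := hn'
    have hy' : y ∈ (Subgroup.normalizer
        ((Cfsg.largestPReducedOf p M : Subgroup G) : Set G)).subgroupOf L := by
      rw [hnorm]
      exact hy
    have hyNL : (y : G) ∈ NL := by
      rw [hNL]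
      exact ⟨y.2, Subgroup.mem_subgroupOf.mp hy'⟩
    exact ⟨QuotientGroup.mk' _ ⟨(y : G), hyNL⟩, rfl⟩
  have hYmap : (((Cfsg.largestPReducedOf p M).subgroupOf NL).map
        (QuotientGroup.mk' ((Cfsg.pCoreOf p L).subgroupOf NL))).map (flPsi p hNLL) =
      ((Cfsg.largestPReducedOf p M).subgroupOf L).map (QuotientGroup.mk' (Cfsg.pCore p ↥L)) := by
    ext z
    constructor
    · rintro ⟨_, ⟨y, hy, rfl⟩, rfl⟩
      exact ⟨Subgroup.inclusion hNLL y, hy, rfl⟩
    · rintro ⟨y, hy, rfl⟩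
      exact ⟨QuotientGroup.mk' _ ⟨(y : G), hYNL hy⟩, ⟨⟨(y : G), hYNL hy⟩, hy, rfl⟩, rfl⟩
  have heaNL : Cfsg.IsElementaryAbelian p ((Cfsg.largestPReducedOf p M).subgroupOf NL) := by
    refine ⟨isMulCommutative_iff.mpr ?_, ?_⟩
    · intro a b
      apply Subtype.ext
      apply Subtype.ext
      exact IsElementaryAbelian_comm hea a.2 b.2
    · intro a ha
      apply Subtype.ext
      have h := hea.2 (a : G) ha
      simpa using h
  refine ⟨?_, ?_, ?_, ?_⟩
  · intro h
    apply hH.map_ne_bot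
    rw [← hYmap, h, Subgroup.map_bot]
  · have h1 : ((Cfsg.largestPReducedOf p M).subgroupOf NL).Normal :=
      Subgroup.normal_subgroupOf_of_le_normalizer hNLN
    exact h1.map _ (QuotientGroup.mk'_surjective _)
  · exact IsElementaryAbelian_map heaNL _
  · intro V hVn hVea hV1
    apply Subgroup.map_injective hinj
    rw [hYmap]
    apply hB
    · rintro _ ⟨z, -, rfl⟩
      exact hrange1 z
    · intro n hn'
      obtain ⟨m, rfl⟩ := hrange2 n hn'
      apply cj_eq_self_iff.mp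
      apply cj_eq_of_le
      intro x hx
      rw [mem_cj] at hx
      obtain ⟨v, hv, hvx⟩ := hx
      refine ⟨m * v * m⁻¹, hVn.conj_mem v hv m, ?_⟩
      rw [map_mul, map_mul, map_inv, hvx]
      group
    · rintro _ ⟨v, hv, rfl⟩
      rw [← map_pow, hVea.2 v hv, map_one]
    · intro h
      exact hV1 ((Subgroup.map_eq_bot_iff_of_injective V hinj).mp h)

end flquot

end Cfsg.Agent.Helper47
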