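import Cfsg.Agent.Helper47.FrakH4
import Cfsg.Agent.Helper22.Bender

set_option autoImplicit false

namespace Cfsg.Agent.Helper47

open scoped commutatorElement Pointwise

local notation "cj(" g "," Q ")" => Subgroup.map (MulEquiv.toMonoidHom (MulAut.conj g)) Q

section fstarred

variable {G : Type*} [Group G] [Finite G] {p : ℕ} [Fact p.Prime]

/-- in a finite group `X` with `O_p(X) = 1`, a `p`-subgroup of `F*(X)` normalized by `F*(X)`
is trivial -/
theorem eq_bot_of_le_fstar_of_pCore_eq_bot {X : Type*} [Group X] [Finite X]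
    (hX : Cfsg.pCore p X = ⊥) {B : Subgroup X} (hB : IsPGroup p ↥B)
    (hBF : B ≤ Cfsg.generalizedFittingSubgroup X)
    (hn : Cfsg.generalizedFittingSubgroup X ≤ Subgroup.normalizer (B : Set X)) : B = ⊥ := by
  have hFn : (Cfsg.generalizedFittingSubgroup X).Normal :=
    Cfsg.Agent.Helper22.generalizedFittingSubgroup_normal X
  have hsn : B.IsSubnormal := Subgroup.IsSubnormal.step B _ hBF hFn.isSubnormal
    ((Subgroup.normal_subgroupOf_iff_le_normalizer hBF).mpr hn)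
  rw [← le_bot_iff, ← hX]
  exact le_pCore_of_isSubnormal hsn hB

/-- in a finite group `X` with `O_p(X) = 1`, a `p`-subgroup centralizing `F*(X)` is trivial -/
theorem eq_bot_of_le_centralizer_fstar_of_pCore_eq_bot {X : Type*} [Group X] [Finite X]
    (hX : Cfsg.pCore p X = ⊥) {A : Subgroup X} (hA : IsPGroup p ↥A)
    (hAF : A ≤ Subgroup.centralizer (Cfsg.generalizedFittingSubgroup X : Set X)) : A = ⊥ := by
  apply eq_bot_of_le_fstar_of_pCore_eq_bot hX hA
    (hAF.trans (Cfsg.Agent.Helper22.centralizer_generalizedFittingSubgroup_le X))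
  intro f hf
  rw [← cj_eq_self_iff]
  apply cj_eq_of_le
  rintro _ ⟨a, ha, rfl⟩
  have h1 := Subgroup.mem_centralizer_iff.mp (hAF ha) f hf
  have h2 : (MulAut.conj f) a = a := by
    rw [MulAut.conj_apply, h1]; group
  show (MulAut.conj f) a ∈ A
  rw [h2]; exact ha

/-- `O_p(L / C_L(V)) = 1` for the `(C_G(V) ∩ L)`-form of the quotient -/
theorem pCore_quotient_subgroupOf_eq_bot_of_PRedIn {L V : Subgroup G} (hV : PRedIn p L V)
    [hn : ((Subgroup.centralizer (V : Set G)).subgroupOf L).Normal] :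
    Cfsg.pCore p (↥L ⧸ (Subgroup.centralizer (V : Set G)).subgroupOf L) = ⊥ := by
  set Cs := (Subgroup.centralizer (V : Set G)).subgroupOf L with hCs
  have hs := QuotientGroup.mk'_surjective Cs
  set K := (Cfsg.pCore p (↥L ⧸ Cs)).comap (QuotientGroup.mk' Cs) with hK
  haveI : K.Normal := Subgroup.Normal.comap inferInstance _
  have hKC : K.map L.subtype ≤ Subgroup.centralizer (V : Set G) := by
    apply hV.2.2.2 _ (Subgroup.map_subtype_le K) (le_normalizer_map_subtype_of_normal L K)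
    rintro _ ⟨x, hx, rfl⟩
    obtain ⟨k, hk⟩ := mem_pCore_pow (Subgroup.mem_comap.mp hx)
    refine ⟨k, ?_⟩
    have h1 : x ^ (p ^ k) ∈ Cs := by
      rw [← map_pow] at hk
      exact (QuotientGroup.eq_one_iff _).mp hk
    exact Subgroup.mem_subgroupOf.mp h1
  rw [eq_bot_iff, ← Subgroup.map_comap_eq_self_of_surjective hs (Cfsg.pCore p (↥L ⧸ Cs)), ← hK]
  rintro _ ⟨x, hx, rfl⟩
  rw [Subgroup.mem_bot]
  exact (QuotientGroup.eq_one_iff x).mpr (Subgroup.mem_subgroupOf.mpr (hKC ⟨x, hx, rfl⟩))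

/-- normal `p`-sections of the preimage `F` of `F*(Md / C)` lie in `C` -/
theorem le_of_le_fstar_preimage {Md CY F : Subgroup G} [hn : (CY.subgroupOf Md).Normal]
    (hred : Cfsg.pCore p (↥Md ⧸ CY.subgroupOf Md) = ⊥)
    (hF : F = ((Cfsg.generalizedFittingSubgroup (↥Md ⧸ CY.subgroupOf Md)).comap
      (QuotientGroup.mk' (CY.subgroupOf Md))).map Md.subtype)
    {E : Subgroup G} (hEF : E ≤ F) (hFE : F ≤ Subgroup.normalizer (E : Set G))
    (hpow : ∀ e ∈ E, ∃ k : ℕ, e ^ (p ^ k) ∈ CY) : E ≤ CY := by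
  set Cs := CY.subgroupOf Md with hCs
  set φ := QuotientGroup.mk' Cs with hφ
  have hs : Function.Surjective φ := QuotientGroup.mk'_surjective Cs
  set Fb := Cfsg.generalizedFittingSubgroup (↥Md ⧸ Cs) with hFb
  have hFMd : F ≤ Md := by rw [hF]; exact Subgroup.map_subtype_le _
  have hmemF : ∀ x : ↥Md, (x : G) ∈ F → φ x ∈ Fb := by
    intro x hx
    rw [hF] at hx
    obtain ⟨y, hy, hyx⟩ := hx
    have : y = x := Subtype.ext hyx
    rw [← this]; exact Subgroup.mem_comap.mp hy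
  have hFmem : ∀ x : ↥Md, φ x ∈ Fb → (x : G) ∈ F := by
    intro x hx
    rw [hF]
    exact ⟨x, Subgroup.mem_comap.mpr hx, rfl⟩
  set B := (E.subgroupOf Md).map φ with hB
  have hBp : IsPGroup p ↥B := by
    apply isPGroup_of_pow
    rintro _ ⟨x, hx, rfl⟩
    obtain ⟨k, hk⟩ := hpow (x : G) (Subgroup.mem_subgroupOf.mp hx)
    refine ⟨k, ?_⟩
    rw [← map_pow]
    exact (QuotientGroup.eq_one_iff _).mpr (Subgroup.mem_subgroupOf.mpr (by simpa using hk))
  have hBF : B ≤ Fb := by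
    rintro _ ⟨x, hx, rfl⟩
    exact hmemF x (hEF (Subgroup.mem_subgroupOf.mp hx))
  have hBn : Fb ≤ Subgroup.normalizer (B : Set (↥Md ⧸ Cs)) := by
    intro fb hfb
    obtain ⟨f, rfl⟩ := hs fb
    have hfF : (f : G) ∈ F := hFmem f hfb
    rw [← cj_eq_self_iff]
    apply cj_eq_of_le
    rintro _ ⟨_, ⟨x, hx, rfl⟩, rfl⟩
    refine ⟨f * x * f⁻¹, ?_, ?_⟩
    · have h1 := (Subgroup.mem_normalizer_iff.mp (hFE hfF) (x : G)).mp (Subgroup.mem_subgroupOf.mp hx)
      exact Subgroup.mem_subgroupOf.mpr h1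
    · simp [MulAut.conj_apply]
  have hBbot := eq_bot_of_le_fstar_of_pCore_eq_bot hred hBp hBF hBn
  intro e he
  have heMd : e ∈ Md := hFMd (hEF he)
  have h1 : φ ⟨e, heMd⟩ ∈ B := ⟨⟨e, heMd⟩, Subgroup.mem_subgroupOf.mpr he, rfl⟩
  rw [hBbot, Subgroup.mem_bot] at h1
  exact Subgroup.mem_subgroupOf.mp ((QuotientGroup.eq_one_iff _).mp h1)

/-- a `p`-subgroup of `Md` centralizing the preimage `F` of `F*(Md / C)` modulo `C` lies
in `C` -/
theorem le_of_commutator_fstar_preimage_le {Md CY F : Subgroup G} [hn : (CY.subgroupOf Md).Normal]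
    (hred : Cfsg.pCore p (↥Md ⧸ CY.subgroupOf Md) = ⊥)
    (hF : F = ((Cfsg.generalizedFittingSubgroup (↥Md ⧸ CY.subgroupOf Md)).comap
      (QuotientGroup.mk' (CY.subgroupOf Md))).map Md.subtype)
    {A : Subgroup G} (hAMd : A ≤ Md) (hAp : IsPGroup p ↥A) (hFA : ⁅F, A⁆ ≤ CY) : A ≤ CY := by
  set Cs := CY.subgroupOf Md with hCs
  set φ := QuotientGroup.mk' Cs with hφ
  have hs : Function.Surjective φ := QuotientGroup.mk'_surjective Cs
  set Fb := Cfsg.generalizedFittingSubgroup (↥Md ⧸ Cs) with hFb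
  have hFmem : ∀ x : ↥Md, φ x ∈ Fb → (x : G) ∈ F := by
    intro x hx
    rw [hF]
    exact ⟨x, Subgroup.mem_comap.mpr hx, rfl⟩
  set Ab := (A.subgroupOf Md).map φ with hAb
  have hAbp : IsPGroup p ↥Ab := (hAp.comap_subtype (K := Md)).map φ
  have hAbC : Ab ≤ Subgroup.centralizer (Fb : Set (↥Md ⧸ Cs)) := by
    rintro _ ⟨a, ha, rfl⟩
    rw [Subgroup.mem_centralizer_iff]
    intro fb hfb
    obtain ⟨f, rfl⟩ := hs fb
    have hfF : (f : G) ∈ F := hFmem f hfb
    have h1 : ⁅(f : G)⁻¹, (a : G)⁻¹⁆ ∈ CY :=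
      hFA (Subgroup.commutator_mem_commutator (F.inv_mem hfF)
        (A.inv_mem (Subgroup.mem_subgroupOf.mp ha)))
    rw [← map_mul, ← map_mul]
    show ((f * a : ↥Md) : ↥Md ⧸ Cs) = ((a * f : ↥Md) : ↥Md ⧸ Cs)
    rw [eq_comm, QuotientGroup.eq, Subgroup.mem_subgroupOf]
    have e : (((a * f)⁻¹ * (f * a) : ↥Md) : G) = ⁅(f : G)⁻¹, (a : G)⁻¹⁆ := by
      simp [commutatorElement_def, mul_assoc]
    rw [e]; exact h1
  have hbot := eq_bot_of_le_centralizer_fstar_of_pCore_eq_bot hred hAbp hAbC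
  intro a ha
  have h1 : φ ⟨a, hAMd ha⟩ ∈ Ab := ⟨⟨a, hAMd ha⟩, Subgroup.mem_subgroupOf.mpr ha, rfl⟩
  rw [hbot, Subgroup.mem_bot] at h1
  exact Subgroup.mem_subgroupOf.mp ((QuotientGroup.eq_one_iff _).mp h1)

end fstarred

end Cfsg.Agent.Helper47
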