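import Cfsg.Agent.Helper47.FStarRed

set_option autoImplicit false

namespace Cfsg.Agent.Helper47

open scoped commutatorElement Pointwise

local notation "cj(" g "," Q ")" => Subgroup.map (MulEquiv.toMonoidHom (MulAut.conj g)) Q

section fstarred2

variable {G : Type*} [Group G] [Finite G] {p : ℕ} [Fact p.Prime]

/-- the kernel `C` lies in the preimage `F` of `F*(Md / C)` -/
theorem le_fstar_preimage {Md CY F : Subgroup G} [hn : (CY.subgroupOf Md).Normal]
    (hCMd : CY ≤ Md)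
    (hF : F = ((Cfsg.generalizedFittingSubgroup (↥Md ⧸ CY.subgroupOf Md)).comap
      (QuotientGroup.mk' (CY.subgroupOf Md))).map Md.subtype) : CY ≤ F := by
  intro c hc
  rw [hF]
  refine ⟨⟨c, hCMd hc⟩, ?_, rfl⟩
  rw [SetLike.mem_coe, Subgroup.mem_comap]
  have h1 : (QuotientGroup.mk' (CY.subgroupOf Md)) ⟨c, hCMd hc⟩ = 1 :=
    (QuotientGroup.eq_one_iff _).mpr (Subgroup.mem_subgroupOf.mpr hc)
  rw [h1]; exact Subgroup.one_mem _

/-- if `Y` is `p`-reduced for `Md ≥ C(Y)`, `H` has characteristic `p`, contains the preimage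
`F` of `F*(Md / C(Y))` and has a Sylow subgroup inside `Md`, then `Y ≤ Y_H` -/
theorem le_largestPReducedOf_of_fstar_le {Md Y H F : Subgroup G} (hY : PRedIn p Md Y)
    [hn : ((Subgroup.centralizer (Y : Set G)).subgroupOf Md).Normal]
    (hCMd : Subgroup.centralizer (Y : Set G) ≤ Md)
    (hF : F = ((Cfsg.generalizedFittingSubgroup
      (↥Md ⧸ (Subgroup.centralizer (Y : Set G)).subgroupOf Md)).comap
      (QuotientGroup.mk' ((Subgroup.centralizer (Y : Set G)).subgroupOf Md))).map Md.subtype)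
    (hFH : F ≤ H)
    (hH : H ⊓ Subgroup.centralizer (Cfsg.pCoreOf p H : Set G) ≤ Cfsg.pCoreOf p H)
    (T' : Sylow p ↥H) (hT' : (T' : Subgroup ↥H).map H.subtype ≤ Md) :
    Y ≤ Cfsg.largestPReducedOf p H := by
  set CY := Subgroup.centralizer (Y : Set G) with hCY
  have hYe := hY.2.2.1
  have hYCY : Y ≤ CY := by
    intro y hy
    rw [Subgroup.mem_centralizer_iff]
    intro z hz
    exact IsElementaryAbelian_comm hYe hz hy
  have hred : Cfsg.pCore p (↥Md ⧸ CY.subgroupOf Md) = ⊥ :=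
    pCore_quotient_subgroupOf_eq_bot_of_PRedIn hY
  have hCF : CY ≤ F := by
    intro c hc
    rw [hF]
    refine ⟨⟨c, hCMd hc⟩, ?_, rfl⟩
    rw [SetLike.mem_coe, Subgroup.mem_comap]
    have h1 : (QuotientGroup.mk' (CY.subgroupOf Md)) ⟨c, hCMd hc⟩ = 1 :=
      (QuotientGroup.eq_one_iff _).mpr (Subgroup.mem_subgroupOf.mpr hc)
    rw [h1]; exact Subgroup.one_mem _
  have hYH : Y ≤ H := (hYCY.trans hCF).trans hFH
  have hFMd : F ≤ Md := by rw [hF]; exact Subgroup.map_subtype_le _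
  haveI hFsn : ((Cfsg.generalizedFittingSubgroup (↥Md ⧸ CY.subgroupOf Md)).comap
      (QuotientGroup.mk' (CY.subgroupOf Md))).Normal :=
    Subgroup.Normal.comap (Cfsg.Agent.Helper22.generalizedFittingSubgroup_normal _) _
  have hMdF : Md ≤ Subgroup.normalizer (F : Set G) := by
    rw [hF]; exact le_normalizer_map_subtype_of_normal Md _
  have hK : ∀ D : Subgroup G, D ≤ H → H ≤ Subgroup.normalizer (D : Set G) →
      (∀ d ∈ D ⊓ F, ∃ k : ℕ, d ^ (p ^ k) ∈ CY) →
      ∀ A : Subgroup G, A ≤ Md → A ≤ D → IsPGroup p ↥A → A ≤ CY := by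
    intro D hDH hHD hpow A hAMd hAD hAp
    have hE : F ⊓ D ≤ CY := by
      apply le_of_le_fstar_preimage hred hF inf_le_left
      · intro f hf
        rw [← cj_eq_self_iff, cj_inf, cj_eq_self_of_mem hf, cj_eq_self_iff.mpr (hHD (hFH hf))]
      · intro e he
        exact hpow e (Subgroup.mem_inf.mpr ⟨(Subgroup.mem_inf.mp he).2, (Subgroup.mem_inf.mp he).1⟩)
    apply le_of_commutator_fstar_preimage_le hred hF hAMd hAp
    refine le_trans ?_ hE
    rw [Subgroup.commutator_le]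
    intro f hf a ha
    refine Subgroup.mem_inf.mpr ⟨?_, ?_⟩
    · have h3 : a * f⁻¹ * a⁻¹ ∈ F :=
        (Subgroup.mem_normalizer_iff.mp (hMdF (hAMd ha)) f⁻¹).mp (F.inv_mem hf)
      have e : ⁅f, a⁆ = f * (a * f⁻¹ * a⁻¹) := by rw [commutatorElement_def]; group
      rw [e]; exact F.mul_mem hf h3
    · have h3 : f * a * f⁻¹ ∈ D :=
        (Subgroup.mem_normalizer_iff.mp (hHD (hFH hf)) a).mp (hAD ha)
      have e : ⁅f, a⁆ = (f * a * f⁻¹) * a⁻¹ := by rw [commutatorElement_def]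
      rw [e]; exact D.mul_mem h3 (D.inv_mem (hAD ha))
  set OH := Cfsg.pCoreOf p H with hOH
  have hOHp : IsPGroup p ↥OH := pCoreOf_isPGroup H
  have hOHMd : OH ≤ Md := (pCoreOf_le_sylow_map T').trans hT'
  have hOHC : OH ≤ CY := by
    apply hK OH (pCoreOf_le p H) (le_normalizer_pCoreOf H) _ OH hOHMd le_rfl hOHp
    intro d hd
    obtain ⟨k, hk⟩ := isPGroup_pow hOHp (Subgroup.mem_inf.mp hd).1
    exact ⟨k, by rw [hk]; exact Subgroup.one_mem _⟩
  have hYC : Y ≤ Subgroup.centralizer (OH : Set G) := by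
    rw [Subgroup.le_centralizer_iff]; exact hOHC
  have hYOH : Y ≤ OH := fun y hy => hH (Subgroup.mem_inf.mpr ⟨hYH hy, hYC hy⟩)
  set Z₁ := Cfsg.omegaOne p (OH ⊓ Subgroup.centralizer (OH : Set G)) with hZ₁
  have hYZ : Y ≤ Z₁ := by
    intro y hy
    exact mem_omegaOne (Subgroup.mem_inf.mpr ⟨hYOH hy, hYC hy⟩) (hYe.2 y hy)
  have hZ₁n := le_normalizer_omegaOne_center_pCoreOf (p := p) H
  have hZ₁H : Z₁ ≤ H := (omegaOne_le p _).trans (inf_le_left.trans (pCoreOf_le p H))
  set W := ⨆ h : ↥H, cj((h : G), Y) with hW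
  have hWZ : W ≤ Z₁ := by
    apply iSup_le
    intro h
    calc cj((h : G), Y) ≤ cj((h : G), Z₁) := cj_mono hYZ
      _ = Z₁ := cj_eq_self_iff.mpr (hZ₁n h.2)
  have hYW : Y ≤ W := le_iSup_cj H Y
  have hredW : PRedIn p H W := by
    refine PRedIn_of_generated (A := Y) T' (hWZ.trans hZ₁H) (le_normalizer_iSup_cj H Y)
      (IsElementaryAbelian_of_le (omegaOne_center_isElementaryAbelian p _) hWZ) hYW ?_ ?_
    · intro X' h
      exact iSup_le fun l => h l l.2
    · intro D hDH hHD hpow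
      apply hK D hDH hHD _ _ (inf_le_left.trans hT') inf_le_right
        ((T'.isPGroup'.map _).to_le inf_le_left)
      intro d hd
      obtain ⟨k, hk⟩ := hpow d (Subgroup.mem_inf.mp hd).1
      exact ⟨k, Subgroup.centralizer_le (SetLike.coe_subset_coe.mpr hYW) hk⟩
  exact hYW.trans (PRedIn_le_largestPReducedOf hredW)

end fstarred2

end Cfsg.Agent.Helper47
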