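import Cfsg.Agent.Helper47.FrakMEx3

set_option autoImplicit false

namespace Cfsg.Agent.Helper47

open scoped commutatorElement Pointwise

local notation "cj(" g "," Q ")" => Subgroup.map (MulEquiv.toMonoidHom (MulAut.conj g)) Q

section frakh2

variable {G : Type*} [Group G] [Finite G] {p : ℕ} [Fact p.Prime]

/-- `A` normalizes `⁅A, B⁆` -/
theorem le_normalizer_commutator_left (A B : Subgroup G) :
    A ≤ Subgroup.normalizer ((⁅A, B⁆ : Subgroup G) : Set G) := by
  intro a ha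
  rw [← cj_eq_self_iff]
  apply cj_eq_of_le
  have h : cj(a, ⁅A, B⁆) ≤ ⁅A, B⁆ := by
    conv_lhs => rw [Subgroup.commutator_def]
    rw [MonoidHom.map_closure, Subgroup.closure_le]
    rintro _ ⟨_, ⟨a', ha', b, hb, rfl⟩, rfl⟩
    have e : (MulAut.conj a) ⁅a', b⁆ = ⁅a * a', b⁆ * ⁅a, b⁆⁻¹ := by
      simp only [MulAut.conj_apply, commutatorElement_def]; group
    show (MulAut.conj a) ⁅a', b⁆ ∈ _
    rw [e]
    exact Subgroup.mul_mem _ (Subgroup.commutator_mem_commutator (A.mul_mem ha ha') hb)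
      (Subgroup.inv_mem _ (Subgroup.commutator_mem_commutator ha hb))
  exact h

/-- `O_p(P) ≤ O_p(H)` for `O^p(H) ≤ P ≤ H` -/
theorem pCoreOf_le_pCoreOf_of_pResidual_le {P H : Subgroup G} (hPH : P ≤ H)
    (hR : (Cfsg.pResidual p ↥H).map H.subtype ≤ P) : Cfsg.pCoreOf p P ≤ Cfsg.pCoreOf p H := by
  set U := Cfsg.pCoreOf p P with hU
  have hUp : IsPGroup p ↥U := pCoreOf_isPGroup P
  have hUH : U ≤ H := (pCoreOf_le p P).trans hPH
  obtain ⟨TH, hTH⟩ := (hUp.comap_subtype (K := H)).exists_le_sylow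
  have hUT : U ≤ (TH : Subgroup ↥H).map H.subtype := by
    intro u hu
    exact ⟨⟨u, hUH hu⟩, hTH (Subgroup.mem_subgroupOf.mpr hu), rfl⟩
  set W := ⨆ h : ↥H, cj((h : G), U) with hW
  have hWT : W ≤ (TH : Subgroup ↥H).map H.subtype := by
    apply iSup_le
    intro h
    obtain ⟨r, hr, s, hs, hrs⟩ := exists_mul_of_le_normalizer_sylow TH (le_refl H)
      Subgroup.le_normalizer ((Cfsg.pResidual p ↥H).map H.subtype)
      (fun d hd hcop => ⟨⟨d, hd⟩, mem_pResidual_of_coprime (by rwa [Subgroup.orderOf_mk]), rfl⟩)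
      (h : G)⁻¹ (H.inv_mem h.2)
    have e : (h : G) = s⁻¹ * r⁻¹ := by rw [← inv_inv (h : G), hrs]; group
    rw [e, ← cj_cj]
    have hrU : cj(r⁻¹, U) = U :=
      cj_eq_self_iff.mpr (le_normalizer_pCoreOf P (P.inv_mem (hR (Subgroup.mem_inf.mp hr).1)))
    rw [hrU]
    calc cj(s⁻¹, U) ≤ cj(s⁻¹, (TH : Subgroup ↥H).map H.subtype) := cj_mono hUT
      _ = (TH : Subgroup ↥H).map H.subtype :=
        cj_eq_self_of_mem (Subgroup.inv_mem _ (Subgroup.mem_inf.mp hs).1)
  have hWp : IsPGroup p ↥W := (TH.isPGroup'.map _).to_le hWT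
  exact (le_iSup_cj H U).trans
    (le_pCoreOf (hWT.trans (Subgroup.map_subtype_le _)) hWp (le_normalizer_iSup_cj H U))

/-- if `K ≤ H` contains a Sylow subgroup of `H`, every Sylow subgroup of `K` is one of `H` -/
theorem sylow_of_isParabolic_subgroupOf {H K : Subgroup G} (hKH : K ≤ H)
    (hpar : Cfsg.IsParabolic p (K.subgroupOf H)) (T : Sylow p ↥K) :
    ∃ P : Sylow p ↥H, (P : Subgroup ↥H).map H.subtype = (T : Subgroup ↥K).map K.subtype := by
  obtain ⟨T', hT'⟩ := hpar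
  have hT'K : (T' : Subgroup ↥H).map H.subtype ≤ K := by
    rintro _ ⟨y, hy, rfl⟩
    exact Subgroup.mem_subgroupOf.mp (hT' hy)
  obtain ⟨k, hk, hkT⟩ := exists_cj_le_sylow_subgroup (T'.isPGroup'.map H.subtype) hT'K T
  refine ⟨(⟨k, hKH hk⟩ : ↥H) • T', ?_⟩
  have hsm := sylow_smul_map (⟨k, hKH hk⟩ : ↥H) T'
  set P := (⟨k, hKH hk⟩ : ↥H) • T' with hP
  set TG := (T : Subgroup ↥K).map K.subtype with hTG
  have hTGH : TG ≤ H := (Subgroup.map_subtype_le _).trans hKH
  have hQp : IsPGroup p ↥(TG.subgroupOf H) := (T.isPGroup'.map K.subtype).comap_subtype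
  have hPQ : (P : Subgroup ↥H) ≤ TG.subgroupOf H := by
    intro x hx
    rw [Subgroup.mem_subgroupOf]
    apply hkT
    rw [← hsm]
    exact ⟨x, hx, rfl⟩
  have hmax := P.is_maximal' hQp hPQ
  rw [← hmax, Subgroup.subgroupOf_map_subtype]
  exact inf_eq_left.mpr hTGH

/-- structure of `H ∈ ℌ_G(O_p(M))` -/
theorem frakH_structure {M H : Subgroup G} (hH : Cfsg.IsInFrakH p M H)
    (h1 : ∀ L : Subgroup G, IsPGroup p ↥L → Cfsg.pCoreOf p M ≤ L →
      Subgroup.normalizer (L : Set G) ≤ Subgroup.normalizer (Cfsg.pCoreOf p M : Set G))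
    (h2 : Subgroup.normalizer (Cfsg.pCoreOf p M : Set G) ≤
      Subgroup.normalizer (Cfsg.largestPReducedOf p M : Set G)) :
    Cfsg.pCoreOf p H ≤ Subgroup.normalizer (Cfsg.pCoreOf p M : Set G) ⊓
        Subgroup.normalizer (Cfsg.largestPReducedOf p M : Set G) ∧
    ⁅(Cfsg.pResidual p ↥H).map H.subtype, Cfsg.largestPReducedOf p M⁆ =
        (Cfsg.pResidual p ↥H).map H.subtype ∧
    (Cfsg.pResidual p ↥H).map H.subtype ⊔ Cfsg.pCoreOf p M = H ∧
    (Cfsg.pResidual p ↥H).map H.subtype ⊔ Cfsg.largestPReducedOf p M =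
        (Subgroup.normalClosure
          (((Cfsg.largestPReducedOf p M).subgroupOf H : Subgroup ↥H) : Set ↥H)).map H.subtype ∧
    (Subgroup.normalClosure
        (((Cfsg.pCoreOf p M).subgroupOf H : Subgroup ↥H) : Set ↥H)).map H.subtype = H := by
  obtain ⟨hHcp, hOH, hYnot, hmin⟩ := hH
  set O := Cfsg.pCoreOf p M with hO
  set Y := Cfsg.largestPReducedOf p M with hY
  set R := (Cfsg.pResidual p ↥H).map H.subtype with hR
  set OH := Cfsg.pCoreOf p H with hOHdef
  have hYO : Y ≤ O := largestPReducedOf_le_pCoreOf M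
  have hYH : Y ≤ H := hYO.trans hOH
  have hRH : R ≤ H := Subgroup.map_subtype_le _
  have hHR : H ≤ Subgroup.normalizer (R : Set G) := le_normalizer_pResidual_map H
  have hOp : IsPGroup p ↥O := pCoreOf_isPGroup M
  have hONY : O ≤ Subgroup.normalizer (Y : Set G) :=
    (pCoreOf_le p M).trans (le_normalizer_largestPReducedOf p M)
  have hb : OH ≤ Subgroup.normalizer (O : Set G) ⊓ Subgroup.normalizer (Y : Set G) := by
    have hLp : IsPGroup p ↥(OH ⊔ O) :=
      isPGroup_sup_of_le_normalizer (pCoreOf_isPGroup H) hOp (hOH.trans (le_normalizer_pCoreOf H))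
    have h3 : OH ≤ Subgroup.normalizer (O : Set G) :=
      (le_sup_left.trans Subgroup.le_normalizer).trans (h1 _ hLp le_sup_right)
    exact le_inf h3 (h3.trans h2)
  have hc2 : R ⊔ O = H := by
    by_contra hne
    have hlt : R ⊔ O < H := lt_of_le_of_ne (sup_le hRH hOH) hne
    have h3 := hmin _ le_sup_right hlt
    exact hYnot (h3.trans (pCoreOf_le_pCoreOf_of_pResidual_le (sup_le hRH hOH) le_sup_left))
  set K₀ := ⁅R, Y⁆ with hK₀
  have hK₀R : K₀ ≤ R := by
    rw [hK₀, Subgroup.commutator_le]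
    intro r hr y hy
    have h3 : y * r⁻¹ * y⁻¹ ∈ R :=
      (Subgroup.mem_normalizer_iff.mp (hHR (hYH hy)) r⁻¹).mp (R.inv_mem hr)
    have e : ⁅r, y⁆ = r * (y * r⁻¹ * y⁻¹) := by rw [commutatorElement_def]; group
    rw [e]; exact R.mul_mem hr h3
  have hRK₀ : R ≤ Subgroup.normalizer (K₀ : Set G) := le_normalizer_commutator_left R Y
  have hOK₀ : O ≤ Subgroup.normalizer (K₀ : Set G) :=
    (le_inf (hOH.trans hHR) hONY).trans (normalizer_inf_normalizer_le_normalizer_commutator R Y)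
  have hHK₀ : H ≤ Subgroup.normalizer (K₀ : Set G) := by
    rw [← hc2]; exact sup_le hRK₀ hOK₀
  have hRYK : R ≤ Subgroup.normalizer ((Y ⊔ K₀ : Subgroup G) : Set G) := by
    intro r hr
    rw [← cj_eq_self_iff]
    apply cj_eq_of_le
    rw [cj_sup, cj_eq_self_iff.mpr (hRK₀ hr)]
    refine sup_le ?_ le_sup_right
    rintro _ ⟨y, hy, rfl⟩
    have e : (MulAut.conj r) y = ⁅r, y⁆ * y := by
      simp [MulAut.conj_apply, commutatorElement_def]
    show (MulAut.conj r) y ∈ _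
    rw [e]
    exact Subgroup.mul_mem _ (Subgroup.mem_sup_right (Subgroup.commutator_mem_commutator hr hy))
      (Subgroup.mem_sup_left hy)
  have hOYK : O ≤ Subgroup.normalizer ((Y ⊔ K₀ : Subgroup G) : Set G) := by
    intro o ho
    rw [← cj_eq_self_iff, cj_sup, cj_eq_self_iff.mpr (hONY ho), cj_eq_self_iff.mpr (hOK₀ ho)]
  have hHYK : H ≤ Subgroup.normalizer ((Y ⊔ K₀ : Subgroup G) : Set G) := by
    rw [← hc2]; exact sup_le hRYK hOYK
  have hc1 : K₀ = R := by
    by_contra hne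
    have hPH : K₀ ⊔ O ≤ H := sup_le (hK₀R.trans hRH) hOH
    have hPne : K₀ ⊔ O ≠ H := by
      intro hP
      apply hne
      apply le_antisymm hK₀R
      rw [hR]
      unfold Cfsg.pResidual
      rw [MonoidHom.map_closure, Subgroup.closure_le]
      rintro _ ⟨g, hg, rfl⟩
      have hcop : (orderOf (g : G)).Coprime p := by rw [Subgroup.orderOf_coe]; exact hg
      have hgP : (g : G) ∈ O ⊔ K₀ := by rw [sup_comm, hP]; exact g.2
      obtain ⟨d, hd, hpow⟩ := pow_mem_sup_of_le_normalizer hOK₀ hgP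
      obtain ⟨k, hk⟩ := isPGroup_pow hOp hd
      obtain ⟨c, hc, hgc⟩ := hpow (p ^ k)
      rw [hk, one_mul] at hgc
      exact mem_of_pow_mem_of_coprime (Nat.Coprime.pow_left k hcop.symm) (hgc ▸ hc)
    have hlt : K₀ ⊔ O < H := lt_of_le_of_ne hPH hPne
    have h3 : Y ≤ Cfsg.pCoreOf p (K₀ ⊔ O) := hmin _ le_sup_right hlt
    have hYKP : Y ⊔ K₀ ≤ K₀ ⊔ O := sup_le (hYO.trans le_sup_right) le_sup_left
    have h4 : Cfsg.pCoreOf p (K₀ ⊔ O) ⊓ (Y ⊔ K₀) ≤ Cfsg.pCoreOf p (Y ⊔ K₀) := by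
      apply le_pCoreOf inf_le_right ((pCoreOf_isPGroup _).to_le inf_le_left)
      intro x hx
      rw [← cj_eq_self_iff, cj_inf, cj_eq_self_of_mem hx,
        cj_eq_self_iff.mpr (le_normalizer_pCoreOf _ (hYKP hx))]
    have h5 : Cfsg.pCoreOf p (Y ⊔ K₀) ≤ OH :=
      pCoreOf_le_pCoreOf (sup_le hYH (hK₀R.trans hRH)) hHYK
    exact hYnot ((le_inf h3 le_sup_left).trans (h4.trans h5))
  have hd : R ⊔ Y = (Subgroup.normalClosure
      ((Y.subgroupOf H : Subgroup ↥H) : Set ↥H)).map H.subtype := by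
    set NC := (Subgroup.normalClosure ((Y.subgroupOf H : Subgroup ↥H) : Set ↥H)).map H.subtype
      with hNC
    have hYNC : Y ≤ NC := by
      intro y hy
      exact ⟨⟨y, hYH hy⟩, Subgroup.subset_normalClosure (Subgroup.mem_subgroupOf.mpr hy), rfl⟩
    have hHNC : H ≤ Subgroup.normalizer (NC : Set G) := le_normalizer_map_subtype_of_normal H _
    apply le_antisymm
    · refine sup_le ?_ hYNC
      rw [← hc1, hK₀, Subgroup.commutator_le]
      intro r hr y hy
      have h3 : r * y * r⁻¹ ∈ NC :=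
        (Subgroup.mem_normalizer_iff.mp (hHNC (hRH hr)) y).mp (hYNC hy)
      have e : ⁅r, y⁆ = (r * y * r⁻¹) * y⁻¹ := by rw [commutatorElement_def]
      rw [e]; exact NC.mul_mem h3 (NC.inv_mem (hYNC hy))
    · haveI : ((R ⊔ Y).subgroupOf H).Normal :=
        (Subgroup.normal_subgroupOf_iff_le_normalizer (sup_le hRH hYH)).mpr
          (by rw [sup_comm, ← hc1]; exact hHYK)
      have h3 : Subgroup.normalClosure ((Y.subgroupOf H : Subgroup ↥H) : Set ↥H) ≤
          (R ⊔ Y).subgroupOf H := by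
        apply Subgroup.normalClosure_le_normal
        intro x hx
        exact Subgroup.mem_subgroupOf.mpr (Subgroup.mem_sup_right (Subgroup.mem_subgroupOf.mp hx))
      rintro _ ⟨x, hx, rfl⟩
      exact Subgroup.mem_subgroupOf.mp (h3 hx)
  have he : (Subgroup.normalClosure
      ((O.subgroupOf H : Subgroup ↥H) : Set ↥H)).map H.subtype = H := by
    set NCO := (Subgroup.normalClosure ((O.subgroupOf H : Subgroup ↥H) : Set ↥H)).map H.subtype
      with hNCO
    have hNH : NCO ≤ H := Subgroup.map_subtype_le _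
    have hONC : O ≤ NCO := by
      intro y hy
      exact ⟨⟨y, hOH hy⟩, Subgroup.subset_normalClosure (Subgroup.mem_subgroupOf.mpr hy), rfl⟩
    have hHNC : H ≤ Subgroup.normalizer (NCO : Set G) := le_normalizer_map_subtype_of_normal H _
    by_contra hne
    have hlt : NCO < H := lt_of_le_of_ne hNH hne
    exact hYnot ((hmin _ hONC hlt).trans (pCoreOf_le_pCoreOf hNH hHNC))
  exact ⟨hb, hc1, hc2, hd, he⟩

end frakh2

end Cfsg.Agent.Helper47
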