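import Cfsg.Agent.Helper47.FrakH2

set_option autoImplicit false

namespace Cfsg.Agent.Helper47

open scoped commutatorElement Pointwise

local notation "cj(" g "," Q ")" => Subgroup.map (MulEquiv.toMonoidHom (MulAut.conj g)) Q

section frakh3

variable {G : Type*} [Group G] [Finite G] {p : ℕ} [Fact p.Prime]

/-- if all `p'`-elements centralize the group modulo `O_p`, the group is `p`-closed -/
theorem isPClosed_of_coprime_commutator_mem_pCore {N : Type*} [Group N] [Finite N]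
    (h : ∀ x : N, (orderOf x).Coprime p → ∀ n : N, ⁅x, n⁆ ∈ Cfsg.pCore p N) :
    Cfsg.IsPClosed p N := by
  obtain ⟨T⟩ : Nonempty (Sylow p N) := inferInstance
  apply isPClosed_of_normal_sylow T
  rw [← Subgroup.normalizer_eq_top_iff, eq_top_iff, ← pResidual_sup_sylow T]
  refine sup_le ?_ Subgroup.le_normalizer
  unfold Cfsg.pResidual
  rw [Subgroup.closure_le]
  intro x hx
  rw [SetLike.mem_coe, ← cj_eq_self_iff]
  apply cj_eq_of_le
  rintro _ ⟨t, ht, rfl⟩
  have e : (MulAut.conj x) t = ⁅x, t⁆ * t := by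
    simp [MulAut.conj_apply, commutatorElement_def]
  show (MulAut.conj x) t ∈ _
  rw [e]
  exact Subgroup.mul_mem _ (pCore_le_sylow T (h x hx t)) ht

/-- `p'`-elements of `D C` lie in `C` when the `p`-group `D` normalizes `C` -/
theorem mem_of_coprime_of_mem_sup_of_le_normalizer {D C : Subgroup G} (hD : IsPGroup p ↥D)
    (hDC : D ≤ Subgroup.normalizer (C : Set G)) {x : G} (hx : x ∈ D ⊔ C)
    (hcop : (orderOf x).Coprime p) : x ∈ C := by
  obtain ⟨d, hd, hpow⟩ := pow_mem_sup_of_le_normalizer hDC hx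
  obtain ⟨k, hk⟩ := isPGroup_pow hD hd
  obtain ⟨c, hc, hgc⟩ := hpow (p ^ k)
  rw [hk, one_mul] at hgc
  exact mem_of_pow_mem_of_coprime (Nat.Coprime.pow_left k hcop.symm) (hgc ▸ hc)

/-- for `H ∈ ℌ_G(O_p(M))` with `O^p(H) = [O^p(H), Y_M]`: a normal subgroup of `H` contains
`O^p(H)` or is `p`-closed -/
theorem frakH_normal_dichotomy {M H : Subgroup G} (hH : Cfsg.IsInFrakH p M H)
    (hc1 : ⁅(Cfsg.pResidual p ↥H).map H.subtype, Cfsg.largestPReducedOf p M⁆ =
      (Cfsg.pResidual p ↥H).map H.subtype)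
    {N' : Subgroup G} (hN'H : N' ≤ H) (hHN' : H ≤ Subgroup.normalizer (N' : Set G)) :
    (Cfsg.pResidual p ↥H).map H.subtype ≤ N' ∨ Cfsg.IsPClosed p ↥N' := by
  obtain ⟨hHcp, hOH, hYnot, hmin⟩ := hH
  set O := Cfsg.pCoreOf p M with hO
  set Y := Cfsg.largestPReducedOf p M with hY
  set R := (Cfsg.pResidual p ↥H).map H.subtype with hR
  have hYO : Y ≤ O := largestPReducedOf_le_pCoreOf M
  have hYH : Y ≤ H := hYO.trans hOH
  have hRH : R ≤ H := Subgroup.map_subtype_le _
  have hOp : IsPGroup p ↥O := pCoreOf_isPGroup M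
  have hRmem : ∀ x ∈ H, (orderOf x).Coprime p → x ∈ R := fun x hx hcop =>
    ⟨⟨x, hx⟩, mem_pResidual_of_coprime (by rwa [Subgroup.orderOf_mk]), rfl⟩
  by_cases hP : N' ⊔ O = H
  · left
    rw [hR]
    unfold Cfsg.pResidual
    rw [MonoidHom.map_closure, Subgroup.closure_le]
    rintro _ ⟨g, hg, rfl⟩
    have hcop : (orderOf (g : G)).Coprime p := by rw [Subgroup.orderOf_coe]; exact hg
    have hgP : (g : G) ∈ O ⊔ N' := by rw [sup_comm, hP]; exact g.2
    exact mem_of_coprime_of_mem_sup_of_le_normalizer hOp (hOH.trans hHN') hgP hcop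
  · right
    have hlt : N' ⊔ O < H := lt_of_le_of_ne (sup_le hN'H hOH) hP
    have hYU : Y ≤ Cfsg.pCoreOf p (N' ⊔ O) := hmin _ le_sup_right hlt
    set U := Cfsg.pCoreOf p (N' ⊔ O) with hU
    set A := Cfsg.pCoreOf p N' with hA
    have hUA : U ⊓ N' ≤ A := by
      apply le_pCoreOf inf_le_right ((pCoreOf_isPGroup _).to_le inf_le_left)
      intro x hx
      rw [← cj_eq_self_iff, cj_inf, cj_eq_self_of_mem hx,
        cj_eq_self_iff.mpr (le_normalizer_pCoreOf _ ((le_sup_left : N' ≤ N' ⊔ O) hx))]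
    have key1 : ∀ y ∈ Y, ∀ n ∈ N', ⁅y, n⁆ ∈ A := by
      intro y hy n hn
      apply hUA
      refine Subgroup.mem_inf.mpr ⟨?_, ?_⟩
      · have h3 : n * y⁻¹ * n⁻¹ ∈ U :=
          (Subgroup.mem_normalizer_iff.mp
            (le_normalizer_pCoreOf _ ((le_sup_left : N' ≤ N' ⊔ O) hn)) y⁻¹).mp
            (U.inv_mem (hYU hy))
        have e : ⁅y, n⁆ = y * (n * y⁻¹ * n⁻¹) := by rw [commutatorElement_def]; group
        rw [e]; exact U.mul_mem (hYU hy) h3
      · have h3 : y * n * y⁻¹ ∈ N' :=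
          (Subgroup.mem_normalizer_iff.mp (hHN' (hYH hy)) n).mp hn
        have e : ⁅y, n⁆ = (y * n * y⁻¹) * n⁻¹ := by rw [commutatorElement_def]
        rw [e]; exact N'.mul_mem h3 (N'.inv_mem hn)
    set W := ⨆ h : ↥H, cj((h : G), Y) with hW
    have hYW : Y ≤ W := le_iSup_cj H Y
    have hHW : H ≤ Subgroup.normalizer (W : Set G) := le_normalizer_iSup_cj H Y
    have hWH : W ≤ H := by
      apply iSup_le
      intro h
      calc cj((h : G), Y) ≤ cj((h : G), H) := cj_mono hYH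
        _ = H := cj_eq_self_of_mem h.2
    have hRW : R ≤ W := by
      rw [← hc1, Subgroup.commutator_le]
      intro r hr y hy
      have h3 : r * y * r⁻¹ ∈ W :=
        (Subgroup.mem_normalizer_iff.mp (hHW (hRH hr)) y).mp (hYW hy)
      have e : ⁅r, y⁆ = (r * y * r⁻¹) * y⁻¹ := by rw [commutatorElement_def]
      rw [e]; exact W.mul_mem h3 (W.inv_mem (hYW hy))
    have hHA : H ≤ Subgroup.normalizer (A : Set G) :=
      hHN'.trans (normalizer_le_normalizer_pCoreOf N')
    have hWA : ⁅W, N'⁆ ≤ A := by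
      apply commutator_iSup_le (fun h : ↥H => cj((h : G), Y)) N' A (hWH.trans hHA)
      rintro h _ ⟨y, hy, rfl⟩ c hc
      have hn : (h : G)⁻¹ * c * (h : G) ∈ N' := by
        have := (Subgroup.mem_normalizer_iff.mp (hHN' (H.inv_mem h.2)) c).mp hc
        simpa using this
      have h3 := key1 y hy _ hn
      have h4 : (h : G) * ⁅y, (h : G)⁻¹ * c * (h : G)⁆ * (h : G)⁻¹ ∈ A :=
        (Subgroup.mem_normalizer_iff.mp (hHA h.2) _).mp h3
      have e : ⁅(MulAut.conj (h : G)) y, c⁆ =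
          (h : G) * ⁅y, (h : G)⁻¹ * c * (h : G)⁆ * (h : G)⁻¹ := by
        simp only [MulAut.conj_apply, commutatorElement_def]; group
      show ⁅(MulAut.conj (h : G)) y, c⁆ ∈ A
      rw [e]; exact h4
    apply isPClosed_of_coprime_commutator_mem_pCore
    intro x hx n
    have hxR : (x : G) ∈ R := hRmem _ (hN'H x.2) (by rwa [Subgroup.orderOf_coe])
    have h3 : ⁅(x : G), (n : G)⁆ ∈ A :=
      hWA (Subgroup.commutator_mem_commutator (hRW hxR) n.2)
    obtain ⟨a, ha, hax⟩ := h3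
    have hax' : (a : G) = ⁅(x : G), (n : G)⁆ := hax
    have : a = ⁅x, n⁆ := Subtype.ext (by rw [hax']; simp [commutatorElement_def])
    rw [← this]; exact ha

end frakh3

end Cfsg.Agent.Helper47
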