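import Cfsg.Agent.Helper47.FrakH3

set_option autoImplicit false

namespace Cfsg.Agent.Helper47

open scoped commutatorElement Pointwise

local notation "cj(" g "," Q ")" => Subgroup.map (MulEquiv.toMonoidHom (MulAut.conj g)) Q

section frakh4

variable {G : Type*} [Group G] [Finite G] {p : ℕ} [Fact p.Prime]

/-- for `H ∈ ℌ_G(O_p(M))` and a `p`-group `Qg` normalized by `H` and normalizing `O_p(M)`:
`H ⊴ H Qg`, `O^p(H) = O^p(H Qg)` and `H Qg` is `p`-irreducible -/
theorem frakH_sup_pgroup {M H Qg : Subgroup G} (hH : Cfsg.IsInFrakH p M H)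
    (hc1 : ⁅(Cfsg.pResidual p ↥H).map H.subtype, Cfsg.largestPReducedOf p M⁆ =
      (Cfsg.pResidual p ↥H).map H.subtype)
    (hQg : IsPGroup p ↥Qg) (hHQ : H ≤ Subgroup.normalizer (Qg : Set G))
    (hQO : Qg ≤ Subgroup.normalizer (Cfsg.pCoreOf p M : Set G)) :
    (H.subgroupOf (H ⊔ Qg)).Normal ∧
    (Cfsg.pResidual p ↥H).map H.subtype =
      (Cfsg.pResidual p ↥(H ⊔ Qg)).map (H ⊔ Qg).subtype ∧
    Cfsg.IsPIrreducible p ↥(H ⊔ Qg) := by
  have hH' := hH
  obtain ⟨hHcp, hOH, hYnot, hmin⟩ := hH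
  set O := Cfsg.pCoreOf p M with hO
  set Y := Cfsg.largestPReducedOf p M with hY
  set R := (Cfsg.pResidual p ↥H).map H.subtype with hR
  set HQ := H ⊔ Qg with hHQdef
  have hYO : Y ≤ O := largestPReducedOf_le_pCoreOf M
  have hOp : IsPGroup p ↥O := pCoreOf_isPGroup M
  have hRmem : ∀ x ∈ H, (orderOf x).Coprime p → x ∈ R := fun x hx hcop =>
    ⟨⟨x, hx⟩, mem_pResidual_of_coprime (by rwa [Subgroup.orderOf_mk]), rfl⟩
  have h5 : HQ ≤ Subgroup.normalizer (H : Set G) := by
    set Hs := ⨆ x : ↥HQ, cj((x : G), O) with hHs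
    have hHsH : Hs ≤ H := by
      apply iSup_le
      intro x
      have hx : (x : G) ∈ ((H ⊔ Qg : Subgroup G) : Set G) := x.2
      rw [Subgroup.coe_mul_of_left_le_normalizer_right H Qg hHQ] at hx
      obtain ⟨h, hh, q, hq, hxe⟩ := Set.mem_mul.mp hx
      rw [← hxe, ← cj_cj, cj_eq_self_iff.mpr (hQO hq)]
      calc cj(h, O) ≤ cj(h, H) := cj_mono hOH
        _ = H := cj_eq_self_of_mem hh
    have hOHs : O ≤ Hs := le_iSup_cj HQ O
    have hn : HQ ≤ Subgroup.normalizer (Hs : Set G) := le_normalizer_iSup_cj HQ O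
    have hHsEq : Hs = H := by
      by_contra hne
      have hlt : Hs < H := lt_of_le_of_ne hHsH hne
      exact hYnot ((hmin _ hOHs hlt).trans (pCoreOf_le_pCoreOf hHsH (le_sup_left.trans hn)))
    rw [← hHsEq]; exact hn
  have hQgH : Qg ≤ Subgroup.normalizer (H : Set G) := le_sup_right.trans h5
  have hcopH : ∀ x ∈ HQ, (orderOf x).Coprime p → x ∈ H := by
    intro x hx hcop
    exact mem_of_coprime_of_mem_sup_of_le_normalizer hQg hQgH (by rw [sup_comm]; exact hx) hcop
  have h6 : R = (Cfsg.pResidual p ↥HQ).map HQ.subtype := by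
    apply le_antisymm (pResidual_map_mono le_sup_left)
    unfold Cfsg.pResidual
    rw [MonoidHom.map_closure, Subgroup.closure_le]
    rintro _ ⟨g, hg, rfl⟩
    have hcop : (orderOf (g : G)).Coprime p := by rw [Subgroup.orderOf_coe]; exact hg
    exact hRmem _ (hcopH _ g.2 hcop) hcop
  refine ⟨(Subgroup.normal_subgroupOf_iff_le_normalizer le_sup_left).mpr h5, h6, ?_, ?_⟩
  · intro hcl
    rw [isPClosed_subgroup_iff] at hcl
    have hclH : Cfsg.IsPClosed p ↥H := (isPClosed_subgroup_iff H).mpr (PCl_mono le_sup_left hcl)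
    exact hYnot (hYO.trans (le_pCoreOf_of_isPClosed hclH hOp hOH))
  · intro N hNn hNncl
    set NG := N.map HQ.subtype with hNG
    have hNGHQ : NG ≤ HQ := Subgroup.map_subtype_le _
    have hHQN : HQ ≤ Subgroup.normalizer (NG : Set G) := le_normalizer_map_subtype_of_normal HQ N
    have hnPCl : ¬ PCl p NG := by
      intro h
      apply hNncl
      rw [isPClosed_subgroup_iff, ← PCl_map_subtype]
      exact h
    set NH := H ⊓ (NG ⊔ Qg) with hNH
    have hHNH : H ≤ Subgroup.normalizer (NH : Set G) := by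
      intro h hh
      rw [← cj_eq_self_iff, cj_inf, cj_sup, cj_eq_self_of_mem hh,
        cj_eq_self_iff.mpr (hHQN ((le_sup_left : H ≤ HQ) hh)), cj_eq_self_iff.mpr (hHQ hh)]
    rcases frakH_normal_dichotomy hH' hc1 (inf_le_left : NH ≤ H) hHNH with hRle | hcl
    · unfold Cfsg.pResidual
      rw [Subgroup.closure_le]
      intro g hg
      have hcop : (orderOf (g : G)).Coprime p := by rw [Subgroup.orderOf_coe]; exact hg
      have hgR : (g : G) ∈ R := hRmem _ (hcopH _ g.2 hcop) hcop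
      have hgN : (g : G) ∈ Qg ⊔ NG := by
        rw [sup_comm]; exact (hRle.trans inf_le_right) hgR
      have hgNG : (g : G) ∈ NG :=
        mem_of_coprime_of_mem_sup_of_le_normalizer hQg (le_sup_right.trans hHQN) hgN hcop
      obtain ⟨y, hy, hyg⟩ := hgNG
      have : y = g := Subtype.ext hyg
      rw [SetLike.mem_coe, ← this]; exact hy
    · exfalso
      apply hnPCl
      apply PCl_mono (le_sup_left : NG ≤ NG ⊔ Qg)
      have hP'p : IsPGroup p ↥(Qg ⊔ Cfsg.pCoreOf p NH) :=
        isPGroup_sup_of_le_normalizer hQg (pCoreOf_isPGroup NH)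
          (((pCoreOf_le p NH).trans inf_le_left).trans hHQ)
      have hkey : ∀ x ∈ NG ⊔ Qg, (∃ k : ℕ, x ^ (p ^ k) = 1) →
          x ∈ Qg ⊔ Cfsg.pCoreOf p NH := by
        rintro x hx ⟨k, hk⟩
        have hx' : x ∈ H ⊔ Qg := (sup_le hNGHQ le_sup_right) hx
        obtain ⟨d, hd, hpow⟩ := pow_mem_sup_of_le_normalizer hHQ hx'
        obtain ⟨c₁, hc₁, hx1⟩ := hpow 1
        rw [pow_one, pow_one] at hx1
        obtain ⟨c, hc, hxk⟩ := hpow (p ^ k)
        rw [hk] at hxk
        have hdk : d ^ (p ^ k) = c⁻¹ := by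
          rw [eq_inv_iff_mul_eq_one]; exact hxk.symm
        obtain ⟨j, hj⟩ := isPGroup_pow hQg (Qg.inv_mem hc)
        have hd' : d ^ (p ^ (k + j)) = 1 := by rw [pow_add, pow_mul, hdk, hj]
        have hdNH : d ∈ NH := by
          refine Subgroup.mem_inf.mpr ⟨hd, ?_⟩
          have e : d = x * c₁⁻¹ := by rw [hx1]; group
          rw [e]
          exact Subgroup.mul_mem _ hx (Subgroup.mem_sup_right (Qg.inv_mem hc₁))
        have hdO : d ∈ Cfsg.pCoreOf p NH :=
          le_pCoreOf_of_isPClosed hcl (isPGroup_zpowers hd')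
            (by rw [Subgroup.zpowers_le]; exact hdNH) (Subgroup.mem_zpowers d)
        rw [hx1]
        exact Subgroup.mul_mem _ (Subgroup.mem_sup_right hdO) (Subgroup.mem_sup_left hc₁)
      intro x hx y hy hxp hyp
      exact isPGroup_pow hP'p (Subgroup.mul_mem _ (hkey x hx hxp) (hkey y hy hyp))

end frakh4

end Cfsg.Agent.Helper47
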