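import Cfsg.Agent.Helper47.Asym

set_option autoImplicit false

namespace Cfsg.Agent.Helper47

open scoped commutatorElement Pointwise

local notation "cj(" g "," Q ")" => Subgroup.map (MulEquiv.toMonoidHom (MulAut.conj g)) Q

section frakm

variable {G : Type*} [Group G] {p : ℕ}

theorem centralizer_bot_eq_top : Subgroup.centralizer ((⊥ : Subgroup G) : Set G) = ⊤ := by
  rw [eq_top_iff]
  intro x _
  rw [Subgroup.mem_centralizer_iff]
  intro h hh
  have : h = 1 := Subgroup.mem_bot.mp hh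
  rw [this, one_mul, mul_one]

variable [Finite G] [Fact p.Prime]

/-- members of `𝓛_G` above `M ∈ 𝔐_G` lie in `M†` -/
theorem frakM_le_dagger_of_mem {M X : Subgroup G} (hM : Cfsg.IsInFrakM p M) (hMX : M ≤ X)
    (hX : X ∈ Cfsg.charPSubgroups p G) :
    X ≤ M ⊔ Subgroup.centralizer (Cfsg.largestPReducedOf p M : Set G) := by
  obtain ⟨X', hXX', hmax⟩ := (Set.toFinite (Cfsg.charPSubgroups p G)).exists_le_maximal hX
  have hX'max : X' ∈ Cfsg.maxCharPSubgroups p G :=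
    ⟨hmax.prop, fun L hL hle => le_antisymm (hmax.le_of_ge hL hle) hle⟩
  have := hM.2.2.1 X' hX'max (hMX.trans hXX')
  exact hXX'.trans this.le

/-- with a large subgroup in `S ≤ M`: any `X ≥ M` with `O_p(X) ≠ 1` lies in `M†` -/
theorem frakM_le_dagger (S : Sylow p G) {Q : Subgroup G} (hQp : IsPGroup p ↥Q) (hQ1 : Q ≠ ⊥)
    (hQ : Cfsg.IsLarge Q) {M : Subgroup G} (hSM : (S : Subgroup G) ≤ M)
    (hM : Cfsg.IsInFrakM p M) {X : Subgroup G} (hMX : M ≤ X) (hX : Cfsg.pCoreOf p X ≠ ⊥) :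
    X ≤ M ⊔ Subgroup.centralizer (Cfsg.largestPReducedOf p M : Set G) :=
  frakM_le_dagger_of_mem hM hMX
    ⟨(pCore_ne_bot_iff p X).mpr hX, isLarge_parabolic_charP hQp hQ1 hQ ⟨S, hSM.trans hMX⟩ hX⟩

theorem frakM_pCoreOf_ne_bot {M : Subgroup G} (hM : Cfsg.IsInFrakM p M) :
    Cfsg.pCoreOf p M ≠ ⊥ := (pCore_ne_bot_iff p M).mp hM.1.1

theorem frakM_centralizer_pCoreOf_le {M : Subgroup G} (hM : Cfsg.IsInFrakM p M) :
    Subgroup.centralizer (Cfsg.pCoreOf p M : Set G) ≤ Cfsg.pCoreOf p M := hM.1.2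

/-- `N_G(O_p(M)) ≤ M†` -/
theorem frakM_normalizer_pCoreOf_le {M : Subgroup G} (hM : Cfsg.IsInFrakM p M) :
    Subgroup.normalizer (Cfsg.pCoreOf p M : Set G) ≤
      M ⊔ Subgroup.centralizer (Cfsg.largestPReducedOf p M : Set G) := by
  have hO : Cfsg.pCoreOf p M ≤
      Cfsg.pCoreOf p (Subgroup.normalizer (Cfsg.pCoreOf p M : Set G)) :=
    le_pCoreOf Subgroup.le_normalizer (pCoreOf_isPGroup M) le_rfl
  refine frakM_le_dagger_of_mem hM (le_normalizer_pCoreOf M) ⟨?_, ?_⟩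
  · rw [pCore_ne_bot_iff]
    intro h
    apply frakM_pCoreOf_ne_bot hM
    rw [← le_bot_iff, ← h]
    exact hO
  · exact (Subgroup.centralizer_le hO).trans ((frakM_centralizer_pCoreOf_le hM).trans hO)

theorem frakM_dagger_le_normalizer (M : Subgroup G) :
    M ⊔ Subgroup.centralizer (Cfsg.largestPReducedOf p M : Set G) ≤
      Subgroup.normalizer (Cfsg.largestPReducedOf p M : Set G) :=
  sup_le (le_normalizer_largestPReducedOf p M) (Subgroup.centralizer_le_normalizer _)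

theorem frakM_dagger_le_normalizer_centralizer (M : Subgroup G) :
    M ⊔ Subgroup.centralizer (Cfsg.largestPReducedOf p M : Set G) ≤
      Subgroup.normalizer
        ((Subgroup.centralizer (Cfsg.largestPReducedOf p M : Set G) : Subgroup G) : Set G) :=
  sup_le ((le_normalizer_largestPReducedOf p M).trans (normalizer_le_normalizer_centralizer _))
    Subgroup.le_normalizer

/-- `O_p(M)` is weakly closed in `S` with respect to `M†` -/
theorem frakM_wc_dagger (S : Sylow p G) {M : Subgroup G} (hSM : (S : Subgroup G) ≤ M)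
    (hM : Cfsg.IsInFrakM p M) {g : G}
    (hg : g ∈ M ⊔ Subgroup.centralizer (Cfsg.largestPReducedOf p M : Set G))
    (h : cj(g, Cfsg.pCoreOf p M) ≤ (S : Subgroup G)) :
    cj(g, Cfsg.pCoreOf p M) = Cfsg.pCoreOf p M := by
  have hO := pCoreOf_eq_sylow_inf_centralizer S hSM hM.2.2.2.2.1
  apply cj_eq_of_le
  have h3 : cj(g, Cfsg.pCoreOf p M) ≤
      cj(g, Subgroup.centralizer (Cfsg.largestPReducedOf p M : Set G)) := by
    apply cj_mono
    rw [hO]
    exact inf_le_right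
  rw [cj_eq_self_iff.mpr (frakM_dagger_le_normalizer_centralizer M hg)] at h3
  calc cj(g, Cfsg.pCoreOf p M)
      ≤ (S : Subgroup G) ⊓ Subgroup.centralizer (Cfsg.largestPReducedOf p M : Set G) :=
        le_inf h h3
    _ = Cfsg.pCoreOf p M := hO.symm

/-- asymmetric case: `N_G(L) ≤ M†` for `O_p(M) ≤ L ≤ S` -/
theorem frakM_asym_normalizer_le_dagger (S : Sylow p G) {Q : Subgroup G} (hQp : IsPGroup p ↥Q)
    (hQ1 : Q ≠ ⊥) (hQ : Cfsg.IsLarge Q) {M : Subgroup G} (hSM : (S : Subgroup G) ≤ M)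
    (hM : Cfsg.IsInFrakM p M) (hasym : ¬ Cfsg.IsSymmetricIn (Cfsg.largestPReducedOf p M))
    {L : Subgroup G} (hOL : Cfsg.pCoreOf p M ≤ L) (hLS : L ≤ (S : Subgroup G)) :
    Subgroup.normalizer (L : Set G) ≤
      M ⊔ Subgroup.centralizer (Cfsg.largestPReducedOf p M : Set G) := by
  by_cases hY : Cfsg.largestPReducedOf p M = ⊥
  · rw [hY, centralizer_bot_eq_top, sup_top_eq]
    exact le_top
  have hO := pCoreOf_eq_sylow_inf_centralizer S hSM hM.2.2.2.2.1
  have hOS : Cfsg.pCoreOf p M ≤ (S : Subgroup G) := pCoreOf_le_sylow S hSM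
  have hwords := asym_words hasym (largestPReducedOf_le_pCoreOf M)
    (hSM.trans (le_normalizer_largestPReducedOf p M)) hO.ge M (Subgroup.normalizer (L : Set G))
    (fun x hx => by rw [cj_eq_self_iff.mpr (le_normalizer_pCoreOf M hx)]; exact hOS)
    (fun x hx => by
      calc cj(x, Cfsg.pCoreOf p M) ≤ cj(x, L) := cj_mono hOL
        _ = L := cj_eq_self_iff.mpr hx
        _ ≤ S := hLS)
  set 𝒢 := M ⊔ Subgroup.normalizer (L : Set G) with h𝒢
  set W := ⨆ w : ↥𝒢, cj((w : G), Cfsg.largestPReducedOf p M) with hW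
  have hWO : W ≤ Cfsg.pCoreOf p M := iSup_le fun w => hwords w w.2
  have h𝒢W : 𝒢 ≤ Subgroup.normalizer (W : Set G) := by
    intro k hk
    rw [← cj_eq_self_iff]
    apply cj_eq_of_le
    rw [hW, Subgroup.map_iSup]
    apply iSup_le
    intro k'
    rw [cj_cj]
    exact le_iSup (fun w : ↥𝒢 => cj((w : G), Cfsg.largestPReducedOf p M)) (⟨k, hk⟩ * k')
  have hYW : Cfsg.largestPReducedOf p M ≤ W := by
    have := le_iSup (fun w : ↥𝒢 => cj((w : G), Cfsg.largestPReducedOf p M)) (1 : ↥𝒢)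
    have e : cj((((1 : ↥𝒢) : ↥𝒢) : G), Cfsg.largestPReducedOf p M) = Cfsg.largestPReducedOf p M := by
      rw [show (((1 : ↥𝒢) : ↥𝒢) : G) = 1 from rfl, cj_one]
    rw [e] at this
    exact this
  have hW𝒢 : W ≤ Cfsg.pCoreOf p 𝒢 :=
    le_pCoreOf (hWO.trans ((pCoreOf_le p M).trans le_sup_left))
      ((pCoreOf_isPGroup M).to_le hWO) h𝒢W
  have hne : Cfsg.pCoreOf p 𝒢 ≠ ⊥ := by
    intro h
    apply hY
    rw [← le_bot_iff, ← h]
    exact hYW.trans hW𝒢
  exact le_sup_right.trans (frakM_le_dagger S hQp hQ1 hQ hSM hM le_sup_left hne)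

/-- asymmetric case: `N_G(L) ≤ N_G(O_p(M))` for `O_p(M) ≤ L ≤ S` -/
theorem frakM_asym_normalizer_le (S : Sylow p G) {Q : Subgroup G} (hQp : IsPGroup p ↥Q)
    (hQ1 : Q ≠ ⊥) (hQ : Cfsg.IsLarge Q) {M : Subgroup G} (hSM : (S : Subgroup G) ≤ M)
    (hM : Cfsg.IsInFrakM p M) (hasym : ¬ Cfsg.IsSymmetricIn (Cfsg.largestPReducedOf p M))
    {L : Subgroup G} (hOL : Cfsg.pCoreOf p M ≤ L) (hLS : L ≤ (S : Subgroup G)) :
    Subgroup.normalizer (L : Set G) ≤ Subgroup.normalizer (Cfsg.pCoreOf p M : Set G) := by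
  intro n hn
  rw [← cj_eq_self_iff]
  apply frakM_wc_dagger S hSM hM
    (frakM_asym_normalizer_le_dagger S hQp hQ1 hQ hSM hM hasym hOL hLS hn)
  calc cj(n, Cfsg.pCoreOf p M) ≤ cj(n, L) := cj_mono hOL
    _ = L := cj_eq_self_iff.mpr hn
    _ ≤ S := hLS

/-- asymmetric case: `O_p(M)` is weakly closed in `S` with respect to `G` -/
theorem frakM_asym_wc (S : Sylow p G) {Q : Subgroup G} (hQp : IsPGroup p ↥Q) (hQ1 : Q ≠ ⊥)
    (hQ : Cfsg.IsLarge Q) {M : Subgroup G} (hSM : (S : Subgroup G) ≤ M)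
    (hM : Cfsg.IsInFrakM p M) (hasym : ¬ Cfsg.IsSymmetricIn (Cfsg.largestPReducedOf p M)) :
    Cfsg.IsWeaklyClosed (Cfsg.pCoreOf p M) (S : Subgroup G) := by
  have hP := fun (L : Subgroup G) hOL hLS =>
    frakM_asym_normalizer_le S hQp hQ1 hQ hSM hM hasym (L := L) hOL hLS
  set O := Cfsg.pCoreOf p M with hOdef
  have hOS : O ≤ (S : Subgroup G) := pCoreOf_le_sylow S hSM
  have hSO : (S : Subgroup G) ≤ Subgroup.normalizer (O : Set G) :=
    hSM.trans (le_normalizer_pCoreOf M)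
  refine ⟨hOS, fun g hg => ?_⟩
  have hSgB : cj(g, (S : Subgroup G)) ≤ Subgroup.normalizer ((cj(g, O) : Subgroup G) : Set G) := by
    rw [normalizer_cj]; exact cj_mono hSO
  have hSg : ((g • S : Sylow p G) : Subgroup G) ≤
      Subgroup.normalizer ((cj(g, O) : Subgroup G) : Set G) := by
    rw [sylow_smul_coe]; exact hSgB
  set B := cj(g, O) with hB
  set L' := (S : Subgroup G) ⊓ Subgroup.normalizer (B : Set G) with hL'
  obtain ⟨k, hk, hkR⟩ := exists_cj_le_sylow_subgroup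
    (S.isPGroup'.to_le inf_le_left : IsPGroup p ↥L')
    (inf_le_right : L' ≤ Subgroup.normalizer (B : Set G)) ((g • S).subtype hSg)
  have hkS : cj(k, L') ≤ cj(g, (S : Subgroup G)) := by
    refine hkR.trans ?_
    rintro _ ⟨x, hx, rfl⟩
    have := Subgroup.mem_subgroupOf.mp hx
    rw [sylow_smul_coe] at this
    exact this
  have hg'O : cj(k⁻¹ * g, O) = B := by
    rw [← cj_cj]; exact cj_eq_self_iff.mpr (Subgroup.inv_mem _ hk)
  have hL'S' : L' ≤ cj(k⁻¹ * g, (S : Subgroup G)) := by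
    have := cj_le_iff.mp hkS
    rwa [cj_cj] at this
  have hBL' : B ≤ L' := le_inf hg Subgroup.le_normalizer
  have hOL'' : O ≤ cj((k⁻¹ * g)⁻¹, L') := by
    rw [le_cj_iff, inv_inv, hg'O]; exact hBL'
  have hL''S : cj((k⁻¹ * g)⁻¹, L') ≤ (S : Subgroup G) := by
    rw [cj_le_iff, inv_inv]; exact hL'S'
  have hN := hP _ hOL'' hL''S
  have hNL'B : Subgroup.normalizer (L' : Set G) ≤ Subgroup.normalizer (B : Set G) := by
    have h1 := hN
    rw [normalizer_cj, cj_le_iff, inv_inv, ← normalizer_cj, hg'O] at h1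
    exact h1
  have hSL' : (S : Subgroup G) = L' :=
    eq_sylow_of_normalizer_inf_le S inf_le_left (le_inf inf_le_left (inf_le_right.trans hNL'B))
  have hSS' : cj(k⁻¹ * g, (S : Subgroup G)) = S := by
    apply cj_eq_of_ge
    calc (S : Subgroup G) = L' := hSL'
      _ ≤ cj(k⁻¹ * g, (S : Subgroup G)) := hL'S'
  have hg'N : k⁻¹ * g ∈ Subgroup.normalizer (O : Set G) :=
    hP (S : Subgroup G) hOS le_rfl (cj_eq_self_iff.mp hSS')
  rw [← hg'O]
  exact cj_eq_self_iff.mpr hg'N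

end frakm

end Cfsg.Agent.Helper47
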