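import Cfsg.Agent.Helper47.PCl2

set_option autoImplicit false

namespace Cfsg.Agent.Helper47

open scoped commutatorElement Pointwise

local notation "cj(" g "," Q ")" => Subgroup.map (MulEquiv.toMonoidHom (MulAut.conj g)) Q

section frakmex

variable {G : Type*} [Group G] [Finite G] {p : ℕ} [Fact p.Prime]

theorem cj_top (g : G) : cj(g, (⊤ : Subgroup G)) = ⊤ := by
  rw [cj_eq_self_iff]
  exact Subgroup.le_normalizer (Subgroup.mem_top g)

/-- the image of a normal subgroup `C` with normal Sylow intersection lies in the Frattini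
subgroup of `M / O_p(M)` if `M` is a minimal supplement of `C` containing the Sylow subgroup -/
theorem map_le_frattini_of_minimal_supplement {M : Type*} [Group M] [Finite M] (T : Sylow p M)
    (C : Subgroup M) [hCn : C.Normal] (hP : ((T : Subgroup M) ⊓ C).Normal)
    (hmin : ∀ K : Subgroup M, (T : Subgroup M) ≤ K → K ⊔ C = ⊤ → K = ⊤) :
    C.map (QuotientGroup.mk' (Cfsg.pCore p M)) ≤ frattini (M ⧸ Cfsg.pCore p M) := by
  rw [frattini, Order.radical]
  simp only [le_iInf_iff]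
  intro Kb hKb
  rw [Subgroup.map_le_iff_le_comap]
  set K := Kb.comap (QuotientGroup.mk' (Cfsg.pCore p M)) with hK
  have hKc : IsCoatom K := isCoatom_comap_mk' hKb
  have hOK : Cfsg.pCore p M ≤ K := by
    have h1 := Subgroup.ker_le_comap (QuotientGroup.mk' (Cfsg.pCore p M)) Kb
    rwa [QuotientGroup.ker_mk'] at h1
  by_contra hCK
  have hsup : K ⊔ C = ⊤ :=
    hKc.2 _ (lt_of_le_of_ne le_sup_left (fun h => hCK (by rw [h]; exact le_sup_right)))
  have hPK : (T : Subgroup M) ⊓ C ≤ K :=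
    (le_pCore hP (T.isPGroup'.to_le inf_le_left)).trans hOK
  have hidx : ¬ p ∣ K.index := by
    have h1 : K.index = K.relIndex C := by
      rw [← relIndex_sup_of_normal K C, hsup, Subgroup.relIndex_top_right]
    have h2 : K.relIndex C ∣ ((T : Subgroup M) ⊓ C).relIndex C := by
      rw [← Subgroup.inf_relIndex_right K C]
      exact Subgroup.relIndex_dvd_of_le_left C (le_inf hPK inf_le_right)
    have h3 : ¬ p ∣ ((T : Subgroup M) ⊓ C).relIndex C := by
      rw [Subgroup.inf_relIndex_right]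
      exact (sylowInfNormal T C).not_dvd_index
    rw [h1]
    exact fun h => h3 (h.trans h2)
  obtain ⟨q, hq⟩ := T.isPGroup'.nonempty_fixed_point_of_prime_not_dvd_card (M ⧸ K)
    (by rwa [← Subgroup.index_eq_card])
  obtain ⟨m, rfl⟩ := QuotientGroup.mk_surjective q
  have hTm : ∀ t ∈ (T : Subgroup M), m⁻¹ * t * m ∈ K := by
    intro t ht
    have h1 := hq ⟨t, ht⟩
    have h2 : ((t * m : M) : M ⧸ K) = (m : M ⧸ K) := h1
    rw [QuotientGroup.eq] at h2
    have h3 := K.inv_mem h2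
    have e : ((t * m)⁻¹ * m)⁻¹ = m⁻¹ * t * m := by group
    rwa [e] at h3
  have hm : m ∈ ((C ⊔ K : Subgroup M) : Set M) := by
    rw [sup_comm, hsup]; exact Subgroup.mem_top m
  rw [Subgroup.normal_mul] at hm
  obtain ⟨c, hc, k, hk, rfl⟩ := Set.mem_mul.mp hm
  have hTc : (T : Subgroup M) ≤ cj(c, K) := by
    intro t ht
    rw [mem_cj]
    have h1 := hTm t ht
    have e : c⁻¹ * t * c = k * ((c * k)⁻¹ * t * (c * k)) * k⁻¹ := by group
    rw [e]
    exact K.mul_mem (K.mul_mem hk h1) (K.inv_mem hk)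
  have hsup' : cj(c, K) ⊔ C = ⊤ := by
    have h1 : cj(c, K) ⊔ cj(c, C) = cj(c, K ⊔ C) := (cj_sup c K C).symm
    rw [cj_of_normal c C, hsup, cj_top] at h1
    exact h1
  have htop := hmin _ hTc hsup'
  apply hKc.1
  have h2 : cj(c⁻¹, cj(c, K)) = cj(c⁻¹, ⊤) := by rw [htop]
  rw [cj_cj, inv_mul_cancel, cj_one, cj_top] at h2
  exact h2

theorem mem_charPSubgroups_iff (L : Subgroup G) :
    L ∈ Cfsg.charPSubgroups p G ↔ Cfsg.pCoreOf p L ≠ ⊥ ∧
      Subgroup.centralizer (Cfsg.pCoreOf p L : Set G) ≤ Cfsg.pCoreOf p L := by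
  unfold Cfsg.charPSubgroups
  rw [Set.mem_setOf_eq, pCore_ne_bot_iff]
  rfl

theorem charPIn_of_mem {L : Subgroup G} (hL : L ∈ Cfsg.charPSubgroups p G) :
    L ⊓ Subgroup.centralizer (Cfsg.pCoreOf p L : Set G) ≤ Cfsg.pCoreOf p L :=
  inf_le_right.trans ((mem_charPSubgroups_iff L).mp hL).2

/-- subgroups of members of `𝓛` containing a Sylow subgroup are again in `𝓛` -/
theorem charPSubgroups_of_le (T : Sylow p G) {R X : Subgroup G} (hTR : (T : Subgroup G) ≤ R)
    (hRX : R ≤ X) (hX : X ∈ Cfsg.charPSubgroups p G) : R ∈ Cfsg.charPSubgroups p G := by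
  rw [mem_charPSubgroups_iff] at hX ⊢
  have hO : Cfsg.pCoreOf p X ≤ Cfsg.pCoreOf p R :=
    le_pCoreOf ((pCoreOf_le_sylow T (hTR.trans hRX)).trans hTR) (pCoreOf_isPGroup X)
      (hRX.trans (le_normalizer_pCoreOf X))
  refine ⟨fun h => hX.1 (le_bot_iff.mp (h ▸ hO)), ?_⟩
  exact (Subgroup.centralizer_le (SetLike.coe_subset_coe.mpr hO)).trans (hX.2.trans hO)

/-- `Y_R ≤ Y_X` for `T ≤ R ≤ X` with `X` of characteristic `p` -/
theorem largestPReducedOf_mono_of_sylow (T : Sylow p G) {R X : Subgroup G}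
    (hTR : (T : Subgroup G) ≤ R) (hRX : R ≤ X)
    (hX : X ⊓ Subgroup.centralizer (Cfsg.pCoreOf p X : Set G) ≤ Cfsg.pCoreOf p X) :
    Cfsg.largestPReducedOf p R ≤ Cfsg.largestPReducedOf p X := by
  have hTX := hTR.trans hRX
  set V := Cfsg.largestPReducedOf p R with hV
  have hO : Cfsg.pCoreOf p X ≤ Cfsg.pCoreOf p R :=
    le_pCoreOf ((pCoreOf_le_sylow T hTX).trans hTR) (pCoreOf_isPGroup X)
      (hRX.trans (le_normalizer_pCoreOf X))
  set Z₁ := Cfsg.omegaOne p (Cfsg.pCoreOf p X ⊓ Subgroup.centralizer (Cfsg.pCoreOf p X : Set G))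
    with hZ₁
  have hVZ : V ≤ Z₁ := by
    intro v hv
    have h1 := largestPReducedOf_le_omegaOne_center (p := p) R hv
    have h2 := omegaOne_le p _ h1
    have hvC : v ∈ Subgroup.centralizer (Cfsg.pCoreOf p X : Set G) :=
      Subgroup.centralizer_le (SetLike.coe_subset_coe.mpr hO) (Subgroup.mem_inf.mp h2).2
    have hvX : v ∈ X := hRX (largestPReducedOf_le p R hv)
    apply mem_omegaOne
    · exact Subgroup.mem_inf.mpr ⟨hX (Subgroup.mem_inf.mpr ⟨hvX, hvC⟩), hvC⟩
    · exact (largestPReducedOf_isElementaryAbelian (p := p) R).2 v hv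
  have hZ₁n := le_normalizer_omegaOne_center_pCoreOf (p := p) X
  have hZ₁X : Z₁ ≤ X := (omegaOne_le p _).trans (inf_le_left.trans (pCoreOf_le p X))
  set W := ⨆ x : ↥X, cj((x : G), V) with hW
  have hWZ : W ≤ Z₁ := by
    apply iSup_le
    intro x
    calc cj((x : G), V) ≤ cj((x : G), Z₁) := cj_mono hVZ
      _ = Z₁ := cj_eq_self_iff.mpr (hZ₁n x.2)
  have hVW : V ≤ W := le_iSup_cj X V
  have hred : PRedIn p X W := by
    refine PRedIn_of_generated (A := V) (T.subtype hTX) (hWZ.trans hZ₁X)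
      (le_normalizer_iSup_cj X V)
      (IsElementaryAbelian_of_le (omegaOne_center_isElementaryAbelian p _) hWZ) hVW ?_ ?_
    · intro X' h
      exact iSup_le fun l => h l l.2
    · intro D hDX hXD hpow
      rw [sylow_subtype_map T hTX]
      have hRD : R ≤ Subgroup.normalizer ((R ⊓ D : Subgroup G) : Set G) := by
        intro r hr
        rw [← cj_eq_self_iff, cj_inf, cj_eq_self_of_mem hr, cj_eq_self_iff.mpr (hXD (hRX hr))]
      have h1 := (PRedIn_largestPReducedOf (p := p) R).2.2.2 (R ⊓ D) inf_le_left hRD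
        (fun d hd => by
          obtain ⟨k, hk⟩ := hpow d (Subgroup.mem_inf.mp hd).2
          exact ⟨k, Subgroup.centralizer_le (SetLike.coe_subset_coe.mpr hVW) hk⟩)
      exact (inf_le_inf_right D hTR).trans h1
  exact hVW.trans (PRedIn_le_largestPReducedOf hred)

/-- `Y_X ≠ 1` for `X ∈ 𝓛` containing a Sylow subgroup -/
theorem largestPReducedOf_ne_bot (T : Sylow p G) {X : Subgroup G} (hTX : (T : Subgroup G) ≤ X)
    (hX : X ∈ Cfsg.charPSubgroups p G) : Cfsg.largestPReducedOf p X ≠ ⊥ := by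
  have hX' := (mem_charPSubgroups_iff X).mp hX
  have hT1 : (T : Subgroup G) ≠ ⊥ := fun h => hX'.1 (le_bot_iff.mp (h ▸ pCoreOf_le_sylow T hTX))
  have hZ1 := center_ne_bot_of_isPGroup T.isPGroup' hT1
  set Z := (T : Subgroup G) ⊓ Subgroup.centralizer ((T : Subgroup G) : Set G) with hZ
  obtain ⟨z, hz1⟩ := (Subgroup.ne_bot_iff_exists_ne_one (H := Z)).mp hZ1
  have hzZ : (z : G) ∈ Z := z.2
  have hz1' : (z : G) ≠ 1 := fun h => hz1 (Subtype.ext h)
  obtain ⟨k, hk⟩ := (IsPGroup.iff_orderOf.mp (T.isPGroup'.to_le (inf_le_left : Z ≤ T))) z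
  have hk' : orderOf (z : G) = p ^ k := by rw [Subgroup.orderOf_coe]; exact hk
  have hk0 : k ≠ 0 := by
    intro h0
    rw [h0, pow_zero, orderOf_eq_one_iff] at hk'
    exact hz1' hk'
  obtain ⟨j, rfl⟩ := Nat.exists_eq_succ_of_ne_zero hk0
  set w := (z : G) ^ (p ^ j) with hw
  have hwp : w ^ p = 1 := by
    rw [hw, ← pow_mul, ← pow_succ, ← hk', pow_orderOf_eq_one]
  have hw1 : w ≠ 1 := by
    apply pow_ne_one_of_lt_orderOf (pow_ne_zero _ (Fact.out : p.Prime).ne_zero)
    rw [hk']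
    exact Nat.pow_lt_pow_right (Fact.out : p.Prime).one_lt (Nat.lt_succ_self j)
  have hwZ : w ∈ Cfsg.omegaOne p Z := mem_omegaOne (Z.pow_mem hzZ _) hwp
  have hwY : w ∈ Cfsg.largestPReducedOf p X :=
    sylowCenterClosure_le_largestPReducedOf (charPIn_of_mem hX)
      (omegaOne_center_sylow_le_sylowCenterClosure T hTX hwZ)
  intro hbot
  rw [hbot, Subgroup.mem_bot] at hwY
  exact hw1 hwY

end frakmex

end Cfsg.Agent.Helper47
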