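import Cfsg.Agent.Helper47.FrakMEx

set_option autoImplicit false

namespace Cfsg.Agent.Helper47

open scoped commutatorElement Pointwise

local notation "cj(" g "," Q ")" => Subgroup.map (MulEquiv.toMonoidHom (MulAut.conj g)) Q

section frakmex2

variable {G : Type*} [Group G] [Finite G] {p : ℕ} [Fact p.Prime]

/-- existence of `M ∈ 𝔐_G` and `L*` for `L ∈ 𝓛_G` containing the Sylow subgroup `T`, provided
the normalizers `N(Y_X)` for `X ∈ 𝓛_G` containing `T` are again in `𝓛_G` -/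
theorem exists_frakM (T : Sylow p G)
    (hPC : ∀ X : Subgroup G, X ∈ Cfsg.charPSubgroups p G → (T : Subgroup G) ≤ X →
      Subgroup.normalizer (Cfsg.largestPReducedOf p X : Set G) ∈ Cfsg.charPSubgroups p G)
    {L : Subgroup G} (hTL : (T : Subgroup G) ≤ L) (hL : L ∈ Cfsg.charPSubgroups p G) :
    ∃ M Ls : Subgroup G, (T : Subgroup G) ≤ M ∧ Cfsg.IsInFrakM p M ∧ (T : Subgroup G) ≤ Ls ∧
      Ls ≤ M ∧ Ls ∈ Cfsg.charPSubgroups p G ∧
      Cfsg.largestPReducedOf p L = Cfsg.largestPReducedOf p Ls ∧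
      Cfsg.largestPReducedOf p L ≤ Cfsg.largestPReducedOf p M ∧
      L ⊔ Subgroup.centralizer (Cfsg.largestPReducedOf p L : Set G) =
        Ls ⊔ Subgroup.centralizer (Cfsg.largestPReducedOf p L : Set G) := by
  classical
  set V := Cfsg.largestPReducedOf p L with hV
  set C := Subgroup.centralizer (V : Set G) with hC
  set Ld := L ⊔ C with hLd
  have hLcp := charPIn_of_mem hL
  have hLNV : L ≤ Subgroup.normalizer (V : Set G) := le_normalizer_largestPReducedOf p L
  have hLNC : L ≤ Subgroup.normalizer (C : Set G) :=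
    hLNV.trans (normalizer_le_normalizer_centralizer V)
  have hTLd : (T : Subgroup G) ≤ Ld := hTL.trans le_sup_left
  have hTNC : (T : Subgroup G) ≤
      Subgroup.normalizer ((((T : Subgroup G) ⊓ C : Subgroup G)) : Set G) := by
    intro t ht
    rw [← cj_eq_self_iff, cj_inf, cj_eq_self_of_mem ht, cj_eq_self_iff.mpr (hLNC (hTL ht))]
  let F : Set (Subgroup G) :=
    {X | X ∈ Cfsg.charPSubgroups p G ∧ (T : Subgroup G) ≤ X ∧ Ld = (X ⊓ Ld) ⊔ C}
  have hLF : L ∈ F := ⟨hL, hTL, by rw [inf_eq_left.mpr (le_sup_left : L ≤ Ld)]⟩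
  have hcand_mono : ∀ X X' : Subgroup G, X ≤ X' → Ld = (X ⊓ Ld) ⊔ C → Ld = (X' ⊓ Ld) ⊔ C := by
    intro X X' hle h
    apply le_antisymm
    · calc Ld = (X ⊓ Ld) ⊔ C := h
        _ ≤ (X' ⊓ Ld) ⊔ C := sup_le_sup_right (inf_le_inf_right _ hle) _
    · exact sup_le inf_le_right le_sup_right
  have hstar : ∀ X ∈ F, ∃ Ls : Subgroup G, (T : Subgroup G) ≤ Ls ∧ Ls ≤ X ∧
      Cfsg.largestPReducedOf p Ls = V ∧ Ld = Ls ⊔ C := by
    intro X hX
    obtain ⟨h1, h2⟩ := largestPReducedOf_star T hTL (le_inf hX.2.1 hTLd) hLcp hX.2.2.symm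
    exact ⟨_, le_inf (le_inf hX.2.1 hTLd) hTNC, inf_le_left.trans inf_le_left, h1, h2⟩
  have hVle : ∀ X ∈ F, V ≤ Cfsg.largestPReducedOf p X := by
    intro X hX
    obtain ⟨Ls, hTLs, hLsX, hY, -⟩ := hstar X hX
    rw [← hY]
    exact largestPReducedOf_mono_of_sylow T hTLs hLsX (charPIn_of_mem hX.1)
  haveI : Nonempty ↥F := ⟨⟨L, hLF⟩⟩
  obtain ⟨⟨X₀, hX₀⟩, hmax⟩ := Finite.exists_max
    (fun X : ↥F => Nat.card ↥(Cfsg.largestPReducedOf p (X : Subgroup G)))
  set Y := Cfsg.largestPReducedOf p X₀ with hY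
  set CY := Subgroup.centralizer (Y : Set G) with hCY
  set Mt := Subgroup.normalizer (Y : Set G) with hMt
  have hMtL : Mt ∈ Cfsg.charPSubgroups p G := hPC X₀ hX₀.1 hX₀.2.1
  have hX₀Mt : X₀ ≤ Mt := le_normalizer_largestPReducedOf p X₀
  have hTMt : (T : Subgroup G) ≤ Mt := hX₀.2.1.trans hX₀Mt
  have hMtF : Mt ∈ F := ⟨hMtL, hTMt, hcand_mono _ _ hX₀Mt hX₀.2.2⟩
  have hmax' : ∀ X ∈ F, Y ≤ Cfsg.largestPReducedOf p X → Cfsg.largestPReducedOf p X = Y := by
    intro X hX hle
    exact (Subgroup.eq_of_le_of_card_ge hle (hmax ⟨X, hX⟩)).symm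
  have hYMt : Cfsg.largestPReducedOf p Mt = Y :=
    hmax' Mt hMtF (largestPReducedOf_mono_of_sylow T hX₀.2.1 hX₀Mt (charPIn_of_mem hMtL))
  have hVY : V ≤ Y := hVle X₀ hX₀
  have hCYC : CY ≤ C := Subgroup.centralizer_le (SetLike.coe_subset_coe.mpr hVY)
  have hCYMt : CY ≤ Mt := Subgroup.centralizer_le_normalizer _
  have hMtNCY : Mt ≤ Subgroup.normalizer (CY : Set G) := normalizer_le_normalizer_centralizer Y
  have hYT : Y ≤ (T : Subgroup G) :=
    (largestPReducedOf_le_pCoreOf X₀).trans (pCoreOf_le_sylow T hX₀.2.1)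
  let 𝒢 : Set (Subgroup G) := {M | (T : Subgroup G) ≤ M ∧ M ≤ Mt ∧ M ⊔ CY = Mt}
  have hMt𝒢 : Mt ∈ 𝒢 := ⟨hTMt, le_rfl, sup_eq_left.mpr hCYMt⟩
  obtain ⟨M, -, hMmin⟩ := (Set.toFinite 𝒢).exists_le_minimal hMt𝒢
  obtain ⟨hTM, hMMt, hMsup⟩ := hMmin.prop
  have hMNCY : M ≤ Subgroup.normalizer (CY : Set G) := hMMt.trans hMtNCY
  have hML : M ∈ Cfsg.charPSubgroups p G := charPSubgroups_of_le T hTM hMMt hMtL
  have hYM : Cfsg.largestPReducedOf p M = Y := by
    apply le_antisymm
    · rw [← hYMt]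
      exact largestPReducedOf_mono_of_sylow T hTM hMMt (charPIn_of_mem hMtL)
    · apply PRedIn_le_largestPReducedOf
      have h1 : PRedIn p Mt Y := by rw [← hYMt]; exact PRedIn_largestPReducedOf Mt
      exact PRedIn_of_sup_centralizer_eq h1 (hYT.trans hTM)
        (by rw [hMsup]; exact (sup_eq_left.mpr hCYMt).symm)
  have hMcand : Ld = (M ⊓ Ld) ⊔ C := by
    apply le_antisymm
    · calc Ld = (Mt ⊓ Ld) ⊔ C := hMtF.2.2
        _ ≤ (M ⊓ Ld) ⊔ C := by
          refine sup_le ?_ le_sup_right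
          intro x hx
          obtain ⟨hxMt, hxLd⟩ := Subgroup.mem_inf.mp hx
          have hx' : x ∈ ((M ⊔ CY : Subgroup G) : Set G) := by rw [hMsup]; exact hxMt
          rw [Subgroup.coe_mul_of_left_le_normalizer_right M CY hMNCY] at hx'
          obtain ⟨m, hm, c₀, hc₀, rfl⟩ := Set.mem_mul.mp hx'
          have hc₀C : c₀ ∈ C := hCYC hc₀
          have hmLd : m ∈ Ld := by
            have e : m = (m * c₀) * c₀⁻¹ := by group
            rw [e]
            exact Ld.mul_mem hxLd (Ld.inv_mem ((le_sup_right : C ≤ Ld) hc₀C))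
          exact Subgroup.mul_mem _ (Subgroup.mem_sup_left (Subgroup.mem_inf.mpr ⟨hm, hmLd⟩))
            (Subgroup.mem_sup_right hc₀C)
    · exact sup_le inf_le_right le_sup_right
  have hMF : M ∈ F := ⟨hML, hTM, hMcand⟩
  have hTNCY : (T : Subgroup G) ≤
      Subgroup.normalizer ((((T : Subgroup G) ⊓ CY : Subgroup G)) : Set G) := by
    intro t ht
    rw [← cj_eq_self_iff, cj_inf, cj_eq_self_of_mem ht, cj_eq_self_iff.mpr (hMNCY (hTM ht))]
  have hMT₁ : M ≤ Subgroup.normalizer ((((T : Subgroup G) ⊓ CY : Subgroup G)) : Set G) := by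
    have hM₁ : M ⊓ Subgroup.normalizer ((((T : Subgroup G) ⊓ CY : Subgroup G)) : Set G) ∈ 𝒢 := by
      refine ⟨le_inf hTM hTNCY, inf_le_left.trans hMMt, ?_⟩
      apply le_antisymm
      · exact sup_le (inf_le_left.trans hMMt) hCYMt
      · rw [← hMsup]
        refine sup_le ?_ le_sup_right
        exact (frattini_inf T hTM hMNCY).trans (sup_le (inf_le_right.trans le_sup_right) le_sup_left)
    exact (hMmin.le_of_le hM₁ inf_le_left).trans inf_le_right
  have hMK : M ≤ Subgroup.normalizer ((M ⊓ CY : Subgroup G) : Set G) := by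
    intro m hm
    rw [← cj_eq_self_iff, cj_inf, cj_eq_self_of_mem hm, cj_eq_self_iff.mpr (hMNCY hm)]
  have hMdag : M ⊔ Subgroup.centralizer (Cfsg.largestPReducedOf p M : Set G) = Mt := by
    rw [hYM]; exact hMsup
  have hfrakM : Cfsg.IsInFrakM p M := by
    unfold Cfsg.IsInFrakM
    rw [hMdag, hYM]
    refine ⟨hML, ⟨hMtL, ?_⟩, ?_, hYMt.symm, ?_, ?_⟩
    · intro X' hX' hle
      have hX'F : X' ∈ F := ⟨hX', hTMt.trans hle, hcand_mono _ _ hle hMtF.2.2⟩
      have h1 : Y ≤ Cfsg.largestPReducedOf p X' := by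
        rw [← hYMt]; exact largestPReducedOf_mono_of_sylow T hTMt hle (charPIn_of_mem hX')
      have h2 := hmax' X' hX'F h1
      apply le_antisymm _ hle
      calc X' ≤ Subgroup.normalizer (Cfsg.largestPReducedOf p X' : Set G) :=
            le_normalizer_largestPReducedOf p X'
        _ = Mt := by rw [h2]
    · intro X hX hMX
      have hXF : X ∈ F := ⟨hX.1, hTM.trans hMX, hcand_mono _ _ hMX hMcand⟩
      have h1 : Y ≤ Cfsg.largestPReducedOf p X := by
        rw [← hYM]; exact largestPReducedOf_mono_of_sylow T hTM hMX (charPIn_of_mem hX.1)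
      have h2 := hmax' X hXF h1
      have h3 : X ≤ Mt := by
        calc X ≤ Subgroup.normalizer (Cfsg.largestPReducedOf p X : Set G) :=
              le_normalizer_largestPReducedOf p X
          _ = Mt := by rw [h2]
      exact (hX.2 Mt hMtL h3).symm
    · obtain ⟨P, hP⟩ := sylow_inf_subgroupOf T (hTM.trans hMK)
      apply isPClosed_of_normal_sylow P
      rw [hP]
      constructor
      intro n hn g
      rw [Subgroup.mem_subgroupOf] at hn ⊢
      have hn' : (n : G) ∈ (T : Subgroup G) ⊓ CY :=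
        Subgroup.mem_inf.mpr ⟨hn, (Subgroup.mem_inf.mp n.2).2⟩
      have hg : (g : G) ∈ Subgroup.normalizer ((((T : Subgroup G) ⊓ CY : Subgroup G)) : Set G) :=
        hMT₁ (Subgroup.mem_inf.mp g.2).1
      have h1 := (Subgroup.mem_normalizer_iff.mp hg (n : G)).mp hn'
      exact (Subgroup.mem_inf.mp h1).1
    · haveI hCn : ((M ⊓ CY).subgroupOf M).Normal :=
        (Subgroup.normal_subgroupOf_iff_le_normalizer inf_le_left).mpr hMK
      apply map_le_frattini_of_minimal_supplement (T.subtype hTM) ((M ⊓ CY).subgroupOf M)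
      · constructor
        intro n hn g
        obtain ⟨hn1, hn2⟩ := Subgroup.mem_inf.mp hn
        have hn1' : (n : G) ∈ (T : Subgroup G) := Subgroup.mem_subgroupOf.mp hn1
        have hn2' : (n : G) ∈ M ⊓ CY := Subgroup.mem_subgroupOf.mp hn2
        have hn' : (n : G) ∈ (T : Subgroup G) ⊓ CY :=
          Subgroup.mem_inf.mpr ⟨hn1', (Subgroup.mem_inf.mp hn2').2⟩
        have hg := hMT₁ g.2
        have h1 := (Subgroup.mem_normalizer_iff.mp hg (n : G)).mp hn'
        have hN := hCn.conj_mem n hn2 g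
        exact Subgroup.mem_inf.mpr ⟨Subgroup.mem_subgroupOf.mpr (Subgroup.mem_inf.mp h1).1, hN⟩
      · intro K hTK hKsup
        have hK𝒢 : K.map M.subtype ∈ 𝒢 := by
          refine ⟨?_, (Subgroup.map_subtype_le K).trans hMMt, ?_⟩
          · intro t ht
            exact ⟨⟨t, hTM ht⟩, hTK (Subgroup.mem_subgroupOf.mpr ht), rfl⟩
          · apply le_antisymm
            · exact sup_le ((Subgroup.map_subtype_le K).trans hMMt) hCYMt
            · have h1 : (K ⊔ (M ⊓ CY).subgroupOf M).map M.subtype = M := by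
                rw [hKsup, ← MonoidHom.range_eq_map, Subgroup.range_subtype]
              rw [Subgroup.map_sup, Subgroup.subgroupOf_map_subtype] at h1
              rw [← hMsup]
              refine sup_le ?_ le_sup_right
              calc M = K.map M.subtype ⊔ (M ⊓ CY ⊓ M) := h1.symm
                _ ≤ K.map M.subtype ⊔ CY := sup_le_sup_left (inf_le_left.trans inf_le_right) _
        have hle := hMmin.le_of_le hK𝒢 (Subgroup.map_subtype_le K)
        rw [eq_top_iff]
        intro x _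
        obtain ⟨y, hy, hyx⟩ := hle x.2
        have : y = x := Subtype.ext hyx
        rw [← this]; exact hy
  obtain ⟨Ls, hTLs, hLsM, hYLs, hLdLs⟩ := hstar M hMF
  refine ⟨M, Ls, hTM, hfrakM, hTLs, hLsM, charPSubgroups_of_le T hTLs hLsM hML, hYLs.symm, ?_,
    hLdLs⟩
  rw [hYM]; exact hVY

end frakmex2

end Cfsg.Agent.Helper47
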