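import Cfsg.Agent.Helper47.FrakMEx2

set_option autoImplicit false

namespace Cfsg.Agent.Helper47

open scoped commutatorElement Pointwise

local notation "cj(" g "," Q ")" => Subgroup.map (MulEquiv.toMonoidHom (MulAut.conj g)) Q

section frakmex3

variable {G : Type*} [Group G] [Finite G] {p : ℕ} [Fact p.Prime]

theorem normalizer_largestPReducedOf_mem_charPSubgroups (T : Sylow p G) {X : Subgroup G}
    (hTX : (T : Subgroup G) ≤ X) (hX : X ∈ Cfsg.charPSubgroups p G)
    (h : Subgroup.normalizer (Cfsg.largestPReducedOf p X : Set G) ⊓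
        Subgroup.centralizer
          (Cfsg.pCoreOf p (Subgroup.normalizer (Cfsg.largestPReducedOf p X : Set G)) : Set G) ≤
      Cfsg.pCoreOf p (Subgroup.normalizer (Cfsg.largestPReducedOf p X : Set G))) :
    Subgroup.normalizer (Cfsg.largestPReducedOf p X : Set G) ∈ Cfsg.charPSubgroups p G := by
  set R := Cfsg.largestPReducedOf p X with hR
  have hR1 : R ≠ ⊥ := largestPReducedOf_ne_bot T hTX hX
  have hRp : IsPGroup p ↥R := (pCoreOf_isPGroup X).to_le (largestPReducedOf_le_pCoreOf X)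
  have hRO : R ≤ Cfsg.pCoreOf p (Subgroup.normalizer (R : Set G)) :=
    le_pCoreOf Subgroup.le_normalizer hRp le_rfl
  rw [mem_charPSubgroups_iff]
  refine ⟨fun hbot => hR1 (le_bot_iff.mp (hbot ▸ hRO)), fun x hx => ?_⟩
  apply h
  refine Subgroup.mem_inf.mpr ⟨?_, hx⟩
  exact Subgroup.centralizer_le_normalizer _
    (Subgroup.centralizer_le (SetLike.coe_subset_coe.mpr hRO) hx)

/-- existence of `M ∈ 𝔐_G` in a group of parabolic characteristic `p` -/
theorem exists_frakM_of_parabolic (hG : Cfsg.IsOfParabolicCharacteristic p G) (T : Sylow p G)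
    {L : Subgroup G} (hTL : (T : Subgroup G) ≤ L) (hL : L ∈ Cfsg.charPSubgroups p G) :
    ∃ M Ls : Subgroup G, (T : Subgroup G) ≤ M ∧ Cfsg.IsInFrakM p M ∧ (T : Subgroup G) ≤ Ls ∧
      Ls ≤ M ∧ Ls ∈ Cfsg.charPSubgroups p G ∧
      Cfsg.largestPReducedOf p L = Cfsg.largestPReducedOf p Ls ∧
      Cfsg.largestPReducedOf p L ≤ Cfsg.largestPReducedOf p M ∧
      L ⊔ Subgroup.centralizer (Cfsg.largestPReducedOf p L : Set G) =
        Ls ⊔ Subgroup.centralizer (Cfsg.largestPReducedOf p L : Set G) := by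
  apply exists_frakM T _ hTL hL
  intro X hX hTX
  apply normalizer_largestPReducedOf_mem_charPSubgroups T hTX hX
  rw [← charP_subtype_iff]
  apply hG _ ((pCoreOf_isPGroup X).to_le (largestPReducedOf_le_pCoreOf X))
    (largestPReducedOf_ne_bot T hTX hX)
  exact ⟨T, hTX.trans (le_normalizer_largestPReducedOf p X)⟩

theorem weakClosure_mono (Q : Subgroup G) {A B : Subgroup G} (h : A ≤ B) :
    Cfsg.weakClosure Q A ≤ Cfsg.weakClosure Q B := by
  unfold Cfsg.weakClosure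
  apply iSup_le
  rintro ⟨g, hg⟩
  exact le_weakClosure (hg.trans h)

theorem weakClosure_le_of_le_sup {Q : Subgroup G} (hQp : IsPGroup p ↥Q)
    (hwc : Cfsg.IsWeaklyClosedSubgroup p Q) {A B C : Subgroup G} (hQA : Q ≤ A) (hQB : Q ≤ B)
    (hAB : A ≤ B ⊔ C) (hBC : B ≤ Subgroup.normalizer (C : Set G))
    (hCQ : C ≤ Subgroup.normalizer (Q : Set G)) :
    Cfsg.weakClosure Q A ≤ Cfsg.weakClosure Q B := by
  unfold Cfsg.weakClosure
  apply iSup_le
  rintro ⟨g, hg⟩
  obtain ⟨a, ha, hga⟩ := wc_conj_in_subgroup hQp hwc hQA hg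
  have ha' : a ∈ ((B ⊔ C : Subgroup G) : Set G) := hAB ha
  rw [Subgroup.coe_mul_of_left_le_normalizer_right B C hBC] at ha'
  obtain ⟨b, hb, c, hc, rfl⟩ := Set.mem_mul.mp ha'
  show cj(g, Q) ≤ _
  rw [hga, ← cj_cj, cj_eq_self_iff.mpr (hCQ hc)]
  apply le_weakClosure
  calc cj(b, Q) ≤ cj(b, B) := cj_mono hQB
    _ = B := cj_eq_self_of_mem hb

/-- existence of `M ∈ 𝔐_G` and `L*` in the presence of a large `p`-subgroup -/
theorem exists_frakM_of_isLarge {Q : Subgroup G} (hQp : IsPGroup p ↥Q) (hQ1 : Q ≠ ⊥)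
    (hLg : Cfsg.IsLarge Q) (S : Sylow p G) (hQS : Q ≤ (S : Subgroup G))
    {L : Subgroup G} (hSL : (S : Subgroup G) ≤ L) (hL : L ∈ Cfsg.charPSubgroups p G) :
    ∃ M Ls : Subgroup G, (S : Subgroup G) ≤ M ∧ Cfsg.IsInFrakM p M ∧ (S : Subgroup G) ≤ Ls ∧
      Ls ≤ M ∧ Ls ∈ Cfsg.charPSubgroups p G ∧
      L ⊔ Subgroup.centralizer (Cfsg.largestPReducedOf p L : Set G) =
        Ls ⊔ Subgroup.centralizer (Cfsg.largestPReducedOf p L : Set G) ∧
      Cfsg.weakClosure Q L = Cfsg.weakClosure Q Ls ∧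
      Cfsg.weakClosure Q Ls ≤ Cfsg.weakClosure Q M ∧
      Cfsg.largestPReducedOf p L = Cfsg.largestPReducedOf p Ls ∧
      Cfsg.largestPReducedOf p Ls ≤ Cfsg.largestPReducedOf p M ∧
      (¬ L ≤ Subgroup.normalizer (Q : Set G) →
        ¬ Ls ≤ Subgroup.normalizer (Q : Set G) ∧ ¬ M ≤ Subgroup.normalizer (Q : Set G)) := by
  have hPC : ∀ X : Subgroup G, X ∈ Cfsg.charPSubgroups p G → (S : Subgroup G) ≤ X →
      Subgroup.normalizer (Cfsg.largestPReducedOf p X : Set G) ∈ Cfsg.charPSubgroups p G := by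
    intro X hX hSX
    have hR1 := largestPReducedOf_ne_bot S hSX hX
    have hRp : IsPGroup p ↥(Cfsg.largestPReducedOf p X) :=
      (pCoreOf_isPGroup X).to_le (largestPReducedOf_le_pCoreOf X)
    have hRO : Cfsg.largestPReducedOf p X ≤
        Cfsg.pCoreOf p (Subgroup.normalizer (Cfsg.largestPReducedOf p X : Set G)) :=
      le_pCoreOf Subgroup.le_normalizer hRp le_rfl
    apply normalizer_largestPReducedOf_mem_charPSubgroups S hSX hX
    refine inf_le_right.trans (isLarge_parabolic_charP hQp hQ1 hLg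
      ⟨S, hSX.trans (le_normalizer_largestPReducedOf p X)⟩ ?_)
    exact fun hbot => hR1 (le_bot_iff.mp (hbot ▸ hRO))
  obtain ⟨M, Ls, hSM, hM, hSLs, hLsM, hLsL, hY, hYM, hfac⟩ := exists_frakM S hPC hSL hL
  set V := Cfsg.largestPReducedOf p L with hV
  set C := Subgroup.centralizer (V : Set G) with hC
  have hwc := isWeaklyClosedSubgroup_of_isLarge hQp hQ1 hLg
  have hLNV : L ≤ Subgroup.normalizer (V : Set G) := le_normalizer_largestPReducedOf p L
  have hLNC : L ≤ Subgroup.normalizer (C : Set G) :=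
    hLNV.trans (normalizer_le_normalizer_centralizer V)
  have hLsNV : Ls ≤ Subgroup.normalizer (V : Set G) := by
    rw [hY]; exact le_normalizer_largestPReducedOf p Ls
  have hLsNC : Ls ≤ Subgroup.normalizer (C : Set G) :=
    hLsNV.trans (normalizer_le_normalizer_centralizer V)
  have hCQ : C ≤ Subgroup.normalizer (Q : Set G) :=
    isLarge_centralizer_le_normalizer hQp hLg
      ((pCoreOf_isPGroup L).to_le (largestPReducedOf_le_pCoreOf L))
      (largestPReducedOf_ne_bot S hSL hL) ((hQS.trans hSL).trans hLNV)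
  have hQL : Q ≤ L := hQS.trans hSL
  have hQLs : Q ≤ Ls := hQS.trans hSLs
  have hLle : L ≤ Ls ⊔ C := le_sup_left.trans hfac.le
  have hLsle : Ls ≤ L ⊔ C := le_sup_left.trans hfac.ge
  have hnot : ¬ L ≤ Subgroup.normalizer (Q : Set G) → ¬ Ls ≤ Subgroup.normalizer (Q : Set G) :=
    fun hn hLsQ => hn (hLle.trans (sup_le hLsQ hCQ))
  refine ⟨M, Ls, hSM, hM, hSLs, hLsM, hLsL, hfac, ?_, weakClosure_mono Q hLsM, hY, ?_, ?_⟩
  · exact le_antisymm (weakClosure_le_of_le_sup hQp hwc hQL hQLs hLle hLsNC hCQ)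
      (weakClosure_le_of_le_sup hQp hwc hQLs hQL hLsle hLNC hCQ)
  · rw [← hY]; exact hYM
  · intro hn
    exact ⟨hnot hn, fun hMQ => hnot hn (hLsM.trans hMQ)⟩

end frakmex3

end Cfsg.Agent.Helper47
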