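import Mathlib
import Cfsg.Agent.Helper88.RealNormal
import Cfsg.Agent.Helper87.AxMax
import Cfsg.Agent.Helper86.Hyperfocal
import Cfsg.Agent.Helper86.Residual
import Cfsg.Agent.S5093
import Cfsg.Agent.S5124
import Cfsg.Agent.Helper63.PSolv
import Cfsg.Agent.Helper84.FusionAut
import Cfsg.Agent.Helper85.PPower

/-!
# S5156 piece C: `p`-solvable automizers go up from the `p`-residual subsystem
-/

set_option autoImplicit false

universe u

namespace Cfsg.Agent.Helper47

open Cfsg Cfsg.FusionSystem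

/-- An automorphism of order prime to `p` of a `p`-group fixes `x` as soon as it fixes `x⁻¹ γ(x)`. -/
theorem fusC_fix_of_coprime {p : ℕ} [Fact p.Prime] {P : Type*} [Group P] [Finite P]
    (hP : IsPGroup p P) (γ : MulAut P) (hco : (orderOf γ).Coprime p) (x : P)
    (hz : γ (x⁻¹ * γ x) = x⁻¹ * γ x) : γ x = x := by
  obtain ⟨z, hzdef⟩ : ∃ z : P, z = x⁻¹ * γ x := ⟨_, rfl⟩
  rw [← hzdef] at hz
  have hγx : γ x = x * z := by rw [hzdef]; group
  have hpow : ∀ n : ℕ, (γ ^ n) x = x * z ^ n := by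
    intro n
    induction n with
    | zero => simp
    | succ n ih =>
      rw [pow_succ', MulAut.mul_apply, ih, map_mul, map_pow, hz, hγx, pow_succ', mul_assoc]
  have h1 := hpow (orderOf γ)
  rw [pow_orderOf_eq_one, MulAut.one_apply] at h1
  have h2 : z ^ orderOf γ = 1 := by
    have h : x * z ^ orderOf γ = x * 1 := by rw [mul_one]; exact h1.symm
    exact mul_left_cancel h
  obtain ⟨k, hk⟩ := hP z
  have h3 : z = 1 := by
    have hd1 : orderOf z ∣ orderOf γ := orderOf_dvd_of_pow_eq_one h2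
    have hd2 : orderOf z ∣ p ^ k := orderOf_dvd_of_pow_eq_one hk
    have hd : orderOf z ∣ Nat.gcd (orderOf γ) (p ^ k) := Nat.dvd_gcd hd1 hd2
    have hg : Nat.gcd (orderOf γ) (p ^ k) = 1 := Nat.Coprime.pow_right k hco
    rw [hg] at hd
    exact orderOf_eq_one_iff.mp (Nat.dvd_one.mp hd)
  rw [hγx, h3, mul_one]

theorem s5156_aut_ppower {Ω : Type u} [Group Ω] {S : Subgroup Ω} [Finite S] (p : ℕ) [Fact p.Prime]
    (hX : ∀ (G : Type u) [Group G] [Finite G] (N : Subgroup G) [N.Normal],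
      IsPSolvable p ↥N → IsPSolvable p (G ⧸ N) → IsPSolvable p G)
    (hS : IsPGroup p S) (E : FusionSystem S)
    (hE : E.IsSaturated p) (D : FusionSystem (E.hyperfocalSubgroup p)) (hD : E.IsPResidual p D)
    (hA : ∀ P : Subgroup Ω, P ≤ E.hyperfocalSubgroup p → IsPSolvable p ↥(D.autGroup P)) :
    ∀ P : Subgroup Ω, P ≤ S → IsPSolvable p ↥(E.autGroup P) := by
  intro P hP
  have hp : p.Prime := Fact.out
  have hT : E.StronglyClosed (E.hyperfocalSubgroup p) := Cfsg.Agent.S5124.result p hS E hE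
  obtain ⟨Q, hQdef⟩ : ∃ Q : Subgroup Ω, Q = P ⊓ E.hyperfocalSubgroup p := ⟨_, rfl⟩
  have hQP : Q ≤ P := hQdef ▸ inf_le_left
  have hQT : Q ≤ E.hyperfocalSubgroup p := hQdef ▸ inf_le_right
  have hQS : Q ≤ S := hQP.trans hP
  have : Finite P := Helper88.finite_of_le hP
  have : Finite Q := Helper88.finite_of_le hQS
  have hPp : IsPGroup p P := hS.to_le hP
  have hinv : ∀ β ∈ E.autGroup P, ∀ x ∈ Q, Helper88.autFun β x ∈ Q := by
    intro β hβ x hx
    have hxP : x ∈ P := hQP hx
    rw [hQdef]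
    refine ⟨Helper88.autFun_mem β hxP, ?_⟩
    have hmap : Helper88.IsMap E Q (Helper88.autFun β) :=
      (Helper88.IsMap.of_mem_autGroup hP hβ).restrict hQP
    obtain ⟨φ, hφ, hφx⟩ := hmap
    have h1 := hT.2 Q hQT φ hφ ⟨x, hx⟩
    rw [hφx] at h1
    exact h1
  obtain ⟨Ψ, hΨ⟩ := Helper85.exists_restrictHom (E.autGroup P) hQP hinv
  have hrange : ∀ β : E.autGroup P, Ψ β ∈ E.autGroup Q := by
    intro β
    rw [Helper88.mem_autGroup_iff E hQS]
    exact ((Helper88.IsMap.of_mem_autGroup hP β.2).restrict hQP).congr (fun x hx => hΨ β x hx)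
  -- `Aut_E(Q)` is `p`-solvable
  have hsolvQ : IsPSolvable p ↥(E.autGroup Q) := by
    have hN : (pResidual p ↥(E.autGroup Q)).Normal := Helper84.pResidual_normal p
    apply hX ↥(E.autGroup Q) (pResidual p ↥(E.autGroup Q))
    · have hle := hD.2.2.2 Q hQT
      have h1 : IsPSolvable p
          ↥(((pResidual p ↥(E.autGroup Q)).map (E.autGroup Q).subtype).subgroupOf (D.autGroup Q)) :=
        Helper32.isPSolvable_subgroup hp (hA Q hQT) _
      have h2 : IsPSolvable p ↥((pResidual p ↥(E.autGroup Q)).map (E.autGroup Q).subtype) :=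
        Helper32.isPSolvable_of_equiv (Subgroup.subgroupOfEquivOfLe hle) h1
      exact Helper32.isPSolvable_of_equiv
        ((pResidual p ↥(E.autGroup Q)).equivMapOfInjective (E.autGroup Q).subtype
          (Subgroup.subtype_injective _)).symm h2
    · have hpg : IsPGroup p (↥(E.autGroup Q) ⧸ pResidual p ↥(E.autGroup Q)) := by
        intro q
        induction q using QuotientGroup.induction_on with
        | H a =>
          obtain ⟨k, hk⟩ := Helper84.exists_pow_mem_pResidual (p := p) a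
          refine ⟨k, ?_⟩
          rw [← QuotientGroup.mk_pow]
          exact (QuotientGroup.eq_one_iff _).mpr hk
      have := hpg.isNilpotent
      exact Helper63.PSolv.isPSolvable_of_isSolvable p _ inferInstance
  obtain ⟨Ψ', hΨ'⟩ : ∃ Ψ' : ↥(E.autGroup P) →* ↥(E.autGroup Q), ∀ β, ((Ψ' β : E.autGroup Q) : MulAut Q) = Ψ β :=
    ⟨Ψ.codRestrict (E.autGroup Q) hrange, fun β => rfl⟩
  have hquot : IsPSolvable p (↥(E.autGroup P) ⧸ Ψ'.ker) := by
    have h1 : IsPSolvable p ↥(Ψ'.range) := Helper32.isPSolvable_subgroup hp hsolvQ _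
    exact Helper32.isPSolvable_of_equiv (QuotientGroup.quotientKerEquivRange Ψ').symm h1
  -- the kernel is a `p`-group
  have hker : ∀ γ ∈ Ψ'.ker, (orderOf γ).Coprime p → γ = 1 := by
    intro γ hγ hco
    have hΨγ : Ψ γ = 1 := by
      have h1 : Ψ' γ = 1 := MonoidHom.mem_ker.mp hγ
      rw [← hΨ' γ, h1]
      rfl
    have hres : γ ∈ pResidual p ↥(E.autGroup P) := Subgroup.subset_closure hco
    have hco' : (orderOf (γ : MulAut P)).Coprime p := by
      rw [Subgroup.orderOf_coe]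
      exact hco
    apply Subtype.ext
    show (γ : MulAut P) = 1
    apply MulEquiv.ext
    intro x
    show (γ : MulAut P) x = x
    apply fusC_fix_of_coprime hPp (γ : MulAut P) hco' x
    obtain ⟨y, hy⟩ : ∃ y : P, y = x⁻¹ * (γ : MulAut P) x := ⟨_, rfl⟩
    rw [← hy]
    have hyT : (y : Ω) ∈ E.hyperfocalSubgroup p := by
      apply Subgroup.subset_closure
      refine ⟨P, γ, x, hP, hres, ?_⟩
      rw [hy]
      rfl
    have hyQ : (y : Ω) ∈ Q := by
      rw [hQdef]
      exact ⟨y.2, hyT⟩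
    have h1 := hΨ γ (y : Ω) hyQ
    rw [hΨγ, Helper88.autFun_one hyQ, Helper88.autFun_apply' _ y.2] at h1
    exact Subtype.ext h1.symm
  have hkerp : ∃ m : ℕ, Nat.card Ψ'.ker = p ^ m := by
    have hpg : IsPGroup p Ψ'.ker := by
      intro γ
      have hn : orderOf (γ : ↥(E.autGroup P)) ≠ 0 := (orderOf_pos _).ne'
      obtain ⟨k, m, hm, hkm⟩ := Nat.exists_eq_pow_mul_and_not_dvd hn p hp.ne_one
      refine ⟨k, ?_⟩
      have hpk : p ^ k ≠ 0 := pow_ne_zero _ hp.ne_zero
      have hord : orderOf ((γ : ↥(E.autGroup P)) ^ p ^ k) = m := by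
        rw [orderOf_pow_of_dvd hpk ⟨m, hkm⟩, hkm, Nat.mul_div_cancel_left _ (Nat.pos_of_ne_zero hpk)]
      have h1 : (γ : ↥(E.autGroup P)) ^ p ^ k = 1 := by
        apply hker _ (Ψ'.ker.pow_mem γ.2 _)
        rw [hord]
        exact (hp.coprime_iff_not_dvd.mpr hm).symm
      apply Subtype.ext
      exact h1
    exact IsPGroup.iff_card.mp hpg
  exact Helper63.PSolv.isPSolvable_extension Ψ'.ker (Or.inl hkerp) hquot

end Cfsg.Agent.Helper47
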