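import Mathlib
import Cfsg.Agent.Helper88.RealNormal
import Cfsg.Agent.Helper87.AxMax
import Cfsg.Agent.Helper86.Hyperfocal
import Cfsg.Agent.Helper86.Residual
import Cfsg.Agent.S5093
import Cfsg.Agent.S5124
import Cfsg.Agent.Helper63.PSolv
import Cfsg.Agent.Helper84.FusionAut

/-!
# S5156 piece E2a: the hyperfocal subgroup of a realized system maps into `O^p` of the realizing group
-/

set_option autoImplicit false

universe u

namespace Cfsg.Agent.Helper47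

open Cfsg Cfsg.FusionSystem

variable {Ω : Type*} [Group Ω] {S : Subgroup Ω}

theorem s5156_hyp_le {p : ℕ} [Fact p.Prime] (E : FusionSystem S) {H : Type*} [Group H] [Finite H]
    (ι : S →* H) (hreal : E.IsRealizedBy ι)
    (hco : ∀ (P : Subgroup Ω) (hP : P ≤ S) (a : MulAut P), a ∈ E.autGroup P → (orderOf a).Coprime p →
      ∃ g ∈ pResidual p H, ∀ x : P, ι ⟨(a x : P), hP (a x).2⟩ = g * ι ⟨x, hP x.2⟩ * g⁻¹)
    (s : S) (hs : (s : Ω) ∈ E.hyperfocalSubgroup p) : ι s ∈ pResidual p H := by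
  have hN : (pResidual p H).Normal := Cfsg.Agent.Helper84.pResidual_normal p
  have hle : E.hyperfocalSubgroup p ≤ Cfsg.Agent.Helper88.pre ι (pResidual p H) := by
    apply Cfsg.Agent.Helper86.hyperfocal_le_of_forall_coprime
    intro P hP a hcop x
    have hcop' : (orderOf (a : MulAut P)).Coprime p := by
      rw [Subgroup.orderOf_coe]
      exact hcop
    obtain ⟨g, hg, hgx⟩ := hco P hP (a : MulAut P) a.2 hcop'
    rw [Cfsg.Agent.Helper88.mem_pre]
    have hxS : (x : Ω) ∈ S := hP x.2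
    have haxS : (((a : MulAut P) x : P) : Ω) ∈ S := hP ((a : MulAut P) x).2
    have hmem : (x : Ω)⁻¹ * (((a : MulAut P) x : P) : Ω) ∈ S := S.mul_mem (S.inv_mem hxS) haxS
    refine ⟨hmem, ?_⟩
    rw [Cfsg.Agent.Helper88.iext_apply ι hmem]
    have h1 : (⟨(x : Ω)⁻¹ * (((a : MulAut P) x : P) : Ω), hmem⟩ : S) =
        (⟨(x : Ω), hxS⟩ : S)⁻¹ * ⟨(((a : MulAut P) x : P) : Ω), haxS⟩ := rfl
    rw [h1, map_mul, map_inv, hgx x]
    have h2 : (ι ⟨(x : Ω), hxS⟩)⁻¹ * (g * ι ⟨(x : Ω), hxS⟩ * g⁻¹) =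
        ((ι ⟨(x : Ω), hxS⟩)⁻¹ * g * (ι ⟨(x : Ω), hxS⟩)⁻¹⁻¹) * g⁻¹ := by group
    rw [h2]
    exact (pResidual p H).mul_mem (hN.conj_mem g hg _) ((pResidual p H).inv_mem hg)
  have h3 := hle hs
  rw [Cfsg.Agent.Helper88.mem_pre] at h3
  obtain ⟨hsS, h4⟩ := h3
  rw [Cfsg.Agent.Helper88.iext_apply ι hsS] at h4
  exact h4

end Cfsg.Agent.Helper47
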