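import Mathlib
import Cfsg.Agent.Helper88.RealNormal
import Cfsg.Agent.Helper87.AxMax
import Cfsg.Agent.Helper86.Hyperfocal
import Cfsg.Agent.Helper86.Residual
import Cfsg.Agent.S5093
import Cfsg.Agent.S5124
import Cfsg.Agent.Helper63.PSolv
import Cfsg.Agent.Helper84.FusionAut

/-!
# S5156 piece E3: the subsystem of a realized system induced by `O^p` of the realizing group has `p`-power index
-/

set_option autoImplicit false

universe u

namespace Cfsg.Agent.Helper47

open Cfsg Cfsg.FusionSystem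

variable {Ω : Type*} [Group Ω] {S : Subgroup Ω}

theorem s5156_nsub_index {p : ℕ} [Fact p.Prime] (E : FusionSystem S) {H : Type*} [Group H] [Finite H]
    (ι : S →* H) (hreal : E.IsRealizedBy ι)
    (hco : ∀ (P : Subgroup Ω) (hP : P ≤ S) (a : MulAut P), a ∈ E.autGroup P → (orderOf a).Coprime p →
      ∃ g ∈ pResidual p H, ∀ x : P, ι ⟨(a x : P), hP (a x).2⟩ = g * ι ⟨x, hP x.2⟩ * g⁻¹)
    (hle : E.hyperfocalSubgroup p ≤ Helper88.pre ι (pResidual p H)) :
    (Helper88.nsub hreal.1 (pResidual p H)).HasPPowerIndexIn E p := by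
  refine ⟨?_, hle, ?_⟩
  · intro P φ hφ
    rw [Helper88.mem_nsub] at hφ
    obtain ⟨hP, hφS, n, -, hn⟩ := hφ
    have hPS : P ≤ S := hP.trans (Helper88.pre_le ι _)
    exact (Helper88.realized_iff hreal hPS φ (fun x => Helper88.pre_le ι _ (hφS x))).mpr ⟨n, hn⟩
  · intro P hP
    have hPS : P ≤ S := hP.trans (Helper88.pre_le ι _)
    rw [Subgroup.map_le_iff_le_comap]
    show Subgroup.closure _ ≤ _
    rw [Subgroup.closure_le]
    intro a ha
    have hcop : (orderOf (a : MulAut P)).Coprime p := by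
      rw [Subgroup.orderOf_coe]
      exact ha
    obtain ⟨g, hg, hgx⟩ := hco P hPS (a : MulAut P) a.2 hcop
    show (a : MulAut P) ∈ (Helper88.nsub hreal.1 (pResidual p H)).autGroup P
    apply Subgroup.subset_closure
    show P.subtype.comp (a : MulAut P).toMonoidHom ∈ (Helper88.nsub hreal.1 (pResidual p H)).Hom P
    rw [Helper88.mem_nsub]
    refine ⟨hP, fun x => hP ((a : MulAut P) x).2, g, hg, fun x => ?_⟩
    have h1 : (P.subtype.comp (a : MulAut P).toMonoidHom) x = (((a : MulAut P) x : P) : Ω) := rfl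
    rw [h1, Helper88.iext_apply ι (hPS ((a : MulAut P) x).2), Helper88.iext_apply ι (hPS x.2)]
    exact hgx x

end Cfsg.Agent.Helper47
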