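import Mathlib

set_option autoImplicit false

/-!
PIECE S of CALL S4607 (helper77): the group algebra carries a symmetric nondegenerate linear form.
-/

universe u v

namespace Cfsg.Agent.Helper47

theorem k2_groupAlgebra_form (k : Type v) [Field k] (G : Type u) [Group G] [Finite G] :
    ∃ lam : MonoidAlgebra k G →ₗ[k] k, (∀ x y, lam (x * y) = lam (y * x)) ∧
      (∀ x, (∀ y, lam (x * y) = 0) → x = 0) := by
  classical
  refine ⟨(Finsupp.lapply (1 : G)).comp (MonoidAlgebra.coeffLinearEquiv k).toLinearMap, ?_, ?_⟩
  · intro x y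
    show (x * y).coeff 1 = (y * x).coeff 1
    rw [MonoidAlgebra.coeff_mul_apply_left, MonoidAlgebra.coeff_mul_apply_right]
    refine Finsupp.sum_congr ?_
    intro a _
    rw [mul_one, one_mul, mul_comm]
  · intro x hx
    apply MonoidAlgebra.coeff_injective
    ext g
    have h := hx (MonoidAlgebra.single g⁻¹ 1)
    have h2 : (x * MonoidAlgebra.single g⁻¹ (1 : k)).coeff 1 = 0 := h
    rw [MonoidAlgebra.coeff_mul_single_apply, inv_inv, one_mul, mul_one] at h2
    simpa using h2

end Cfsg.Agent.Helper47
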