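import Cfsg.Agent.Helper47.WCF

set_option autoImplicit false

namespace Cfsg.Agent.Helper47

open scoped commutatorElement Pointwise

local notation "cj(" g "," Q ")" => Subgroup.map (MulEquiv.toMonoidHom (MulAut.conj g)) Q

section kfam0

variable {G : Type*} [Group G]

/-- power identity: if `c = ⁅n, e⁆` commutes with `e` then `⁅n, e ^ k⁆ = c ^ k` -/
theorem kfam_commutator_pow (n e : G) (h : Commute ⁅n, e⁆ e) (k : ℕ) :
    ⁅n, e ^ k⁆ = ⁅n, e⁆ ^ k := by
  induction k with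
  | zero => simp
  | succ k ih =>
    have e1 : ⁅n, e ^ (k + 1)⁆ = ⁅n, e ^ k⁆ * (e ^ k * ⁅n, e⁆ * (e ^ k)⁻¹) := by
      rw [pow_succ]; simp [commutatorElement_def, mul_assoc]
    have e2 : e ^ k * ⁅n, e⁆ * (e ^ k)⁻¹ = ⁅n, e⁆ := by
      have h2 := (h.pow_right k).eq
      rw [← h2]; group
    rw [e1, e2, ih, pow_succ]

theorem kfam_sSup_normal {𝒦 : Set (Subgroup G)}
    (hinv : ∀ h : G, ∀ E ∈ 𝒦, cj(h, E) ∈ 𝒦) : (sSup 𝒦).Normal := by
  constructor
  intro n hn g
  have hle : cj(g, sSup 𝒦) ≤ sSup 𝒦 := by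
    rw [Subgroup.map_le_iff_le_comap]
    apply sSup_le
    intro E hE
    rw [← Subgroup.map_le_iff_le_comap]
    exact le_sSup (hinv g E hE)
  have h1 : (MulAut.conj g).toMonoidHom n ∈ sSup 𝒦 := hle ⟨n, hn, rfl⟩
  simpa using h1

/-- `⁅A P, B P⁆ ≤ P` for normal `P` with `⁅A, B⁆ ≤ P` -/
theorem kfam_commutator_sup_le_normal {A B P : Subgroup G} [P.Normal] (h : ⁅A, B⁆ ≤ P) :
    ⁅A ⊔ P, B ⊔ P⁆ ≤ P := by
  have key : ∀ X : Subgroup G, X ≤ P ↔ X.map (QuotientGroup.mk' P) = ⊥ := by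
    intro X
    rw [Subgroup.map_eq_bot_iff, QuotientGroup.ker_mk']
  have hP : P.map (QuotientGroup.mk' P) = ⊥ := (key P).mp le_rfl
  rw [key, Subgroup.map_commutator, Subgroup.map_sup, Subgroup.map_sup, hP, sup_bot_eq,
    sup_bot_eq, ← Subgroup.map_commutator, ← key]
  exact h

variable {p : ℕ}

theorem kfam_pResidual_map_eq_closure (X : Subgroup G) :
    (Cfsg.pResidual p ↥X).map X.subtype =
      Subgroup.closure {g : G | g ∈ X ∧ (orderOf g).Coprime p} := by
  unfold Cfsg.pResidual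
  rw [MonoidHom.map_closure]
  congr 1
  ext g
  constructor
  · rintro ⟨x, hx, rfl⟩
    refine ⟨x.2, ?_⟩
    rw [Subgroup.coe_subtype, Subgroup.orderOf_coe]; exact hx
  · rintro ⟨hgX, hg⟩
    refine ⟨⟨g, hgX⟩, ?_, rfl⟩
    show (orderOf (⟨g, hgX⟩ : ↥X)).Coprime p
    rw [← Subgroup.orderOf_coe]; exact hg

theorem kfam_pResidual_map_le_iff (X N : Subgroup G) :
    (Cfsg.pResidual p ↥X).map X.subtype ≤ N ↔ ∀ g ∈ X, (orderOf g).Coprime p → g ∈ N := by
  rw [kfam_pResidual_map_eq_closure, Subgroup.closure_le]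
  constructor
  · intro h g hg hc; exact h ⟨hg, hc⟩
  · rintro h g ⟨hg, hc⟩; exact h g hg hc

theorem kfam_mem_pResidual_map {X : Subgroup G} {g : G} (hg : g ∈ X)
    (hc : (orderOf g).Coprime p) : g ∈ (Cfsg.pResidual p ↥X).map X.subtype := by
  rw [kfam_pResidual_map_eq_closure]; exact Subgroup.subset_closure ⟨hg, hc⟩

theorem kfam_pResidual_map_cj (h : G) (X : Subgroup G) :
    (Cfsg.pResidual p ↥(cj(h, X))).map (cj(h, X)).subtype =
      cj(h, (Cfsg.pResidual p ↥X).map X.subtype) := by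
  rw [kfam_pResidual_map_eq_closure, kfam_pResidual_map_eq_closure, MonoidHom.map_closure]
  congr 1
  ext g
  constructor
  · rintro ⟨hg, hc⟩
    refine ⟨h⁻¹ * g * h, ⟨mem_cj.mp hg, ?_⟩, ?_⟩
    · have e : orderOf (h⁻¹ * g * h) = orderOf g := by
        have e2 := orderOf_conj_equiv (MulAut.conj h⁻¹) g
        simpa using e2
      rw [e]; exact hc
    · simp [mul_assoc]
  · rintro ⟨x, ⟨hx, hc⟩, rfl⟩
    refine ⟨cj_mem hx, ?_⟩
    have e : orderOf ((MulAut.conj h).toMonoidHom x) = orderOf x :=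
      orderOf_conj_equiv (MulAut.conj h) x
    rw [e]; exact hc

end kfam0

section kfam

variable {G : Type*} [Group G] [Finite G] {p : ℕ} [hp : Fact p.Prime]

theorem kfam_exists_pow_mem_pResidual_map {X : Subgroup G} {g : G} (hg : g ∈ X) :
    ∃ k : ℕ, g ^ (p ^ k) ∈ (Cfsg.pResidual p ↥X).map X.subtype := by
  obtain ⟨k, hk⟩ := exists_pow_mem_pResidual (p := p) (⟨g, hg⟩ : ↥X)
  exact ⟨k, ⟨_, hk, rfl⟩⟩

/-- if `⁅A, U⁆ ≤ P` with `P` normal then `A` normalizes `U P` -/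
theorem kfam_le_normalizer_sup_of_commutator_le {A U P : Subgroup G} [P.Normal]
    (h : ⁅A, U⁆ ≤ P) : A ≤ Subgroup.normalizer ((U ⊔ P : Subgroup G) : Set G) := by
  intro a ha
  rw [← cj_eq_self_iff]
  apply cj_eq_of_le
  rw [cj_sup, cj_of_normal a P]
  refine sup_le ?_ le_sup_right
  rintro _ ⟨u, hu, rfl⟩
  have e : (MulAut.conj a).toMonoidHom u = ⁅a, u⁆ * u := by simp [commutatorElement_def]
  rw [e]
  exact Subgroup.mul_mem _ (Subgroup.mem_sup_right (h (Subgroup.commutator_mem_commutator ha hu)))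
    (Subgroup.mem_sup_left hu)

/-- `T ∩ A` is a maximal `p`-subgroup of `A` when `A ⊴ B ⊴ G` -/
theorem kfam_sylow_inf_maximal (T : Sylow p G) {A B : Subgroup G} [hB : B.Normal] (hAB : A ≤ B)
    (hBA : B ≤ Subgroup.normalizer (A : Set G)) {D : Subgroup G} (hD : IsPGroup p ↥D)
    (hDA : D ≤ A) (hTD : (T : Subgroup G) ⊓ A ≤ D) : D ≤ T := by
  haveI hAn : (A.subgroupOf B).Normal :=
    (Subgroup.normal_subgroupOf_iff_le_normalizer hAB).mpr hBA
  have hD₂p : IsPGroup p ↥((D.subgroupOf B).subgroupOf (A.subgroupOf B)) :=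
    (hD.comap_subtype (K := B)).comap_subtype
  have hle : ((sylowInfNormal (sylowInfNormal T B) (A.subgroupOf B) :
      Sylow p ↥(A.subgroupOf B)) : Subgroup ↥(A.subgroupOf B)) ≤
      (D.subgroupOf B).subgroupOf (A.subgroupOf B) := by
    intro x hx
    have hx1 : ((x : ↥B) : G) ∈ (T : Subgroup G) := hx
    have hx2 : ((x : ↥B) : G) ∈ A := x.2
    exact hTD ⟨hx1, hx2⟩
  have hmax := (sylowInfNormal (sylowInfNormal T B) (A.subgroupOf B)).is_maximal' hD₂p hle
  intro d hd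
  have hdA : d ∈ A := hDA hd
  have hdB : d ∈ B := hAB hdA
  have hmem : (⟨⟨d, hdB⟩, hdA⟩ : ↥(A.subgroupOf B)) ∈
      (D.subgroupOf B).subgroupOf (A.subgroupOf B) := hd
  rw [hmax] at hmem
  exact hmem

/-- `T ∩ A` is a Sylow subgroup of every intermediate `T ∩ A ≤ C ≤ A`, for `A ⊴ B ⊴ G` -/
theorem kfam_exists_cj_le_sylow_inf (T : Sylow p G) {A B : Subgroup G} [hB : B.Normal]
    (hAB : A ≤ B) (hBA : B ≤ Subgroup.normalizer (A : Set G)) {C : Subgroup G} (hCA : C ≤ A)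
    (hSC : (T : Subgroup G) ⊓ A ≤ C) {D : Subgroup G} (hD : IsPGroup p ↥D) (hDC : D ≤ C) :
    ∃ c ∈ C, cj(c, D) ≤ (T : Subgroup G) ⊓ A := by
  let TC : Sylow p ↥C :=
    { toSubgroup := ((T : Subgroup G) ⊓ A).subgroupOf C
      isPGroup' := (T.isPGroup'.to_le inf_le_left).comap_subtype
      is_maximal' := by
        intro Q hQ hle
        have h1 : Q.map C.subtype ≤ T :=
          kfam_sylow_inf_maximal T hAB hBA (hQ.map _) ((Subgroup.map_subtype_le _).trans hCA)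
            (by
              intro x hx
              exact ⟨⟨x, hSC hx⟩, hle hx, rfl⟩)
        apply le_antisymm ?_ hle
        intro q hq
        exact ⟨h1 ⟨q, hq, rfl⟩, hCA q.2⟩ }
  obtain ⟨k, hk, hkT⟩ := exists_cj_le_sylow_subgroup hD hDC TC
  refine ⟨k, hk, hkT.trans ?_⟩
  show (((T : Subgroup G) ⊓ A).subgroupOf C).map C.subtype ≤ _
  rw [Subgroup.subgroupOf_map_subtype]; exact inf_le_left

/-- class two modulo `O_p` implies `p`-closed -/
theorem kfam_isPClosed_of_class_two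
    (h : ⁅commutator G, (⊤ : Subgroup G)⁆ ≤ Cfsg.pCore p G) : Cfsg.IsPClosed p G := by
  obtain ⟨S⟩ : Nonempty (Sylow p G) := inferInstance
  apply isPClosed_of_normal_sylow S
  have key : ∀ g : G, ∀ s ∈ (S : Subgroup G), ⁅g, s⁆ ∈ Cfsg.pCore p G := by
    intro g s hs
    have hcG : ⁅g, s⁆ ∈ commutator G := by
      rw [commutator_def]
      exact Subgroup.commutator_mem_commutator (Subgroup.mem_top g) (Subgroup.mem_top s)
    have hcent : ∀ y : G, Commute (QuotientGroup.mk' (Cfsg.pCore p G) ⁅g, s⁆)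
        (QuotientGroup.mk' (Cfsg.pCore p G) y) := by
      intro y
      have h1 : ⁅⁅g, s⁆, y⁆ ∈ Cfsg.pCore p G :=
        h (Subgroup.commutator_mem_commutator hcG (Subgroup.mem_top y))
      have h2 : QuotientGroup.mk' (Cfsg.pCore p G) ⁅⁅g, s⁆, y⁆ = 1 :=
        (QuotientGroup.eq_one_iff _).mpr h1
      rw [map_commutatorElement] at h2
      exact commutatorElement_eq_one_iff_commute.mp h2
    obtain ⟨k, hk⟩ := isPGroup_pow S.isPGroup' hs
    have h3 : QuotientGroup.mk' (Cfsg.pCore p G) ⁅g, s⁆ =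
        ⁅QuotientGroup.mk' (Cfsg.pCore p G) g, QuotientGroup.mk' (Cfsg.pCore p G) s⁆ :=
      map_commutatorElement _ _ _
    have hpow : (QuotientGroup.mk' (Cfsg.pCore p G) ⁅g, s⁆) ^ (p ^ k) = 1 := by
      have h4 := kfam_commutator_pow (QuotientGroup.mk' (Cfsg.pCore p G) g)
        (QuotientGroup.mk' (Cfsg.pCore p G) s) (by rw [← h3]; exact hcent s) (p ^ k)
      rw [← h3, ← map_pow, hk, map_one, commutatorElement_one_right] at h4
      exact h4.symm
    have hBn : ((Subgroup.zpowers (QuotientGroup.mk' (Cfsg.pCore p G) ⁅g, s⁆)).comap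
        (QuotientGroup.mk' (Cfsg.pCore p G))).Normal := by
      apply Subgroup.Normal.comap
      constructor
      intro x hx y
      obtain ⟨y', rfl⟩ := QuotientGroup.mk'_surjective (Cfsg.pCore p G) y
      obtain ⟨m, rfl⟩ := Subgroup.mem_zpowers_iff.mp hx
      have e : QuotientGroup.mk' (Cfsg.pCore p G) y' *
          (QuotientGroup.mk' (Cfsg.pCore p G) ⁅g, s⁆) ^ m *
          (QuotientGroup.mk' (Cfsg.pCore p G) y')⁻¹ =
          (QuotientGroup.mk' (Cfsg.pCore p G) ⁅g, s⁆) ^ m := by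
        have h5 := ((hcent y').zpow_left m).eq
        rw [← h5]; group
      rw [e]; exact Subgroup.zpow_mem_zpowers _ m
    have hBp : IsPGroup p ↥((Subgroup.zpowers (QuotientGroup.mk' (Cfsg.pCore p G) ⁅g, s⁆)).comap
        (QuotientGroup.mk' (Cfsg.pCore p G))) := by
      apply IsPGroup.comap_of_ker_isPGroup (isPGroup_zpowers hpow)
      rw [QuotientGroup.ker_mk']; exact pCore_isPGroup p G
    have hcB : ⁅g, s⁆ ∈ (Subgroup.zpowers (QuotientGroup.mk' (Cfsg.pCore p G) ⁅g, s⁆)).comap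
        (QuotientGroup.mk' (Cfsg.pCore p G)) := Subgroup.mem_comap.mpr (Subgroup.mem_zpowers _)
    exact le_pCore hBn hBp hcB
  rw [← Subgroup.normalizer_eq_top_iff, eq_top_iff]
  intro g _
  rw [← cj_eq_self_iff]
  apply cj_eq_of_le
  rintro _ ⟨s, hs, rfl⟩
  have e : (MulAut.conj g).toMonoidHom s = ⁅g, s⁆ * s := by simp [commutatorElement_def]
  rw [e]
  exact Subgroup.mul_mem _ (pCore_le_sylow S (key g s hs)) hs

end kfam

end Cfsg.Agent.Helper47
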