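import Cfsg.Agent.Helper47.KFam

set_option autoImplicit false

namespace Cfsg.Agent.Helper47

open scoped commutatorElement Pointwise

local notation "cj(" g "," Q ")" => Subgroup.map (MulEquiv.toMonoidHom (MulAut.conj g)) Q

section kfam2

variable {H : Type*} [Group H] [Finite H] {p : ℕ} [hp : Fact p.Prime]

/-- a transitive family of `p`-minimal subgroups generating `O^p(H)` makes `H` `p`-minimal -/
theorem kfam_minimal (𝒦 : Set (Subgroup H)) (hne : 𝒦.Nonempty)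
    (hinv : ∀ h : H, ∀ E ∈ 𝒦, cj(h, E) ∈ 𝒦)
    (htr : ∀ E ∈ 𝒦, ∀ K ∈ 𝒦, ∃ h : H, K = cj(h, E))
    (hres : Cfsg.pResidual p H ≤ sSup 𝒦)
    (hnorm : ∀ E ∈ 𝒦, sSup 𝒦 ⊔ Cfsg.pCore p H ≤
      Subgroup.normalizer ((E ⊔ Cfsg.pCore p H : Subgroup H) : Set H))
    (hmin : ∀ E ∈ 𝒦, ∀ T : Sylow p ↥E, Cfsg.IsMinimalOver (T : Subgroup ↥E)) (T : Sylow p H) :
    Cfsg.IsMinimalOver (T : Subgroup H) := by
  obtain ⟨P, hP⟩ : ∃ P, P = Cfsg.pCore p H := ⟨_, rfl⟩
  obtain ⟨R, hR⟩ : ∃ R, R = sSup 𝒦 := ⟨_, rfl⟩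
  rw [← hP, ← hR] at hnorm
  rw [← hR] at hres
  haveI hPn : P.Normal := by rw [hP]; infer_instance
  have hPT : P ≤ T := by rw [hP]; exact pCore_le_sylow T
  have hPp : IsPGroup p ↥P := by rw [hP]; exact pCore_isPGroup p H
  haveI hRn : R.Normal := by rw [hR]; exact kfam_sSup_normal hinv
  haveI hRPn : (R ⊔ P).Normal := inferInstance
  have hRT : R ⊔ (T : Subgroup H) = ⊤ := by
    rw [eq_top_iff, ← pResidual_sup_sylow T]
    exact sup_le_sup_right hres _
  -- Step 1: the normal closure of `T`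
  have hncl : Subgroup.normalClosure ((T : Subgroup H) : Set H) = ⊤ := by
    rw [eq_top_iff, ← hRT]
    refine sup_le ?_ Subgroup.le_normalClosure
    rw [hR]
    apply sSup_le
    intro E hE
    obtain ⟨TE⟩ : Nonempty (Sylow p ↥E) := inferInstance
    obtain ⟨g, hg⟩ := exists_cj_le_sylow (TE.isPGroup'.map E.subtype) T
    have h1 : (TE : Subgroup ↥E).map E.subtype ≤
        Subgroup.normalClosure ((T : Subgroup H) : Set H) := by
      calc (TE : Subgroup ↥E).map E.subtype ≤ cj(g⁻¹, (T : Subgroup H)) := cj_le_iff.mp hg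
        _ ≤ cj(g⁻¹, Subgroup.normalClosure ((T : Subgroup H) : Set H)) :=
            cj_mono Subgroup.le_normalClosure
        _ = Subgroup.normalClosure ((T : Subgroup H) : Set H) := cj_of_normal _ _
    have h2 : Subgroup.normalClosure ((TE : Subgroup ↥E) : Set ↥E) ≤
        (Subgroup.normalClosure ((T : Subgroup H) : Set H)).comap E.subtype := by
      apply Subgroup.normalClosure_le_normal
      intro x hx
      exact h1 ⟨x, hx, rfl⟩
    rw [(hmin E hE TE).1] at h2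
    intro e he
    exact h2 (Subgroup.mem_top (⟨e, he⟩ : ↥E))
  -- Step 2: a member `E` with a Sylow subgroup inside `T`
  obtain ⟨E, hE, TE, hTE⟩ : ∃ E ∈ 𝒦, ∃ TE : Sylow p ↥E,
      (TE : Subgroup ↥E).map E.subtype ≤ T := by
    obtain ⟨E', hE'⟩ := hne
    obtain ⟨T'⟩ : Nonempty (Sylow p ↥E') := inferInstance
    obtain ⟨g, hg⟩ := exists_cj_le_sylow (T'.isPGroup'.map E'.subtype) T
    refine ⟨cj(g, E'), hinv g E' hE', ?_⟩
    have hBE : cj(g, (T' : Subgroup ↥E').map E'.subtype) ≤ cj(g, E') :=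
      cj_mono (Subgroup.map_subtype_le _)
    have hBp : IsPGroup p ↥(cj(g, (T' : Subgroup ↥E').map E'.subtype)) :=
      isPGroup_cj (T'.isPGroup'.map _) g
    obtain ⟨TE, hTEB⟩ := (hBp.comap_subtype (K := cj(g, E'))).exists_le_sylow
    refine ⟨TE, ?_⟩
    have hcard : Nat.card ↥((TE : Subgroup ↥(cj(g, E'))).map (cj(g, E')).subtype) =
        Nat.card ↥(cj(g, (T' : Subgroup ↥E').map E'.subtype)) := by
      rw [Subgroup.card_map_of_injective (Subgroup.subtype_injective _), card_cj,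
        Subgroup.card_map_of_injective (Subgroup.subtype_injective _),
        Sylow.card_eq_multiplicity, Sylow.card_eq_multiplicity, card_cj]
    have hBle : cj(g, (T' : Subgroup ↥E').map E'.subtype) ≤
        (TE : Subgroup ↥(cj(g, E'))).map (cj(g, E')).subtype := by
      intro x hx
      exact ⟨⟨x, hBE hx⟩, hTEB hx, rfl⟩
    have heq := Subgroup.eq_of_le_of_card_ge hBle hcard.le
    rw [← heq]
    exact hg
  -- Step 3: the unique maximal subgroup of `E` over `TE`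
  obtain ⟨hEncl, ME, ⟨hMEc, hTEM⟩, -⟩ := hmin E hE TE
  have hMEmax : ∀ X : Subgroup ↥E, (TE : Subgroup ↥E) ≤ X → X ≠ ⊤ → X ≤ ME := fun X hX hne' =>
    isMinimalOver_le_of_ne_top (hmin E hE TE) hMEc hTEM hX hne'
  obtain ⟨Ehat, hEhat⟩ : ∃ Ehat, Ehat = E ⊔ P := ⟨_, rfl⟩
  obtain ⟨E₀, hE₀⟩ : ∃ E₀, E₀ = ME.map E.subtype ⊔ P := ⟨_, rfl⟩
  have hPE₀ : P ≤ E₀ := by rw [hE₀]; exact le_sup_right
  have hEEhat : E ≤ Ehat := by rw [hEhat]; exact le_sup_left
  have hPEhat : P ≤ Ehat := by rw [hEhat]; exact le_sup_right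
  have hE₀le : E₀ ≤ Ehat := by
    rw [hE₀, hEhat]; exact sup_le_sup_right (Subgroup.map_subtype_le _) _
  have hTEE₀ : (TE : Subgroup ↥E).map E.subtype ≤ E₀ := by
    rw [hE₀]; exact (Subgroup.map_mono hTEM).trans le_sup_left
  have hE₀ne : E₀ ≠ Ehat := by
    intro heq
    apply hMEc.1
    rw [eq_top_iff]
    intro e _
    have he : (e : H) ∈ ME.map E.subtype ⊔ P := by
      rw [← hE₀, heq]; exact hEEhat e.2
    obtain ⟨m, hm, x, hx, hmx⟩ := Subgroup.mem_sup_of_normal_right.mp he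
    obtain ⟨m', hm', rfl⟩ := hm
    have hxE : x ∈ E := by
      have e1 : x = ((m' : ↥E) : H)⁻¹ * (e : H) := by
        rw [← hmx]; simp
      rw [e1]; exact E.mul_mem (E.inv_mem m'.2) e.2
    have hxM : (⟨x, hxE⟩ : ↥E) ∈ ME := by
      apply hTEM
      have hpp : IsPGroup p ↥(P.subgroupOf E) := hPp.comap_subtype
      have hmem : (⟨x, hxE⟩ : ↥E) ∈ P.subgroupOf E := hx
      exact pCore_le_sylow TE (le_pCore inferInstance hpp hmem)
    have e2 : e = m' * ⟨x, hxE⟩ := Subtype.ext (by simpa using hmx.symm)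
    rw [e2]; exact ME.mul_mem hm' hxM
  have hB3 : ∀ X : Subgroup H, X ≤ Ehat → P ≤ X → (TE : Subgroup ↥E).map E.subtype ≤ X →
      X ≠ Ehat → X ≤ E₀ := by
    intro X hXle hPX hTX hXne
    have h1 : X.subgroupOf E ≤ ME := by
      apply hMEmax
      · intro t ht; exact hTX ⟨t, ht, rfl⟩
      · intro htop
        apply hXne
        apply le_antisymm hXle
        rw [hEhat]
        refine sup_le ?_ hPX
        intro e he
        have hmem : (⟨e, he⟩ : ↥E) ∈ X.subgroupOf E := by rw [htop]; exact Subgroup.mem_top _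
        exact hmem
    intro x hx
    have hx' : x ∈ E ⊔ P := by rw [← hEhat]; exact hXle hx
    obtain ⟨e, he, y, hy, hey⟩ := Subgroup.mem_sup_of_normal_right.mp hx'
    have heX : e ∈ X := by
      have e1 : e = x * y⁻¹ := by rw [← hey]; group
      rw [e1]; exact X.mul_mem hx (X.inv_mem (hPX hy))
    rw [← hey, hE₀]
    exact Subgroup.mul_mem _ (Subgroup.mem_sup_left ⟨⟨e, he⟩, h1 heX, rfl⟩)
      (Subgroup.mem_sup_right hy)
  obtain ⟨S', hS'⟩ : ∃ S', S' = (T : Subgroup H) ⊓ Ehat := ⟨_, rfl⟩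
  have hS'T : S' ≤ T := by rw [hS']; exact inf_le_left
  have hS'Ehat : S' ≤ Ehat := by rw [hS']; exact inf_le_right
  have hPS' : P ≤ S' := by rw [hS']; exact le_inf hPT hPEhat
  have hTES' : (TE : Subgroup ↥E).map E.subtype ≤ S' := by
    rw [hS']; exact le_inf hTE ((Subgroup.map_subtype_le _).trans hEEhat)
  have hS'ne : S' ≠ Ehat := by
    intro heq
    have hET : E ≤ T := hEEhat.trans (heq ▸ hS'T)
    have hEp : IsPGroup p ↥E := T.isPGroup'.to_le hET
    have hTEtop : (⊤ : Subgroup ↥E) = TE := TE.is_maximal' (hEp.to_subgroup ⊤) le_top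
    exact hMEc.1 (top_le_iff.mp (hTEtop ▸ hTEM))
  have hS'E₀ : S' ≤ E₀ := hB3 S' hS'Ehat hPS' hTES' hS'ne
  -- Step 4: `E₀` is canonical
  have hC : ∀ y : H, y ∈ Subgroup.normalizer (Ehat : Set H) →
      y ∈ Subgroup.normalizer (S' : Set H) → y ∈ Subgroup.normalizer (E₀ : Set H) := by
    intro y hy1 hy2
    rw [← cj_eq_self_iff]
    apply cj_eq_of_le
    apply hB3
    · calc cj(y, E₀) ≤ cj(y, Ehat) := cj_mono hE₀le
        _ = Ehat := cj_eq_self_iff.mpr hy1
    · calc P = cj(y, P) := (cj_of_normal y P).symm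
        _ ≤ cj(y, E₀) := cj_mono hPE₀
    · calc (TE : Subgroup ↥E).map E.subtype ≤ S' := hTES'
        _ = cj(y, S') := (cj_eq_self_iff.mpr hy2).symm
        _ ≤ cj(y, E₀) := cj_mono hS'E₀
    · intro heq
      apply hE₀ne
      have h1 : cj(y, E₀) = cj(y, Ehat) := by rw [heq, cj_eq_self_iff.mpr hy1]
      exact Subgroup.map_injective (MulAut.conj y).injective h1
  -- Step 5
  have hRPnE : R ⊔ P ≤ Subgroup.normalizer (Ehat : Set H) := by rw [hEhat]; exact hnorm E hE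
  have hEhatRP : Ehat ≤ R ⊔ P := by
    rw [hEhat, hR]; exact sup_le_sup_right (le_sSup hE) _
  have hstep5 : ∀ L : Subgroup H, IsCoatom L → (T : Subgroup H) ≤ L → ∀ x ∈ L ⊓ (R ⊔ P),
      x ∈ Subgroup.normalizer (E₀ : Set H) := by
    intro L hL hTL x hx
    have h5a : ¬ Ehat ≤ L := by
      intro hle
      apply hL.1
      rw [eq_top_iff, ← hRT]
      refine sup_le ?_ hTL
      rw [hR]
      apply sSup_le
      intro K hK
      obtain ⟨h, rfl⟩ := htr E hE K hK
      have hh : h ∈ (((T : Subgroup H) ⊔ R : Subgroup H) : Set H) := by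
        rw [sup_comm, hRT]; exact Subgroup.mem_top h
      rw [Subgroup.mul_normal] at hh
      obtain ⟨t, ht, r, hr, rfl⟩ := Set.mem_mul.mp hh
      have hrN : cj(r, Ehat) = Ehat := cj_eq_self_iff.mpr (hRPnE (Subgroup.mem_sup_left hr))
      calc cj(t * r, E) ≤ cj(t * r, Ehat) := cj_mono hEEhat
        _ = cj(t, cj(r, Ehat)) := (cj_cj t r Ehat).symm
        _ = cj(t, Ehat) := by rw [hrN]
        _ ≤ cj(t, L) := cj_mono hle
        _ = L := cj_eq_self_of_mem (hTL ht)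
    have h5b : L ⊓ Ehat ≤ E₀ := by
      apply hB3 _ inf_le_right (le_inf (hPT.trans hTL) hPEhat)
        (le_inf (hTE.trans hTL) ((Subgroup.map_subtype_le _).trans hEEhat))
      intro heq
      exact h5a (heq ▸ inf_le_left)
    have hxN : x ∈ Subgroup.normalizer (Ehat : Set H) := hRPnE hx.2
    have hD : cj(x, S') ≤ E₀ := by
      refine le_trans ?_ h5b
      refine le_inf ?_ ?_
      · calc cj(x, S') ≤ cj(x, L) := cj_mono (hS'T.trans hTL)
          _ = L := cj_eq_self_of_mem hx.1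
      · calc cj(x, S') ≤ cj(x, Ehat) := cj_mono hS'Ehat
          _ = Ehat := cj_eq_self_iff.mpr hxN
    have hS'E₀' : (T : Subgroup H) ⊓ Ehat ≤ E₀ := by rw [← hS']; exact hS'E₀
    obtain ⟨c, hc, hcS⟩ := kfam_exists_cj_le_sylow_inf T hEhatRP hRPnE hE₀le hS'E₀'
      (isPGroup_cj (T.isPGroup'.to_le hS'T) x) hD
    rw [cj_cj, ← hS'] at hcS
    have hcx : c * x ∈ Subgroup.normalizer (S' : Set H) := cj_eq_self_iff.mp (cj_eq_of_le hcS)
    have hcE : c ∈ Subgroup.normalizer (Ehat : Set H) := Subgroup.le_normalizer (hE₀le hc)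
    have hcxE : c * x ∈ Subgroup.normalizer (Ehat : Set H) := Subgroup.mul_mem _ hcE hxN
    have h1 := hC (c * x) hcxE hcx
    have h2 : c ∈ Subgroup.normalizer (E₀ : Set H) := Subgroup.le_normalizer hc
    have e1 : x = c⁻¹ * (c * x) := by group
    rw [e1]; exact Subgroup.mul_mem _ (Subgroup.inv_mem _ h2) h1
  -- Step 6
  obtain ⟨R₀, hR₀⟩ : ∃ R₀, R₀ = (R ⊔ P) ⊓
      ⨅ t : ↥(T : Subgroup H), cj((t : H), Subgroup.normalizer (E₀ : Set H)) := ⟨_, rfl⟩
  have hmemR₀ : ∀ z : H, z ∈ R₀ ↔ z ∈ R ⊔ P ∧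
      ∀ t ∈ (T : Subgroup H), t⁻¹ * z * t ∈ Subgroup.normalizer (E₀ : Set H) := by
    intro z
    rw [hR₀, Subgroup.mem_inf, Subgroup.mem_iInf]
    constructor
    · rintro ⟨h1, h2⟩; exact ⟨h1, fun t ht => mem_cj.mp (h2 ⟨t, ht⟩)⟩
    · rintro ⟨h1, h2⟩; exact ⟨h1, fun t => mem_cj.mpr (h2 t t.2)⟩
  have h6a : ∀ L : Subgroup H, IsCoatom L → (T : Subgroup H) ≤ L → L ≤ R₀ ⊔ T := by
    intro L hL hTL l hl
    have hl' : l ∈ (R ⊔ P) ⊔ (T : Subgroup H) := by
      have htop : (R ⊔ P) ⊔ (T : Subgroup H) = ⊤ := by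
        rw [eq_top_iff, ← hRT]; exact sup_le_sup_right le_sup_left _
      rw [htop]; exact Subgroup.mem_top l
    obtain ⟨y, hy, t, ht, hyt⟩ := Subgroup.mem_sup_of_normal_left.mp hl'
    have hyL : y ∈ L := by
      have e1 : y = l * t⁻¹ := by rw [← hyt]; group
      rw [e1]; exact L.mul_mem hl (L.inv_mem (hTL ht))
    rw [← hyt]
    refine Subgroup.mul_mem _ (Subgroup.mem_sup_left ?_) (Subgroup.mem_sup_right ht)
    rw [hmemR₀]
    refine ⟨hy, fun t' ht' => hstep5 L hL hTL _ ⟨?_, ?_⟩⟩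
    · exact L.mul_mem (L.mul_mem (L.inv_mem (hTL ht')) hyL) (hTL ht')
    · have h1 := hRPn.conj_mem y hy t'⁻¹
      simpa using h1
  have h6b : R₀ ⊔ (T : Subgroup H) ≠ ⊤ := by
    intro htop
    have hTR₀ : (T : Subgroup H) ≤ Subgroup.normalizer (R₀ : Set H) := by
      intro s hs
      rw [← cj_eq_self_iff]
      apply cj_eq_of_le
      rintro _ ⟨z, hz, rfl⟩
      have hz' := (hmemR₀ z).mp hz
      show (MulAut.conj s) z ∈ R₀
      rw [MulAut.conj_apply, hmemR₀]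
      refine ⟨hRPn.conj_mem z hz'.1 s, fun t ht => ?_⟩
      have h1 := hz'.2 (s⁻¹ * t) (Subgroup.mul_mem _ (Subgroup.inv_mem _ hs) ht)
      have e1 : t⁻¹ * (s * z * s⁻¹) * t = (s⁻¹ * t)⁻¹ * z * (s⁻¹ * t) := by group
      rw [e1]; exact h1
    have hEN : Ehat ≤ Subgroup.normalizer (E₀ : Set H) := by
      intro e he
      have he' : e ∈ (((T : Subgroup H) ⊔ R₀ : Subgroup H) : Set H) := by
        rw [sup_comm, htop]; exact Subgroup.mem_top e
      rw [Subgroup.coe_mul_of_left_le_normalizer_right _ _ hTR₀] at he'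
      obtain ⟨t, ht, z, hz, rfl⟩ := Set.mem_mul.mp he'
      have hz' := (hmemR₀ z).mp hz
      have hzN : z ∈ Subgroup.normalizer (E₀ : Set H) := by
        have h1 := hz'.2 1 (Subgroup.one_mem _)
        simpa using h1
      have htRP : t ∈ R ⊔ P := by
        have e1 : t = (t * z) * z⁻¹ := by group
        rw [e1]; exact Subgroup.mul_mem _ (hEhatRP he) (Subgroup.inv_mem _ hz'.1)
      have htN : t ∈ Subgroup.normalizer (E₀ : Set H) := by
        apply hC t (hRPnE htRP)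
        rw [← cj_eq_self_iff, hS', cj_inf, cj_eq_self_of_mem ht,
          cj_eq_self_iff.mpr (hRPnE htRP)]
      exact Subgroup.mul_mem _ htN hzN
    apply hE₀ne
    apply le_antisymm hE₀le
    rw [hEhat]
    refine sup_le ?_ hPE₀
    haveI hnE : (E₀.subgroupOf E).Normal :=
      Subgroup.normal_subgroupOf_of_le_normalizer (hEEhat.trans hEN)
    have h2 : Subgroup.normalClosure ((TE : Subgroup ↥E) : Set ↥E) ≤ E₀.subgroupOf E := by
      apply Subgroup.normalClosure_le_normal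
      intro x hx
      exact hTEE₀ ⟨x, hx, rfl⟩
    rw [hEncl] at h2
    intro e he
    exact h2 (Subgroup.mem_top (⟨e, he⟩ : ↥E))
  refine ⟨hncl, ?_⟩
  obtain ⟨M, hM, hle⟩ := exists_coatom_ge h6b
  refine ⟨M, ⟨hM, le_sup_right.trans hle⟩, ?_⟩
  rintro L ⟨hL, hTL⟩
  have hLM : L ≤ M := (h6a L hL hTL).trans hle
  by_contra hne'
  exact hM.1 (hL.2 M (lt_of_le_of_ne hLM hne'))

end kfam2

end Cfsg.Agent.Helper47
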