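import Cfsg.Agent.Helper47.KFam

set_option autoImplicit false

namespace Cfsg.Agent.Helper47

open scoped commutatorElement Pointwise

local notation "cj(" g "," Q ")" => Subgroup.map (MulEquiv.toMonoidHom (MulAut.conj g)) Q

section kfam3

variable {H : Type*} [Group H] [Finite H] {p : ℕ} [hp : Fact p.Prime]

theorem kfam_pCoreOf_le {A B : Subgroup H} [hB : B.Normal] (hAB : A ≤ B)
    (hBA : B ≤ Subgroup.normalizer (A : Set H)) : Cfsg.pCoreOf p A ≤ Cfsg.pCore p H := by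
  have h1 : Cfsg.pCoreOf p A ≤ Cfsg.pCoreOf p B := pCoreOf_le_pCoreOf hAB hBA
  refine h1.trans ?_
  have hn : (Cfsg.pCoreOf p B).Normal := by
    rw [← Subgroup.normalizer_eq_top_iff, eq_top_iff]
    have h2 := normalizer_le_normalizer_pCoreOf (p := p) B
    rw [Subgroup.normalizer_eq_top_iff.mpr hB] at h2
    exact h2
  exact le_pCore hn (pCoreOf_isPGroup B)

theorem kfam_pCoreOf_le' {E B : Subgroup H} [hB : B.Normal]
    (hAB : E ⊔ Cfsg.pCore p H ≤ B)
    (hBA : B ≤ Subgroup.normalizer ((E ⊔ Cfsg.pCore p H : Subgroup H) : Set H)) :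
    Cfsg.pCoreOf p E ≤ Cfsg.pCore p H := by
  obtain ⟨P, hP⟩ : ∃ P, P = Cfsg.pCore p H := ⟨_, rfl⟩
  have hle0 := kfam_pCoreOf_le (p := p) hAB hBA
  rw [← hP] at hAB hBA hle0 ⊢
  haveI hPn : P.Normal := by rw [hP]; infer_instance
  have hPp : IsPGroup p ↥P := by rw [hP]; exact pCore_isPGroup p H
  have hPtop : Subgroup.normalizer (P : Set H) = ⊤ := Subgroup.normalizer_eq_top_iff.mpr hPn
  have hpg : IsPGroup p ↥(P ⊔ Cfsg.pCoreOf p E) :=
    isPGroup_sup_of_le_normalizer hPp (pCoreOf_isPGroup E) (by rw [hPtop]; exact le_top)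
  have hle : P ⊔ Cfsg.pCoreOf p E ≤ E ⊔ P :=
    sup_le le_sup_right ((pCoreOf_le p E).trans le_sup_left)
  have hn : E ⊔ P ≤ Subgroup.normalizer ((P ⊔ Cfsg.pCoreOf p E : Subgroup H) : Set H) := by
    refine sup_le ?_ ?_
    · refine le_trans (le_inf ?_ (le_normalizer_pCoreOf E))
        (Subgroup.normalizer_inf_normalizer_le_normalizer_sup _ _)
      rw [hPtop]; exact le_top
    · exact le_sup_left.trans Subgroup.le_normalizer
  have h1 : P ⊔ Cfsg.pCoreOf p E ≤ Cfsg.pCoreOf p (E ⊔ P) := le_pCoreOf hle hpg hn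
  exact le_sup_right.trans (h1.trans hle0)

theorem kfam_pResidual_le_commutator {E : Subgroup H}
    (hirr : Cfsg.IsStronglyPIrreducible p ↥E) :
    (Cfsg.pResidual p ↥E).map E.subtype ≤ ⁅E, E⁆ := by
  have hmap : (commutator ↥E).map E.subtype = ⁅E, E⁆ := by
    rw [commutator_def, Subgroup.map_commutator, ← MonoidHom.range_eq_map,
      Subgroup.range_subtype]
  rw [← hmap]
  apply Subgroup.map_mono
  apply hirr.2 (commutator ↥E) inferInstance
  intro hle
  exact hirr.1 (kfam_isPClosed_of_class_two hle)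

theorem kfam_strong_dichotomy {E : Subgroup H} (hirr : Cfsg.IsStronglyPIrreducible p ↥E)
    (D : Subgroup H) (hED : E ≤ Subgroup.normalizer (D : Set H)) :
    (Cfsg.pResidual p ↥E).map E.subtype ≤ D ∨ ⁅D ⊓ E, E⁆ ≤ Cfsg.pCoreOf p E := by
  haveI : (D.subgroupOf E).Normal := Subgroup.normal_subgroupOf_of_le_normalizer hED
  by_cases hc : ⁅D.subgroupOf E, (⊤ : Subgroup ↥E)⁆ ≤ Cfsg.pCore p ↥E
  · right
    have h1 := Subgroup.map_mono (f := E.subtype) hc
    rw [Subgroup.map_commutator, Subgroup.subgroupOf_map_subtype, ← MonoidHom.range_eq_map,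
      Subgroup.range_subtype] at h1
    exact h1
  · left
    have h1 := Subgroup.map_mono (f := E.subtype) (hirr.2 _ inferInstance hc)
    rw [Subgroup.subgroupOf_map_subtype] at h1
    exact h1.trans inf_le_left

/-- `O^p(H)` is generated by the `O^p(K)`, `K ∈ 𝒦` -/
theorem kfam_pResidual_le_iSup (𝒦 : Set (Subgroup H)) (hne : 𝒦.Nonempty)
    (hinv : ∀ h : H, ∀ E ∈ 𝒦, cj(h, E) ∈ 𝒦)
    (hres : Cfsg.pResidual p H ≤ sSup 𝒦)
    (hnorm : ∀ E ∈ 𝒦, sSup 𝒦 ⊔ Cfsg.pCore p H ≤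
      Subgroup.normalizer ((E ⊔ Cfsg.pCore p H : Subgroup H) : Set H)) :
    Cfsg.pResidual p H ≤
      ⨆ K : 𝒦, (Cfsg.pResidual p ↥(K : Subgroup H)).map (K : Subgroup H).subtype := by
  obtain ⟨R₀, hR₀⟩ : ∃ R₀, R₀ =
      ⨆ K : 𝒦, (Cfsg.pResidual p ↥(K : Subgroup H)).map (K : Subgroup H).subtype := ⟨_, rfl⟩
  rw [← hR₀]
  obtain ⟨P, hP⟩ : ∃ P, P = Cfsg.pCore p H := ⟨_, rfl⟩
  obtain ⟨R, hR⟩ : ∃ R, R = sSup 𝒦 := ⟨_, rfl⟩
  rw [← hP, ← hR] at hnorm
  rw [← hR] at hres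
  haveI hPn : P.Normal := by rw [hP]; infer_instance
  have hPp : IsPGroup p ↥P := by rw [hP]; exact pCore_isPGroup p H
  haveI hRn : R.Normal := by rw [hR]; exact kfam_sSup_normal hinv
  have hmemR₀ : ∀ K ∈ 𝒦, (Cfsg.pResidual p ↥K).map K.subtype ≤ R₀ := by
    intro K hK
    rw [hR₀]
    exact le_iSup (fun K : 𝒦 =>
      (Cfsg.pResidual p ↥(K : Subgroup H)).map (K : Subgroup H).subtype) ⟨K, hK⟩
  haveI hR₀n : R₀.Normal := by
    constructor
    intro n hn g
    have hle : cj(g, R₀) ≤ R₀ := by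
      rw [hR₀, Subgroup.map_iSup]
      apply iSup_le
      rintro ⟨K, hK⟩
      rw [← hR₀, ← kfam_pResidual_map_cj]
      exact hmemR₀ _ (hinv g K hK)
    have h1 : (MulAut.conj g).toMonoidHom n ∈ R₀ := hle ⟨n, hn, rfl⟩
    simpa using h1
  obtain ⟨T⟩ : Nonempty (Sylow p H) := inferInstance
  have htop : (R ⊔ P) ⊔ (T : Subgroup H) = ⊤ := by
    rw [eq_top_iff, ← pResidual_sup_sylow T]
    exact sup_le_sup_right (hres.trans le_sup_left) _
  apply pResidual_le_of_quotient_isPGroup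
  have hπ : Function.Surjective (QuotientGroup.mk' R₀) := QuotientGroup.mk'_surjective R₀
  have hKp : ∀ K ∈ 𝒦, IsPGroup p ↥((K ⊔ P).map (QuotientGroup.mk' R₀)) := by
    intro K hK
    rw [Subgroup.map_sup, sup_comm]
    apply isPGroup_sup_of_le_normalizer (hPp.map (QuotientGroup.mk' R₀))
    · apply isPGroup_of_pow
      rintro _ ⟨g, hg, rfl⟩
      obtain ⟨k, hk⟩ := kfam_exists_pow_mem_pResidual_map (p := p) hg
      refine ⟨k, ?_⟩
      rw [← map_pow]
      exact (QuotientGroup.eq_one_iff _).mpr (hmemR₀ K hK hk)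
    · haveI : (P.map (QuotientGroup.mk' R₀)).Normal := Subgroup.Normal.map hPn _ hπ
      rw [Subgroup.normalizer_eq_top_iff.mpr inferInstance]; exact le_top
  have hRPp : IsPGroup p ↥((R ⊔ P).map (QuotientGroup.mk' R₀)) := by
    have hK' : ∀ K ∈ 𝒦, (K ⊔ P).map (QuotientGroup.mk' R₀) ≤
        Cfsg.pCoreOf p ((R ⊔ P).map (QuotientGroup.mk' R₀)) := by
      intro K hK
      apply le_pCoreOf (Subgroup.map_mono (sup_le_sup_right (by rw [hR]; exact le_sSup hK) _))
        (hKp K hK)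
      exact (Subgroup.map_mono (hnorm K hK)).trans (Subgroup.le_normalizer_map _)
    have hle : (R ⊔ P).map (QuotientGroup.mk' R₀) ≤
        Cfsg.pCoreOf p ((R ⊔ P).map (QuotientGroup.mk' R₀)) := by
      conv_lhs => rw [Subgroup.map_sup]
      refine sup_le ?_ ?_
      · have hRle : R ≤ (Cfsg.pCoreOf p ((R ⊔ P).map (QuotientGroup.mk' R₀))).comap
            (QuotientGroup.mk' R₀) := by
          conv_lhs => rw [hR]
          apply sSup_le
          intro K hK
          rw [← Subgroup.map_le_iff_le_comap]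
          exact (Subgroup.map_mono le_sup_left).trans (hK' K hK)
        exact Subgroup.map_le_iff_le_comap.mpr hRle
      · obtain ⟨K, hK⟩ := hne
        exact (Subgroup.map_mono le_sup_right).trans (hK' K hK)
    exact (pCoreOf_isPGroup _).to_le hle
  have hall : IsPGroup p ↥(((R ⊔ P).map (QuotientGroup.mk' R₀)) ⊔
      (T : Subgroup H).map (QuotientGroup.mk' R₀)) := by
    apply isPGroup_sup_of_le_normalizer hRPp (T.isPGroup'.map _)
    haveI : ((R ⊔ P).map (QuotientGroup.mk' R₀)).Normal := Subgroup.Normal.map inferInstance _ hπ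
    rw [Subgroup.normalizer_eq_top_iff.mpr inferInstance]; exact le_top
  have htop' : ((R ⊔ P).map (QuotientGroup.mk' R₀)) ⊔
      (T : Subgroup H).map (QuotientGroup.mk' R₀) = ⊤ := by
    rw [← Subgroup.map_sup, htop, ← MonoidHom.range_eq_map]
    exact MonoidHom.range_eq_top.mpr hπ
  rw [htop'] at hall
  intro g
  obtain ⟨k, hk⟩ := hall ⟨g, Subgroup.mem_top g⟩
  exact ⟨k, by simpa using congrArg Subtype.val hk⟩

theorem kfam_mem_of_pow_mem (T : Sylow p H) {N₁ P : Subgroup H} [N₁.Normal] [P.Normal]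
    (hPp : IsPGroup p ↥P) (hT : (T : Subgroup H) ⊓ N₁ ≤ P) {c : H} (hc : c ∈ N₁) {k : ℕ}
    (hk : c ^ (p ^ k) ∈ P) : c ∈ P := by
  obtain ⟨j, hj⟩ := isPGroup_pow hPp hk
  have hcp : c ^ (p ^ (k + j)) = 1 := by rw [pow_add, pow_mul]; exact hj
  have hZ : IsPGroup p ↥(Subgroup.zpowers c) := isPGroup_zpowers hcp
  obtain ⟨g, hg⟩ := exists_cj_le_sylow hZ T
  have h1 : cj(g, Subgroup.zpowers c) ≤ N₁ := by
    calc cj(g, Subgroup.zpowers c) ≤ cj(g, N₁) := cj_mono (by rw [Subgroup.zpowers_le]; exact hc)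
      _ = N₁ := cj_of_normal g N₁
  have h2 : cj(g, Subgroup.zpowers c) ≤ P := (le_inf hg h1).trans hT
  have h3 : Subgroup.zpowers c ≤ cj(g⁻¹, P) := cj_le_iff.mp h2
  rw [cj_of_normal] at h3
  exact h3 (Subgroup.mem_zpowers c)

end kfam3

end Cfsg.Agent.Helper47
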