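import Cfsg.Agent.Helper47.KFam3

set_option autoImplicit false

namespace Cfsg.Agent.Helper47

open scoped commutatorElement Pointwise

local notation "cj(" g "," Q ")" => Subgroup.map (MulEquiv.toMonoidHom (MulAut.conj g)) Q

section kfam4

variable {H : Type*} [Group H] [Finite H] {p : ℕ} [hp : Fact p.Prime]

/-- a transitive family of strongly `p`-irreducible subgroups generating `O^p(H)` makes `H`
`p`-irreducible -/
theorem kfam_irreducible (𝒦 : Set (Subgroup H)) (hne : 𝒦.Nonempty)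
    (hinv : ∀ h : H, ∀ E ∈ 𝒦, cj(h, E) ∈ 𝒦)
    (htr : ∀ E ∈ 𝒦, ∀ K ∈ 𝒦, ∃ h : H, K = cj(h, E))
    (hres : Cfsg.pResidual p H ≤ sSup 𝒦)
    (hnorm : ∀ E ∈ 𝒦, sSup 𝒦 ⊔ Cfsg.pCore p H ≤
      Subgroup.normalizer ((E ⊔ Cfsg.pCore p H : Subgroup H) : Set H))
    (hirr : ∀ E ∈ 𝒦, Cfsg.IsStronglyPIrreducible p ↥E) : Cfsg.IsPIrreducible p H := by
  have hKL := kfam_pResidual_le_iSup 𝒦 hne hinv hres hnorm
  have hOE : ∀ E ∈ 𝒦, Cfsg.pCoreOf p E ≤ Cfsg.pCore p H := by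
    intro E hE
    haveI : (sSup 𝒦).Normal := kfam_sSup_normal hinv
    exact kfam_pCoreOf_le' (B := sSup 𝒦 ⊔ Cfsg.pCore p H) (sup_le_sup_right (le_sSup hE) _)
      (hnorm E hE)
  obtain ⟨P, hP⟩ : ∃ P, P = Cfsg.pCore p H := ⟨_, rfl⟩
  obtain ⟨R, hR⟩ : ∃ R, R = sSup 𝒦 := ⟨_, rfl⟩
  rw [← hP, ← hR] at hnorm
  rw [← hP] at hOE
  haveI hPn : P.Normal := by rw [hP]; infer_instance
  have hPp : IsPGroup p ↥P := by rw [hP]; exact pCore_isPGroup p H
  have hPtop : Subgroup.normalizer (P : Set H) = ⊤ := Subgroup.normalizer_eq_top_iff.mpr hPn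
  haveI hRn : R.Normal := by rw [hR]; exact kfam_sSup_normal hinv
  refine ⟨?_, ?_⟩
  · intro hcl
    obtain ⟨E₁, hE₁⟩ := hne
    apply (hirr E₁ hE₁).1
    rw [isPClosed_subgroup_iff]
    exact PCl_mono le_top (isPClosed_iff_PCl_top.mp hcl)
  · intro N hN hNcl
    by_contra hnot
    apply hNcl
    have hNtop : Subgroup.normalizer (N : Set H) = ⊤ := Subgroup.normalizer_eq_top_iff.mpr hN
    obtain ⟨T⟩ : Nonempty (Sylow p H) := inferInstance
    have hPT : P ≤ T := by rw [hP]; exact pCore_le_sylow T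
    have hEle : ∀ E ∈ 𝒦, E ⊔ P ≤ R ⊔ P := fun E hE =>
      sup_le_sup_right (by rw [hR]; exact le_sSup hE) _
    -- Step 1
    have h1 : ∀ E ∈ 𝒦, ¬ (Cfsg.pResidual p ↥E).map E.subtype ≤ N := by
      intro E hE hle
      apply hnot
      refine hKL.trans (iSup_le ?_)
      rintro ⟨K, hK⟩
      obtain ⟨h, rfl⟩ := htr E hE K hK
      show (Cfsg.pResidual p ↥(cj(h, E))).map (cj(h, E)).subtype ≤ N
      rw [kfam_pResidual_map_cj]
      calc cj(h, (Cfsg.pResidual p ↥E).map E.subtype) ≤ cj(h, N) := cj_mono hle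
        _ = N := cj_of_normal h N
    -- Step 2
    have h2 : ∀ E ∈ 𝒦, ⁅N ⊓ (E ⊔ P), E ⊔ P⁆ ≤ P := by
      intro E hE
      have hPNE : P ≤ Subgroup.normalizer ((N ⊓ (E ⊔ P) : Subgroup H) : Set H) := by
        refine le_trans (le_inf ?_ (le_sup_right.trans Subgroup.le_normalizer))
          Subgroup.inf_normalizer_le_normalizer_inf
        rw [hNtop]; exact le_top
      have hED : E ≤ Subgroup.normalizer (((N ⊓ (E ⊔ P)) ⊔ P : Subgroup H) : Set H) := by
        refine le_trans (le_inf ?_ ?_) (Subgroup.normalizer_inf_normalizer_le_normalizer_sup _ _)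
        · refine le_trans (le_inf ?_ (le_sup_left.trans Subgroup.le_normalizer))
            Subgroup.inf_normalizer_le_normalizer_inf
          rw [hNtop]; exact le_top
        · rw [hPtop]; exact le_top
      rcases kfam_strong_dichotomy (hirr E hE) ((N ⊓ (E ⊔ P)) ⊔ P) hED with hl | hr
      · exfalso
        apply h1 E hE
        have h3 := wcf_pResidual_map_le_of_le_sup rfl hPp hPNE (by rw [sup_comm]; exact hl)
        exact h3.trans inf_le_left
      · have hr' : ⁅((N ⊓ (E ⊔ P)) ⊔ P) ⊓ E, E⁆ ≤ P := hr.trans (hOE E hE)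
        have hsub : N ⊓ (E ⊔ P) ≤ (((N ⊓ (E ⊔ P)) ⊔ P) ⊓ E) ⊔ P := by
          intro n hn
          obtain ⟨e₁, he₁, x, hx, hex⟩ := Subgroup.mem_sup_of_normal_right.mp hn.2
          have he₁D : e₁ ∈ (N ⊓ (E ⊔ P)) ⊔ P := by
            have e1 : e₁ = n * x⁻¹ := by rw [← hex]; group
            rw [e1]
            exact Subgroup.mul_mem _ (Subgroup.mem_sup_left hn)
              (Subgroup.mem_sup_right (P.inv_mem hx))
          rw [← hex]
          exact Subgroup.mul_mem _ (Subgroup.mem_sup_left ⟨he₁D, he₁⟩)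
            (Subgroup.mem_sup_right hx)
        exact (Subgroup.commutator_mono hsub le_rfl).trans (kfam_commutator_sup_le_normal hr')
    -- N₁
    obtain ⟨N₁, hN₁⟩ : ∃ N₁, N₁ = N ⊓ (R ⊔ P) := ⟨_, rfl⟩
    haveI hN₁n : N₁.Normal := by rw [hN₁]; infer_instance
    have hN₁N : N₁ ≤ N := by rw [hN₁]; exact inf_le_left
    have hN₁RP : N₁ ≤ R ⊔ P := by rw [hN₁]; exact inf_le_right
    -- Step 3
    have h3a : ∀ E ∈ 𝒦, ⁅N₁, E ⊔ P⁆ ≤ N ⊓ (E ⊔ P) := by
      intro E hE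
      refine le_inf ?_ ?_
      · exact (Subgroup.commutator_mono hN₁N le_top).trans (Subgroup.commutator_le_left N ⊤)
      · exact wcf_commutator_le_right (hN₁RP.trans (hnorm E hE))
    have h3 : ∀ E ∈ 𝒦, ⁅⁅E ⊔ P, E ⊔ P⁆, N₁⁆ ≤ P := by
      intro E hE
      have hx : ⁅⁅N₁, E ⊔ P⁆, E ⊔ P⁆ ≤ P :=
        (Subgroup.commutator_mono (h3a E hE) le_rfl).trans (h2 E hE)
      apply wcf_commutator_commutator_le_of_rotate
      · rw [Subgroup.commutator_comm (E ⊔ P) N₁]; exact hx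
      · exact hx
    -- Step 4
    have h4 : ∀ E ∈ 𝒦, ⁅(Cfsg.pResidual p ↥E).map E.subtype, N₁⁆ ≤ P := by
      intro E hE
      exact (Subgroup.commutator_mono ((kfam_pResidual_le_commutator (hirr E hE)).trans
        (Subgroup.commutator_mono le_sup_left le_sup_left)) le_rfl).trans (h3 E hE)
    have hiSupP : ∀ C : Subgroup H,
        (∀ E ∈ 𝒦, ⁅(Cfsg.pResidual p ↥E).map E.subtype, C⁆ ≤ P) →
        ⁅Cfsg.pResidual p H, C⁆ ≤ P := by
      intro C hC
      refine (Subgroup.commutator_mono hKL le_rfl).trans ?_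
      apply commutator_iSup_le
      · rw [hPtop]; exact le_top
      · rintro ⟨K, hK⟩ a ha c hc
        exact hC K hK (Subgroup.commutator_mem_commutator ha hc)
    have h4' : ⁅Cfsg.pResidual p H, N₁⁆ ≤ P := hiSupP N₁ h4
    have hUP : ∀ U : Subgroup H, U ≤ T → (T : Subgroup H) ≤ Subgroup.normalizer (U : Set H) →
        ⁅Cfsg.pResidual p H, U⁆ ≤ P → U ≤ P := by
      intro U hUT hTU hcomm
      have hn : (U ⊔ P).Normal := by
        rw [← Subgroup.normalizer_eq_top_iff, eq_top_iff, ← pResidual_sup_sylow T]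
        refine sup_le (kfam_le_normalizer_sup_of_commutator_le hcomm) ?_
        refine le_trans (le_inf hTU ?_) (Subgroup.normalizer_inf_normalizer_le_normalizer_sup _ _)
        rw [hPtop]; exact le_top
      have hpg : IsPGroup p ↥(U ⊔ P) := T.isPGroup'.to_le (sup_le hUT hPT)
      have h5 := le_pCore hn hpg
      rw [← hP] at h5
      exact le_sup_left.trans h5
    -- Step 5
    have h5 : (T : Subgroup H) ⊓ N₁ ≤ P := by
      apply hUP _ inf_le_left
      · refine le_trans (le_inf Subgroup.le_normalizer ?_)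
          Subgroup.inf_normalizer_le_normalizer_inf
        rw [Subgroup.normalizer_eq_top_iff.mpr hN₁n]; exact le_top
      · exact (Subgroup.commutator_mono le_rfl inf_le_right).trans h4'
    -- Step 6
    have h6 : ∀ E ∈ 𝒦, ⁅N₁, E⁆ ≤ P := by
      intro E hE
      rw [Subgroup.commutator_le]
      intro n hn e he
      have hcm : ⁅n, e⁆ ∈ N ⊓ (E ⊔ P) :=
        h3a E hE (Subgroup.commutator_mem_commutator hn (Subgroup.mem_sup_left he))
      have hce : ⁅⁅n, e⁆, e⁆ ∈ P :=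
        h2 E hE (Subgroup.commutator_mem_commutator hcm (Subgroup.mem_sup_left he))
      have hcomm : Commute (QuotientGroup.mk' P ⁅n, e⁆) (QuotientGroup.mk' P e) := by
        have h2' : QuotientGroup.mk' P ⁅⁅n, e⁆, e⁆ = 1 := (QuotientGroup.eq_one_iff _).mpr hce
        rw [map_commutatorElement] at h2'
        exact commutatorElement_eq_one_iff_commute.mp h2'
      obtain ⟨k, hk⟩ := kfam_exists_pow_mem_pResidual_map (p := p) he
      have h3' : QuotientGroup.mk' P ⁅n, e⁆ = ⁅QuotientGroup.mk' P n, QuotientGroup.mk' P e⁆ :=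
        map_commutatorElement _ _ _
      have hpw := kfam_commutator_pow (QuotientGroup.mk' P n) (QuotientGroup.mk' P e)
        (by rw [← h3']; exact hcomm) (p ^ k)
      have hin : ⁅n, e ^ (p ^ k)⁆ ∈ P := by
        have h7 := h4 E hE (Subgroup.commutator_mem_commutator hk hn)
        have e2 : ⁅n, e ^ (p ^ k)⁆ = (⁅e ^ (p ^ k), n⁆)⁻¹ := (commutatorElement_inv _ _).symm
        rw [e2]; exact P.inv_mem h7
      have hpk : ⁅n, e⁆ ^ (p ^ k) ∈ P := by
        have h8 : QuotientGroup.mk' P (⁅n, e⁆ ^ (p ^ k)) = 1 := by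
          rw [map_pow, h3', ← hpw, ← map_pow, ← map_commutatorElement]
          exact (QuotientGroup.eq_one_iff _).mpr hin
        exact (QuotientGroup.eq_one_iff _).mp h8
      have hcN₁ : ⁅n, e⁆ ∈ N₁ := by rw [hN₁]; exact ⟨hcm.1, hEle E hE hcm.2⟩
      exact kfam_mem_of_pow_mem T hPp h5 hcN₁ hpk
    -- Step 7
    obtain ⟨U, hU⟩ : ∃ U, U = (T : Subgroup H) ⊓ N := ⟨_, rfl⟩
    have hUN₁ : ∀ E ∈ 𝒦, ⁅U, E⁆ ≤ N₁ := by
      intro E hE
      rw [hN₁]
      refine le_inf ?_ ?_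
      · exact (Subgroup.commutator_mono (by rw [hU]; exact inf_le_right) le_top).trans
          (Subgroup.commutator_le_left N ⊤)
      · exact (Subgroup.commutator_mono le_top (le_sup_left.trans (hEle E hE))).trans
          (Subgroup.commutator_le_right ⊤ (R ⊔ P))
    have h7 : ∀ E ∈ 𝒦, ⁅(Cfsg.pResidual p ↥E).map E.subtype, U⁆ ≤ P := by
      intro E hE
      have hx : ⁅⁅U, E⁆, E⁆ ≤ P := (Subgroup.commutator_mono (hUN₁ E hE) le_rfl).trans (h6 E hE)
      have h3'' : ⁅⁅E, E⁆, U⁆ ≤ P := by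
        apply wcf_commutator_commutator_le_of_rotate
        · rw [Subgroup.commutator_comm E U]; exact hx
        · exact hx
      exact (Subgroup.commutator_mono (kfam_pResidual_le_commutator (hirr E hE)) le_rfl).trans h3''
    have h8 : U ≤ P := by
      apply hUP U (by rw [hU]; exact inf_le_left)
      · rw [hU]
        refine le_trans (le_inf Subgroup.le_normalizer ?_)
          Subgroup.inf_normalizer_le_normalizer_inf
        rw [hNtop]; exact le_top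
      · exact hiSupP U h7
    -- Step 9
    haveI := hN
    have hcoe : ((sylowInfNormal T N : Sylow p ↥N) : Subgroup ↥N) = P.subgroupOf N := by
      ext x
      constructor
      · intro hx
        have hxT : (x : H) ∈ (T : Subgroup H) := hx
        have hxU : (x : H) ∈ U := by rw [hU]; exact ⟨hxT, x.2⟩
        exact h8 hxU
      · intro hx
        have hxP : (x : H) ∈ P := hx
        exact hPT hxP
    apply isPClosed_of_normal_sylow (sylowInfNormal T N)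
    rw [hcoe]
    infer_instance

/-- the dichotomy for two members of a family of strongly `p`-irreducible subgroups -/
theorem kfam_dichotomy (𝒦 : Set (Subgroup H))
    (hinv : ∀ h : H, ∀ E ∈ 𝒦, cj(h, E) ∈ 𝒦)
    (htr : ∀ E ∈ 𝒦, ∀ K ∈ 𝒦, ∃ h : H, K = cj(h, E))
    (hnorm : ∀ E ∈ 𝒦, sSup 𝒦 ⊔ Cfsg.pCore p H ≤
      Subgroup.normalizer ((E ⊔ Cfsg.pCore p H : Subgroup H) : Set H))
    (hirr : ∀ E ∈ 𝒦, Cfsg.IsStronglyPIrreducible p ↥E) :
    ∀ E ∈ 𝒦, ∀ K ∈ 𝒦,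
      (Cfsg.pResidual p ↥(E ⊔ Cfsg.pCore p H)).map (E ⊔ Cfsg.pCore p H).subtype =
        (Cfsg.pResidual p ↥(K ⊔ Cfsg.pCore p H)).map (K ⊔ Cfsg.pCore p H).subtype ∨
      ⁅E, K⁆ ≤ Cfsg.pCore p H := by
  haveI hRn0 : (sSup 𝒦).Normal := kfam_sSup_normal hinv
  have hOE : ∀ E ∈ 𝒦, Cfsg.pCoreOf p E ≤ Cfsg.pCore p H := by
    intro E hE
    exact kfam_pCoreOf_le' (B := sSup 𝒦 ⊔ Cfsg.pCore p H) (sup_le_sup_right (le_sSup hE) _)
      (hnorm E hE)
  have hOEhat : ∀ E ∈ 𝒦, Cfsg.pCoreOf p (E ⊔ Cfsg.pCore p H) ≤ Cfsg.pCore p H := by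
    intro E hE
    exact kfam_pCoreOf_le (B := sSup 𝒦 ⊔ Cfsg.pCore p H) (sup_le_sup_right (le_sSup hE) _)
      (hnorm E hE)
  obtain ⟨P, hP⟩ : ∃ P, P = Cfsg.pCore p H := ⟨_, rfl⟩
  obtain ⟨R, hR⟩ : ∃ R, R = sSup 𝒦 := ⟨_, rfl⟩
  rw [← hP, ← hR] at hnorm
  rw [← hP] at hOE hOEhat ⊢
  haveI hPn : P.Normal := by rw [hP]; infer_instance
  have hPp : IsPGroup p ↥P := by rw [hP]; exact pCore_isPGroup p H
  have hPtop : Subgroup.normalizer (P : Set H) = ⊤ := Subgroup.normalizer_eq_top_iff.mpr hPn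
  have hEle : ∀ E ∈ 𝒦, E ⊔ P ≤ R ⊔ P := fun E hE =>
    sup_le_sup_right (by rw [hR]; exact le_sSup hE) _
  have hH1 : ∀ E ∈ 𝒦, ∀ K ∈ 𝒦, (Cfsg.pResidual p ↥E).map E.subtype ≤ K ⊔ P →
      (Cfsg.pResidual p ↥(E ⊔ P)).map (E ⊔ P).subtype ≤
        (Cfsg.pResidual p ↥(K ⊔ P)).map (K ⊔ P).subtype := by
    intro E hE K hK hle
    rw [kfam_pResidual_map_le_iff]
    intro g hg hc
    refine kfam_mem_pResidual_map ?_ hc
    obtain ⟨d, hd, hpow⟩ := pow_mem_sup_of_le_normalizer (D := E) (C := P)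
      (by rw [hPtop]; exact le_top) hg
    obtain ⟨k, hk⟩ := kfam_exists_pow_mem_pResidual_map (p := p) hd
    obtain ⟨c, hcP, hgc⟩ := hpow (p ^ k)
    have hmem : g ^ (p ^ k) ∈ K ⊔ P := by
      rw [hgc]; exact Subgroup.mul_mem _ (hle hk) (Subgroup.mem_sup_right hcP)
    exact mem_of_pow_mem_of_coprime (Nat.Coprime.pow_left k hc.symm) hmem
  have hH2 : ∀ E ∈ 𝒦, ∀ K ∈ 𝒦,
      (Cfsg.pResidual p ↥(E ⊔ P)).map (E ⊔ P).subtype ≤
        (Cfsg.pResidual p ↥(K ⊔ P)).map (K ⊔ P).subtype →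
      (Cfsg.pResidual p ↥(E ⊔ P)).map (E ⊔ P).subtype =
        (Cfsg.pResidual p ↥(K ⊔ P)).map (K ⊔ P).subtype := by
    intro E hE K hK hle
    obtain ⟨h, rfl⟩ := htr E hE K hK
    have e1 : cj(h, E) ⊔ P = cj(h, E ⊔ P) := by rw [cj_sup, cj_of_normal h P]
    apply Subgroup.eq_of_le_of_card_ge hle
    rw [e1, kfam_pResidual_map_cj, card_cj]
  intro E hE K hK
  by_cases hA : (Cfsg.pResidual p ↥E).map E.subtype ≤ K ⊔ P
  · left; exact hH2 E hE K hK (hH1 E hE K hK hA)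
  by_cases hB : (Cfsg.pResidual p ↥K).map K.subtype ≤ E ⊔ P
  · left; exact (hH2 K hK E hE (hH1 K hK E hE hB)).symm
  right
  have ha : ∀ E ∈ 𝒦, ∀ K ∈ 𝒦, ¬ (Cfsg.pResidual p ↥K).map K.subtype ≤ E ⊔ P →
      ⁅(E ⊔ P) ⊓ (K ⊔ P), K ⊔ P⁆ ≤ P := by
    intro E hE K hK hB
    rcases kfam_strong_dichotomy (hirr K hK) (E ⊔ P)
      ((le_sup_left.trans (hEle K hK)).trans (hnorm E hE)) with hl | hr
    · exact absurd hl hB
    · have hr' : ⁅(E ⊔ P) ⊓ K, K⁆ ≤ P := hr.trans (hOE K hK)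
      have hsub : (E ⊔ P) ⊓ (K ⊔ P) ≤ ((E ⊔ P) ⊓ K) ⊔ P := by
        intro y hy
        obtain ⟨k₁, hk₁, x, hx, hkx⟩ := Subgroup.mem_sup_of_normal_right.mp hy.2
        have hk₁E : k₁ ∈ E ⊔ P := by
          have e1 : k₁ = y * x⁻¹ := by rw [← hkx]; group
          rw [e1]; exact Subgroup.mul_mem _ hy.1 (Subgroup.mem_sup_right (P.inv_mem hx))
        rw [← hkx]
        exact Subgroup.mul_mem _ (Subgroup.mem_sup_left ⟨hk₁E, hk₁⟩) (Subgroup.mem_sup_right hx)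
      exact (Subgroup.commutator_mono hsub le_rfl).trans (kfam_commutator_sup_le_normal hr')
  have a2 := ha E hE K hK hB
  have a1 := ha K hK E hE hA
  have b : ⁅E ⊔ P, K ⊔ P⁆ ≤ (E ⊔ P) ⊓ (K ⊔ P) :=
    le_inf (wcf_commutator_le_left ((hEle K hK).trans (hnorm E hE)))
      (wcf_commutator_le_right ((hEle E hE).trans (hnorm K hK)))
  have c1 : ⁅⁅K ⊔ P, K ⊔ P⁆, E ⊔ P⁆ ≤ P := by
    have hx : ⁅⁅E ⊔ P, K ⊔ P⁆, K ⊔ P⁆ ≤ P := (Subgroup.commutator_mono b le_rfl).trans a2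
    apply wcf_commutator_commutator_le_of_rotate
    · rw [Subgroup.commutator_comm (K ⊔ P) (E ⊔ P)]; exact hx
    · exact hx
  have d1 : ⁅(Cfsg.pResidual p ↥K).map K.subtype, E ⊔ P⁆ ≤ P :=
    (Subgroup.commutator_mono ((kfam_pResidual_le_commutator (hirr K hK)).trans
      (Subgroup.commutator_mono le_sup_left le_sup_left)) le_rfl).trans c1
  rw [Subgroup.commutator_le]
  intro e he k hk
  have hcm : ⁅e, k⁆ ∈ (E ⊔ P) ⊓ (K ⊔ P) :=
    b (Subgroup.commutator_mem_commutator (Subgroup.mem_sup_left he) (Subgroup.mem_sup_left hk))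
  have hck : ⁅⁅e, k⁆, k⁆ ∈ P :=
    a2 (Subgroup.commutator_mem_commutator hcm (Subgroup.mem_sup_left hk))
  have hcomm : Commute (QuotientGroup.mk' P ⁅e, k⁆) (QuotientGroup.mk' P k) := by
    have h2' : QuotientGroup.mk' P ⁅⁅e, k⁆, k⁆ = 1 := (QuotientGroup.eq_one_iff _).mpr hck
    rw [map_commutatorElement] at h2'
    exact commutatorElement_eq_one_iff_commute.mp h2'
  obtain ⟨j, hj⟩ := kfam_exists_pow_mem_pResidual_map (p := p) hk
  have h3' : QuotientGroup.mk' P ⁅e, k⁆ = ⁅QuotientGroup.mk' P e, QuotientGroup.mk' P k⁆ :=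
    map_commutatorElement _ _ _
  have hpw := kfam_commutator_pow (QuotientGroup.mk' P e) (QuotientGroup.mk' P k)
    (by rw [← h3']; exact hcomm) (p ^ j)
  have hin : ⁅e, k ^ (p ^ j)⁆ ∈ P := by
    have h7 := d1 (Subgroup.commutator_mem_commutator hj (Subgroup.mem_sup_left he))
    have e2 : ⁅e, k ^ (p ^ j)⁆ = (⁅k ^ (p ^ j), e⁆)⁻¹ := (commutatorElement_inv _ _).symm
    rw [e2]; exact P.inv_mem h7
  have hpk : ⁅e, k⁆ ^ (p ^ j) ∈ P := by
    have h8 : QuotientGroup.mk' P (⁅e, k⁆ ^ (p ^ j)) = 1 := by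
      rw [map_pow, h3', ← hpw, ← map_pow, ← map_commutatorElement]
      exact (QuotientGroup.eq_one_iff _).mpr hin
    exact (QuotientGroup.eq_one_iff _).mp h8
  obtain ⟨i, hi⟩ := isPGroup_pow hPp hpk
  have hcp : ⁅e, k⁆ ^ (p ^ (j + i)) = 1 := by rw [pow_add, pow_mul]; exact hi
  have hZ : IsPGroup p ↥(Subgroup.zpowers ⁅e, k⁆) := isPGroup_zpowers hcp
  have hZle : Subgroup.zpowers ⁅e, k⁆ ≤ (K ⊔ P) ⊓ (E ⊔ P) := by
    rw [Subgroup.zpowers_le]; exact ⟨hcm.2, hcm.1⟩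
  have hnrm : E ⊔ P ≤
      Subgroup.normalizer ((Subgroup.zpowers ⁅e, k⁆ ⊔ P : Subgroup H) : Set H) := by
    apply kfam_le_normalizer_sup_of_commutator_le
    rw [Subgroup.commutator_comm]
    exact (Subgroup.commutator_mono hZle le_rfl).trans a1
  have hpg : IsPGroup p ↥(Subgroup.zpowers ⁅e, k⁆ ⊔ P) := by
    rw [sup_comm]
    apply isPGroup_sup_of_le_normalizer hPp hZ
    rw [hPtop]; exact le_top
  have hle : Subgroup.zpowers ⁅e, k⁆ ⊔ P ≤ E ⊔ P := sup_le (hZle.trans inf_le_right) le_sup_right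
  have hfin := (le_pCoreOf hle hpg hnrm).trans (hOEhat E hE)
  exact hfin (Subgroup.mem_sup_left (Subgroup.mem_zpowers _))

end kfam4

end Cfsg.Agent.Helper47
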