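import Cfsg.Agent.Helper47.FrakH

set_option autoImplicit false

namespace Cfsg.Agent.Helper47

open scoped commutatorElement Pointwise

local notation "cj(" g "," Q ")" => Subgroup.map (MulEquiv.toMonoidHom (MulAut.conj g)) Q

section llemma

variable {G : Type*} [Group G] [Finite G] {p : ℕ} [hp : Fact p.Prime]

/-- normalizers grow in `p`-groups (relative form) -/
theorem ll_eq_of_normalizer_inf_le {Q D : Subgroup G} (hD : IsPGroup p ↥D) (hQD : Q ≤ D)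
    (h : D ⊓ Subgroup.normalizer (Q : Set G) ≤ Q) : D = Q := by
  haveI : Group.IsNilpotent ↥D := hD.isNilpotent
  have hnc : NormalizerCondition ↥D := Group.normalizerCondition_of_isNilpotent
  rw [normalizerCondition_iff_only_full_group_self_normalizing] at hnc
  have h1 : Subgroup.normalizer ((Q.subgroupOf D : Subgroup ↥D) : Set ↥D) = Q.subgroupOf D := by
    apply le_antisymm _ Subgroup.le_normalizer
    rw [← Subgroup.subgroupOf_normalizer_eq hQD]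
    intro y hy
    rw [Subgroup.mem_subgroupOf] at hy ⊢
    exact h ⟨y.2, hy⟩
  have h2 := hnc _ h1
  rw [Subgroup.subgroupOf_eq_top] at h2
  exact le_antisymm h2 hQD

/-- Sylow conjugation for a maximal `p`-subgroup `T` of `M` (relative form) -/
theorem ll_exists_cj_le {M T D : Subgroup G} (hT : IsPGroup p ↥T) (hTM : T ≤ M)
    (hmax : ∀ D' : Subgroup G, IsPGroup p ↥D' → T ≤ D' → D' ≤ M → D' = T)
    (hD : IsPGroup p ↥D) (hDM : D ≤ M) : ∃ m ∈ M, cj(m, D) ≤ T := by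
  obtain ⟨P, hP⟩ := (hT.comap_subtype (K := M)).exists_le_sylow
  have h1 : T ≤ (P : Subgroup ↥M).map M.subtype := by
    intro t ht
    exact ⟨⟨t, hTM ht⟩, hP (Subgroup.mem_subgroupOf.mpr ht), rfl⟩
  have h2 : (P : Subgroup ↥M).map M.subtype = T :=
    hmax _ (P.isPGroup'.map _) h1 (Subgroup.map_subtype_le _)
  obtain ⟨k, hk, hle⟩ := exists_cj_le_sylow_subgroup hD hDM P
  exact ⟨k, hk, by rw [← h2]; exact hle⟩

theorem ll_exists_max_card (P : Subgroup G → Prop) (h : ∃ D, P D) :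
    ∃ D, P D ∧ ∀ D', P D' → Nat.card ↥D' ≤ Nat.card ↥D := by
  classical
  obtain ⟨D₀, hD₀⟩ := h
  have hbound : ∀ D : Subgroup G, Nat.card ↥D ≤ Nat.card G := fun D => Subgroup.card_le_card_group D
  have hQ : ∃ D, P D ∧ Nat.card ↥D = Nat.card ↥D₀ := ⟨D₀, hD₀, rfl⟩
  have h1 := Nat.findGreatest_spec (P := fun k => ∃ D, P D ∧ Nat.card ↥D = k) (hbound D₀) hQ
  obtain ⟨D, hD, hcard⟩ := h1
  refine ⟨D, hD, fun D' hD' => ?_⟩
  rw [hcard]
  exact Nat.le_findGreatest (hbound D') ⟨D', hD', rfl⟩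

theorem ll_exists_min_card (P : Subgroup G → Prop) (h : ∃ D, P D) :
    ∃ D, P D ∧ ∀ D', P D' → Nat.card ↥D ≤ Nat.card ↥D' := by
  classical
  obtain ⟨D₀, hD₀⟩ := h
  have hQ : ∃ k, ∃ D, P D ∧ Nat.card ↥D = k := ⟨_, D₀, hD₀, rfl⟩
  obtain ⟨D, hD, hcard⟩ := Nat.find_spec hQ
  refine ⟨D, hD, fun D' hD' => ?_⟩
  rw [hcard]
  exact Nat.find_min' hQ ⟨D', hD', rfl⟩

/-- relative `p`-minimality data: `T` is a maximal `p`-subgroup of `H`, not normal in `H`,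
and `M` is a proper subgroup of `H` containing every proper subgroup of `H` that contains `T` -/
def LLHyp (p : ℕ) (H M T : Subgroup G) : Prop :=
  T ≤ M ∧ M ≤ H ∧ M ≠ H ∧ IsPGroup p ↥T ∧
    (∀ D : Subgroup G, IsPGroup p ↥D → T ≤ D → D ≤ H → D = T) ∧
    (∀ X : Subgroup G, T ≤ X → X ≤ H → X ≠ H → X ≤ M) ∧
    ¬ H ≤ Subgroup.normalizer (T : Set G)

/-- the conclusion of the L-Lemma in relative form -/
def LLConc (p : ℕ) (H M A : Subgroup G) : Prop :=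
  ∃ L : Subgroup G, L ≤ H ∧ ∃ g ∈ H, A ⊔ Cfsg.pCoreOf p H ≤ L ∧
    A ⊔ Cfsg.pCoreOf p L ≤ cj(g, M) ∧ ¬ L ≤ cj(g, M) ∧
    (∀ X : Subgroup G, A ⊔ Cfsg.pCoreOf p L ≤ X → X ≤ L → X ≠ L → X ≤ cj(g, M)) ∧
    ∀ x ∈ L, x ∉ cj(g, M) → A ⊔ cj(x, A) ⊔ Cfsg.pCoreOf p L = L

theorem llhyp_pCoreOf_le {H M T : Subgroup G} (h : LLHyp p H M T) : Cfsg.pCoreOf p H ≤ T := by
  obtain ⟨hTM, hMH, hMne, hTp, hTmax, hTX, hTn⟩ := h
  have h1 : IsPGroup p ↥(Cfsg.pCoreOf p H ⊔ T) :=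
    isPGroup_sup_of_le_normalizer (pCoreOf_isPGroup H) hTp
      ((hTM.trans hMH).trans (le_normalizer_pCoreOf H))
  have h2 := hTmax _ h1 le_sup_right (sup_le (pCoreOf_le p H) (hTM.trans hMH))
  rw [← h2]; exact le_sup_left

theorem llhyp_fix {H M T : Subgroup G} (h : LLHyp p H M T) {x : G} (hx : x ∈ H)
    (hxT : cj(x, T) ≤ M) : x ∈ M := by
  obtain ⟨hTM, hMH, hMne, hTp, hTmax, hTX, hTn⟩ := h
  obtain ⟨m, hm, hle⟩ := ll_exists_cj_le hTp hTM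
    (fun D' hD' hTD' hD'M => hTmax D' hD' hTD' (hD'M.trans hMH)) (isPGroup_cj hTp x) hxT
  rw [cj_cj] at hle
  have h1 : m * x ∈ Subgroup.normalizer (T : Set G) := cj_eq_self_iff.mp (cj_eq_of_le hle)
  have h2 : H ⊓ Subgroup.normalizer (T : Set G) ≤ M := by
    apply hTX _ (le_inf (hTM.trans hMH) Subgroup.le_normalizer) inf_le_left
    intro h3
    apply hTn
    rw [← h3]; exact inf_le_right
  have h3 : m * x ∈ M := h2 ⟨H.mul_mem (hMH hm) hx, h1⟩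
  have h4 : x = m⁻¹ * (m * x) := by group
  rw [h4]; exact M.mul_mem (M.inv_mem hm) h3

/-- the case where `M` is the only proper subgroup-bound over `A O_p(H)` -/
theorem ll_case_unique {H M T A : Subgroup G} (h : LLHyp p H M T) (hAT : A ≤ T)
    (hU : ∀ X : Subgroup G, A ⊔ Cfsg.pCoreOf p H ≤ X → X ≤ H → X ≠ H → X ≤ M) :
    LLConc p H M A := by
  have hRT := llhyp_pCoreOf_le h
  have h' := h
  obtain ⟨hTM, hMH, hMne, hTp, hTmax, hTX, hTn⟩ := h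
  have hAM : A ≤ M := hAT.trans hTM
  have hAH : A ≤ H := hAM.trans hMH
  refine ⟨H, le_rfl, 1, H.one_mem, sup_le hAH (pCoreOf_le p H), ?_, ?_, ?_, ?_⟩
  · rw [cj_one]; exact sup_le hAM (hRT.trans hTM)
  · rw [cj_one]; intro hHM; exact hMne (le_antisymm hMH hHM)
  · intro X hX hXH hXne; rw [cj_one]; exact hU X hX hXH hXne
  · intro x hx hxM
    rw [cj_one] at hxM
    by_contra hne
    have hxinv : x⁻¹ ∈ H := H.inv_mem hx
    have hYH : A ⊔ cj(x, A) ⊔ Cfsg.pCoreOf p H ≤ H := by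
      refine sup_le (sup_le hAH ?_) (pCoreOf_le p H)
      calc cj(x, A) ≤ cj(x, H) := cj_mono hAH
        _ = H := cj_eq_self_of_mem hx
    have hYM := hU _ (sup_le (le_sup_left.trans le_sup_left) le_sup_right) hYH hne
    have hxA : cj(x, A) ≤ M := (le_sup_right.trans le_sup_left).trans hYM
    have hM'H : cj(x⁻¹, M) ≤ H := by
      calc cj(x⁻¹, M) ≤ cj(x⁻¹, H) := cj_mono hMH
        _ = H := cj_eq_self_of_mem hxinv
    have hM'ne : cj(x⁻¹, M) ≠ H := by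
      intro heq
      apply hMne
      apply Subgroup.eq_of_le_of_card_ge hMH
      rw [← heq, card_cj]
    have hAM' : A ≤ cj(x⁻¹, M) := by rw [le_cj_iff, inv_inv]; exact hxA
    have hRM' : Cfsg.pCoreOf p H ≤ cj(x⁻¹, M) := by
      have e : cj(x⁻¹, Cfsg.pCoreOf p H) = Cfsg.pCoreOf p H :=
        cj_eq_self_iff.mpr (le_normalizer_pCoreOf H hxinv)
      rw [← e]; exact cj_mono (hRT.trans hTM)
    have hM'M := hU _ (sup_le hAM' hRM') hM'H hM'ne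
    have hxT : cj(x⁻¹, T) ≤ M := (cj_mono hTM).trans hM'M
    have h6 := llhyp_fix h' hxinv hxT
    exact hxM (by simpa using M.inv_mem h6)

/-- the other case: a proper relative `p`-minimal subgroup `L₂` containing a conjugate of `A`
outside `O_p(L₂)` -/
theorem ll_case_other {H M T A : Subgroup G} (h : LLHyp p H M T) (hAT : A ≤ T)
    (hA : ¬ A ≤ Cfsg.pCoreOf p H) {X₀ : Subgroup G} (hX₀ : A ⊔ Cfsg.pCoreOf p H ≤ X₀)
    (hX₀H : X₀ ≤ H) (hX₀ne : X₀ ≠ H) (hX₀M : ¬ X₀ ≤ M) :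
    ∃ L₂ T₁ : Subgroup G, ∃ w ∈ H, L₂ ≤ H ∧ L₂ ≠ H ∧ LLHyp p L₂ (L₂ ⊓ M) T₁ ∧
      cj(w, A) ≤ T₁ ∧ ¬ cj(w, A) ≤ Cfsg.pCoreOf p L₂ ∧
      Cfsg.pCoreOf p H ≤ Cfsg.pCoreOf p L₂ := by
  have hRT := llhyp_pCoreOf_le h
  have h' := h
  obtain ⟨hTM, hMH, hMne, hTp, hTmax, hTX, hTn⟩ := h
  obtain ⟨R, hR⟩ : ∃ R, R = Cfsg.pCoreOf p H := ⟨_, rfl⟩
  rw [← hR] at hA hX₀ hRT ⊢
  have hRp : IsPGroup p ↥R := by rw [hR]; exact pCoreOf_isPGroup H
  have hHR : H ≤ Subgroup.normalizer (R : Set G) := by rw [hR]; exact le_normalizer_pCoreOf H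
  have hRH : R ≤ H := by rw [hR]; exact pCoreOf_le p H
  obtain ⟨T₁, ⟨hT₁p, hT₁M, hART₁, Y₀, hT₁Y₀, hY₀H, hY₀ne, hY₀M⟩, hmax⟩ :=
    ll_exists_max_card (fun D : Subgroup G => IsPGroup p ↥D ∧ D ≤ M ∧ A ⊔ R ≤ D ∧
      ∃ X : Subgroup G, D ≤ X ∧ X ≤ H ∧ X ≠ H ∧ ¬ X ≤ M)
      ⟨A ⊔ R, hTp.to_le (sup_le hAT hRT), sup_le (hAT.trans hTM) (hRT.trans hTM), le_rfl,
        X₀, hX₀, hX₀H, hX₀ne, hX₀M⟩
  have hAT₁ : A ≤ T₁ := le_sup_left.trans hART₁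
  have hRT₁ : R ≤ T₁ := le_sup_right.trans hART₁
  have hT₁H : T₁ ≤ H := hT₁M.trans hMH
  obtain ⟨T₂, hT₂p, hT₁T₂, hT₂ne, hT₂M, hT₂N⟩ : ∃ T₂ : Subgroup G, IsPGroup p ↥T₂ ∧ T₁ ≤ T₂ ∧
      T₂ ≠ T₁ ∧ T₂ ≤ M ∧ T₂ ≤ Subgroup.normalizer (T₁ : Set G) := by
    obtain ⟨m, hm, hle⟩ := ll_exists_cj_le hTp hTM
      (fun D' hD' hTD' hD'M => hTmax D' hD' hTD' (hD'M.trans hMH)) hT₁p hT₁M
    have hne : T ≠ cj(m, T₁) := by
      intro heq
      have h1 : T ≤ cj(m, Y₀) := by rw [heq]; exact cj_mono hT₁Y₀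
      have hmH : m ∈ H := hMH hm
      have h2 : cj(m, Y₀) ≤ H := by
        calc cj(m, Y₀) ≤ cj(m, H) := cj_mono hY₀H
          _ = H := cj_eq_self_of_mem hmH
      have h3 : cj(m, Y₀) ≠ H := by
        intro h4
        apply hY₀ne
        apply Subgroup.eq_of_le_of_card_ge hY₀H
        rw [← h4, card_cj]
      have h5 := hTX _ h1 h2 h3
      apply hY₀M
      rw [cj_le_iff] at h5
      refine h5.trans ?_
      rw [cj_eq_self_of_mem (M.inv_mem hm)]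
    have hgrow : ¬ T ⊓ Subgroup.normalizer ((cj(m, T₁) : Subgroup G) : Set G) ≤ cj(m, T₁) :=
      fun hcon => hne (ll_eq_of_normalizer_inf_le hTp hle hcon)
    refine ⟨cj(m⁻¹, T ⊓ Subgroup.normalizer ((cj(m, T₁) : Subgroup G) : Set G)),
      ?_, ?_, ?_, ?_, ?_⟩
    · exact isPGroup_cj (hTp.to_le inf_le_left) _
    · rw [le_cj_iff, inv_inv]; exact le_inf hle Subgroup.le_normalizer
    · intro heq
      apply hgrow
      rw [← cj_le_cj (g := m⁻¹), heq, cj_cj, inv_mul_cancel, cj_one]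
    · exact (cj_mono (inf_le_left.trans hTM)).trans
        (le_of_eq (cj_eq_self_of_mem (M.inv_mem hm)))
    · refine (cj_mono inf_le_right).trans (le_of_eq ?_)
      rw [← normalizer_cj, cj_cj, inv_mul_cancel, cj_one]
  have hT₂X : ∀ X : Subgroup G, T₂ ≤ X → X ≤ H → X ≠ H → X ≤ M := by
    intro X hX hXH hXne
    by_contra hXM
    have hc := hmax T₂ ⟨hT₂p, hT₂M, hART₁.trans hT₁T₂, X, hX, hXH, hXne, hXM⟩
    exact hT₂ne (Subgroup.eq_of_le_of_card_ge hT₁T₂ hc).symm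
  have hNT₁ : H ⊓ Subgroup.normalizer (T₁ : Set G) ≤ M := by
    apply hT₂X _ (le_inf (hT₂M.trans hMH) hT₂N) inf_le_left
    intro h3
    apply hA
    have h4 : H ≤ Subgroup.normalizer (T₁ : Set G) := by rw [← h3]; exact inf_le_right
    rw [hR]
    exact hAT₁.trans (le_pCoreOf hT₁H hT₁p h4)
  obtain ⟨L₂, ⟨hL₂H, hL₂ne, hT₁L₂, hL₂M⟩, hmin⟩ :=
    ll_exists_min_card (fun X : Subgroup G => X ≤ H ∧ X ≠ H ∧ T₁ ≤ X ∧ ¬ X ≤ M)
      ⟨Y₀, hY₀H, hY₀ne, hT₁Y₀, hY₀M⟩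
  have hT₁max : ∀ D : Subgroup G, IsPGroup p ↥D → T₁ ≤ D → D ≤ L₂ → D = T₁ := by
    intro D hD hT₁D hDL₂
    by_contra hne
    have hgrow : ¬ D ⊓ Subgroup.normalizer (T₁ : Set G) ≤ T₁ :=
      fun hcon => hne (ll_eq_of_normalizer_inf_le hD hT₁D hcon)
    apply hgrow
    have hD'M : D ⊓ Subgroup.normalizer (T₁ : Set G) ≤ M :=
      (inf_le_inf_right _ (hDL₂.trans hL₂H)).trans hNT₁
    have hT₁D' : T₁ ≤ D ⊓ Subgroup.normalizer (T₁ : Set G) :=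
      le_inf hT₁D Subgroup.le_normalizer
    have hc := hmax _ ⟨hD.to_le inf_le_left, hD'M, hART₁.trans hT₁D', L₂,
      inf_le_left.trans hDL₂, hL₂H, hL₂ne, hL₂M⟩
    exact le_of_eq (Subgroup.eq_of_le_of_card_ge hT₁D' hc).symm
  have hL₂X : ∀ X : Subgroup G, T₁ ≤ X → X ≤ L₂ → X ≠ L₂ → X ≤ L₂ ⊓ M := by
    intro X hT₁X hXL₂ hXne
    refine le_inf hXL₂ ?_
    by_contra hXM
    have hXH : X ≤ H := hXL₂.trans hL₂H
    have hXneH : X ≠ H := by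
      intro heq; apply hXne; exact le_antisymm hXL₂ (by rw [heq]; exact hL₂H)
    have hc := hmin X ⟨hXH, hXneH, hT₁X, hXM⟩
    exact hXne (Subgroup.eq_of_le_of_card_ge hXL₂ hc)
  have hL₂N : ¬ L₂ ≤ Subgroup.normalizer (T₁ : Set G) := fun hcon =>
    hL₂M ((le_inf hL₂H hcon).trans hNT₁)
  have hhyp₂ : LLHyp p L₂ (L₂ ⊓ M) T₁ :=
    ⟨le_inf hT₁L₂ hT₁M, inf_le_left, fun heq => hL₂M (by rw [← heq]; exact inf_le_right),
      hT₁p, hT₁max, hL₂X, hL₂N⟩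
  obtain ⟨P₂, hP₂⟩ : ∃ P₂, P₂ = Cfsg.pCoreOf p L₂ := ⟨_, rfl⟩
  have hP₂T₁ : P₂ ≤ T₁ := by rw [hP₂]; exact llhyp_pCoreOf_le hhyp₂
  have hRP₂ : R ≤ P₂ := by
    rw [hP₂]; exact le_pCoreOf (hRT₁.trans hT₁L₂) hRp (hL₂H.trans hHR)
  have hex : ∃ x ∈ H, cj(x, A) ≤ L₂ ∧ ¬ cj(x, A) ≤ P₂ := by
    by_contra hcon
    push_neg at hcon
    obtain ⟨W, hW⟩ : ∃ W : Subgroup G,
      W = ⨆ x : {x : G // x ∈ H ∧ cj(x, A) ≤ L₂}, cj((x : G), A) := ⟨_, rfl⟩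
    have hWP₂ : W ≤ P₂ := by
      rw [hW]; exact iSup_le fun x => hcon x.1 x.2.1 x.2.2
    have hAW : A ≤ W := by
      have h1 : (1 : G) ∈ H ∧ cj((1 : G), A) ≤ L₂ :=
        ⟨H.one_mem, by rw [cj_one]; exact hAT₁.trans hT₁L₂⟩
      have h2 : cj((1 : G), A) ≤ W := by
        rw [hW]
        exact le_iSup (fun x : {x : G // x ∈ H ∧ cj(x, A) ≤ L₂} => cj((x : G), A)) ⟨1, h1⟩
      rw [cj_one] at h2
      exact h2
    have hWp : IsPGroup p ↥W := (hT₁p.to_le hP₂T₁).to_le hWP₂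
    have hWH : W ≤ H := (hWP₂.trans hP₂T₁).trans hT₁H
    have hkey : ∀ t ∈ H, (∀ x ∈ H, cj(x, A) ≤ L₂ → cj(t * x, A) ≤ L₂) → cj(t, W) ≤ W := by
      intro t ht hcl
      rw [hW, Subgroup.map_iSup]
      apply iSup_le
      rintro ⟨x, hxH, hxL⟩
      rw [cj_cj]
      exact le_iSup (fun x : {x : G // x ∈ H ∧ cj(x, A) ≤ L₂} => cj((x : G), A))
        ⟨t * x, H.mul_mem ht hxH, hcl x hxH hxL⟩
    have hL₂W : L₂ ≤ Subgroup.normalizer (W : Set G) := by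
      intro l hl
      rw [← cj_eq_self_iff]
      apply cj_eq_of_le
      apply hkey l (hL₂H hl)
      intro x hxH hxL
      rw [← cj_cj]
      calc cj(l, cj(x, A)) ≤ cj(l, L₂) := cj_mono hxL
        _ = L₂ := cj_eq_self_of_mem hl
    have hT₂W : T₂ ≤ Subgroup.normalizer (W : Set G) := by
      intro t ht
      rw [← cj_eq_self_iff]
      apply cj_eq_of_le
      apply hkey t (hMH (hT₂M ht))
      intro x hxH hxL
      rw [← cj_cj]
      calc cj(t, cj(x, A)) ≤ cj(t, T₁) := cj_mono ((hcon x hxH hxL).trans hP₂T₁)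
        _ = T₁ := cj_eq_self_iff.mpr (hT₂N ht)
        _ ≤ L₂ := hT₁L₂
    have hY : L₂ ⊔ T₂ = H := by
      by_contra hne
      have h7 := hT₂X (L₂ ⊔ T₂) le_sup_right (sup_le hL₂H (hT₂M.trans hMH)) hne
      exact hL₂M (le_sup_left.trans h7)
    have hHW : H ≤ Subgroup.normalizer (W : Set G) := by
      rw [← hY]; exact sup_le hL₂W hT₂W
    apply hA
    rw [hR]
    exact hAW.trans (le_pCoreOf hWH hWp hHW)
  obtain ⟨x, hxH, hxL₂, hxP₂⟩ := hex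
  obtain ⟨y, hy, hle⟩ := ll_exists_cj_le hT₁p hT₁L₂ hT₁max (isPGroup_cj (hTp.to_le hAT) x) hxL₂
  rw [cj_cj] at hle
  refine ⟨L₂, T₁, y * x, H.mul_mem (hL₂H hy) hxH, hL₂H, hL₂ne, hhyp₂, hle, ?_, ?_⟩
  · intro hcon
    rw [← hP₂] at hcon
    apply hxP₂
    rw [← cj_cj, cj_le_iff] at hcon
    refine hcon.trans ?_
    have e : cj(y⁻¹, P₂) = P₂ := by
      rw [hP₂]; exact cj_eq_self_iff.mpr (le_normalizer_pCoreOf L₂ (L₂.inv_mem hy))
    rw [e]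
  · rw [← hP₂]; exact hRP₂

/-- transfer of the conclusion from `L₂` and a conjugate of `A` back to `H` and `A` -/
theorem ll_transfer {H M A L₂ : Subgroup G} {w : G} (hw : w ∈ H) (hL₂H : L₂ ≤ H)
    (hR : Cfsg.pCoreOf p H ≤ Cfsg.pCoreOf p L₂)
    (hc : LLConc p L₂ (L₂ ⊓ M) (cj(w, A))) : LLConc p H M A := by
  obtain ⟨L', hL'L₂, g', hg', h1, h2, h3, h4, h5⟩ := hc
  have hcjM : cj(g', L₂ ⊓ M) = L₂ ⊓ cj(g', M) := by
    rw [cj_inf, cj_eq_self_of_mem hg']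
  rw [hcjM] at h2 h3 h4 h5
  have hwinv : w⁻¹ ∈ H := H.inv_mem hw
  have hAA : cj(w⁻¹, cj(w, A)) = A := by rw [cj_cj, inv_mul_cancel, cj_one]
  have hRR : cj(w⁻¹, Cfsg.pCoreOf p H) = Cfsg.pCoreOf p H :=
    cj_eq_self_iff.mpr (le_normalizer_pCoreOf H hwinv)
  have hcore : Cfsg.pCoreOf p (cj(w⁻¹, L')) = cj(w⁻¹, Cfsg.pCoreOf p L') := pCoreOf_cj _ _
  have hMM : cj(w⁻¹ * g', M) = cj(w⁻¹, cj(g', M)) := (cj_cj _ _ _).symm
  refine ⟨cj(w⁻¹, L'), ?_, w⁻¹ * g', H.mul_mem hwinv (hL₂H hg'), ?_, ?_, ?_, ?_, ?_⟩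
  · calc cj(w⁻¹, L') ≤ cj(w⁻¹, H) := cj_mono (hL'L₂.trans hL₂H)
      _ = H := cj_eq_self_of_mem hwinv
  · have h1' : cj(w, A) ⊔ Cfsg.pCoreOf p H ≤ L' :=
      sup_le (le_sup_left.trans h1) (hR.trans (le_sup_right.trans h1))
    have h6 := cj_mono (g := w⁻¹) h1'
    rw [cj_sup, hAA, hRR] at h6
    exact h6
  · have h6 := cj_mono (g := w⁻¹) (h2.trans inf_le_right)
    rw [cj_sup, hAA] at h6
    rw [hcore, hMM]
    exact h6
  · intro hcon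
    rw [hMM, cj_le_cj] at hcon
    exact h3 (le_inf hL'L₂ hcon)
  · intro X hX hXL hXne
    rw [hcore] at hX
    have hX' : cj(w, A) ⊔ Cfsg.pCoreOf p L' ≤ cj(w, X) := by
      have h6 := cj_mono (g := w) hX
      rw [cj_sup, cj_cj, mul_inv_cancel, cj_one] at h6
      exact h6
    have hX'L : cj(w, X) ≤ L' := by
      have h6 := cj_mono (g := w) hXL
      rw [cj_cj, mul_inv_cancel, cj_one] at h6
      exact h6
    have hX'ne : cj(w, X) ≠ L' := by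
      intro heq
      apply hXne
      rw [← heq, cj_cj, inv_mul_cancel, cj_one]
    have h7 := h4 _ hX' hX'L hX'ne
    rw [hMM]
    exact cj_le_iff.mp (h7.trans inf_le_right)
  · intro x' hx' hx'M
    rw [hcore]
    have hz : w * x' * w⁻¹ ∈ L' := by
      have h6 := mem_cj.mp hx'
      simpa using h6
    have hzM : w * x' * w⁻¹ ∉ L₂ ⊓ cj(g', M) := by
      intro hcon
      apply hx'M
      rw [hMM, mem_cj]
      simpa using hcon.2
    have h6 := h5 _ hz hzM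
    have e2 : cj(w⁻¹, cj(w * x' * w⁻¹, cj(w, A))) = cj(x', A) := by
      rw [cj_cj, cj_cj]
      have e3 : w⁻¹ * (w * x' * w⁻¹) * w = x' := by group
      rw [e3]
    have h7 : cj(w⁻¹, cj(w, A) ⊔ cj(w * x' * w⁻¹, cj(w, A)) ⊔ Cfsg.pCoreOf p L') =
        cj(w⁻¹, L') := by rw [h6]
    rw [cj_sup, cj_sup, hAA, e2] at h7
    exact h7

/-- the L-Lemma in relative form -/
theorem ll_main : ∀ n : ℕ, ∀ H M T A : Subgroup G, Nat.card ↥H ≤ n → LLHyp p H M T → A ≤ T →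
    ¬ A ≤ Cfsg.pCoreOf p H → LLConc p H M A := by
  intro n
  induction n with
  | zero =>
    intro H M T A hcard
    have hpos := Nat.card_pos (α := ↥H)
    omega
  | succ n ih =>
    intro H M T A hcard h hAT hA
    by_cases hU : ∀ X : Subgroup G, A ⊔ Cfsg.pCoreOf p H ≤ X → X ≤ H → X ≠ H → X ≤ M
    · exact ll_case_unique h hAT hU
    · push_neg at hU
      obtain ⟨X₀, hX₀, hX₀H, hX₀ne, hX₀M⟩ := hU
      obtain ⟨L₂, T₁, w, hw, hL₂H, hL₂ne, hhyp₂, hwA, hwP, hR⟩ :=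
        ll_case_other h hAT hA hX₀ hX₀H hX₀ne hX₀M
      have hlt : Nat.card ↥L₂ < Nat.card ↥H := by
        by_contra hge
        push_neg at hge
        exact hL₂ne (Subgroup.eq_of_le_of_card_ge hL₂H hge)
      have hc := ih L₂ (L₂ ⊓ M) T₁ (cj(w, A)) (by omega) hhyp₂ hwA hwP
      exact ll_transfer hw hL₂H hR hc

theorem ll_pCoreOf_top : Cfsg.pCoreOf p (⊤ : Subgroup G) = Cfsg.pCore p G := by
  apply le_antisymm
  · have hn : (Cfsg.pCoreOf p (⊤ : Subgroup G)).Normal := by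
      rw [← Subgroup.normalizer_eq_top_iff, eq_top_iff]
      exact le_normalizer_pCoreOf ⊤
    exact le_pCore hn (pCoreOf_isPGroup ⊤)
  · apply le_pCoreOf le_top (pCore_isPGroup p G)
    rw [Subgroup.normalizer_eq_top_iff.mpr inferInstance]

/-- the L-Lemma -/
theorem ll_final (T : Sylow p G) (hmin : Cfsg.IsMinimalOver (T : Subgroup G)) (M : Subgroup G)
    (hM : IsCoatom M ∧ (T : Subgroup G) ≤ M) (A : Subgroup G) (hAT : A ≤ (T : Subgroup G))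
    (hA : ¬ A ≤ Cfsg.pCore p G) :
    ∃ L : Subgroup G, A ⊔ Cfsg.pCore p G ≤ L ∧ ∃ L₀ : Subgroup G,
      A ⊔ (Cfsg.pCoreOf p L) ≤ L₀ ∧ L₀ < L ∧
      (∀ X : Subgroup G, A ⊔ (Cfsg.pCoreOf p L) ≤ X → X < L → X ≤ L₀) ∧
      (∃ g : G, L₀ = L ⊓ cj(g, M)) ∧
      ∀ x ∈ L, x ∉ L₀ → (A ⊔ cj(x, A)) ⊔ (Cfsg.pCoreOf p L) = L := by
  have hhyp : LLHyp p (⊤ : Subgroup G) M (T : Subgroup G) := by
    refine ⟨hM.2, le_top, hM.1.1, T.isPGroup', ?_, ?_, ?_⟩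
    · intro D hD hTD _
      exact T.is_maximal' hD hTD
    · intro X hTX _ hXne
      obtain ⟨M', hM', hXM'⟩ := exists_coatom_ge hXne
      have hMM : M' = M := hmin.2.unique ⟨hM', hTX.trans hXM'⟩ hM
      rw [← hMM]; exact hXM'
    · intro hn
      have hTn : (T : Subgroup G).Normal :=
        Subgroup.normalizer_eq_top_iff.mp (top_le_iff.mp hn)
      have h1 : Subgroup.normalClosure ((T : Subgroup G) : Set G) = (T : Subgroup G) :=
        Subgroup.normalClosure_eq_self _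
      have h2 : (T : Subgroup G) = ⊤ := by rw [← h1]; exact hmin.1
      exact hM.1.1 (top_le_iff.mp (by rw [← h2]; exact hM.2))
  have hA' : ¬ A ≤ Cfsg.pCoreOf p (⊤ : Subgroup G) := by rw [ll_pCoreOf_top]; exact hA
  obtain ⟨L, -, g, -, h1, h2, h3, h4, h5⟩ :=
    ll_main (Nat.card ↥(⊤ : Subgroup G)) ⊤ M T A le_rfl hhyp hAT hA'
  rw [ll_pCoreOf_top] at h1
  refine ⟨L, h1, L ⊓ cj(g, M), le_inf (sup_le (le_sup_left.trans h1) (pCoreOf_le p L)) h2,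
    ?_, ?_, ⟨g, rfl⟩, ?_⟩
  · exact lt_of_le_of_ne inf_le_left (fun heq => h3 (by rw [← heq]; exact inf_le_right))
  · intro X hX hXL
    exact le_inf hXL.le (h4 X hX hXL.le hXL.ne)
  · intro x hx hxL₀
    exact h5 x hx (fun hxM => hxL₀ ⟨hx, hxM⟩)

end llemma

end Cfsg.Agent.Helper47
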