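import Cfsg.Agent.Helper47.EA

set_option autoImplicit false

namespace Cfsg.Agent.Helper47

open scoped commutatorElement Pointwise

local notation "cj(" g "," Q ")" => Subgroup.map (MulEquiv.toMonoidHom (MulAut.conj g)) Q

section large

variable {G : Type*} [Group G] {p : ℕ}

theorem cj_bot (g : G) : cj(g, (⊥ : Subgroup G)) = ⊥ := Subgroup.map_bot _

theorem cj_ne_bot {g : G} {Q : Subgroup G} (h : Q ≠ ⊥) : cj(g, Q) ≠ ⊥ := by
  intro h'
  apply h
  rw [← cj_bot g] at h'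
  exact Subgroup.map_injective (MulAut.conj g).injective h'

/-- two Sylow subgroups inside a subgroup `K` are conjugate under `K` -/
theorem exists_cj_eq_of_sylow_le [Finite G] [Fact p.Prime] (S₁ S₂ : Sylow p G) {K : Subgroup G}
    (h₁ : (S₁ : Subgroup G) ≤ K) (h₂ : (S₂ : Subgroup G) ≤ K) :
    ∃ c ∈ K, cj(c, (S₁ : Subgroup G)) = S₂ := by
  obtain ⟨k, hk, hkR⟩ := exists_cj_le_sylow_subgroup S₁.isPGroup' h₁ (S₂.subtype h₂)
  refine ⟨k, hk, ?_⟩
  have h3 : cj(k, (S₁ : Subgroup G)) ≤ S₂ := by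
    refine hkR.trans ?_
    rintro _ ⟨x, hx, rfl⟩
    exact Subgroup.mem_subgroupOf.mp hx
  apply Subgroup.eq_of_le_of_card_ge h3
  rw [card_cj]
  exact (Sylow.card_eq_multiplicity S₂).le.trans (Sylow.card_eq_multiplicity S₁).ge

theorem normalizer_le_normalizer_inf_centralizer (S : Subgroup G) :
    Subgroup.normalizer (S : Set G) ≤
      Subgroup.normalizer ((S ⊓ Subgroup.centralizer (S : Set G) : Subgroup G) : Set G) := by
  intro n hn
  rw [← cj_eq_self_iff, cj_inf, cj_eq_self_iff.mpr hn,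
    cj_eq_self_iff.mpr (normalizer_le_normalizer_centralizer S hn)]

theorem center_ne_bot_of_isPGroup [Finite G] [Fact p.Prime] {S : Subgroup G} (hS : IsPGroup p ↥S)
    (h1 : S ≠ ⊥) : S ⊓ Subgroup.centralizer (S : Set G) ≠ ⊥ := by
  haveI : Nontrivial ↥S := (Subgroup.nontrivial_iff_ne_bot S).mpr h1
  haveI := hS.center_nontrivial
  obtain ⟨z, hz, hz1⟩ := Subgroup.exists_ne_one_of_nontrivial (Subgroup.center ↥S)
  intro hbot
  have hmem : (z : G) ∈ S ⊓ Subgroup.centralizer (S : Set G) := by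
    refine Subgroup.mem_inf.mpr ⟨z.2, ?_⟩
    rw [Subgroup.mem_centralizer_iff]
    intro y hy
    have := Subgroup.mem_center_iff.mp hz ⟨y, hy⟩
    exact congrArg Subtype.val this
  rw [hbot, Subgroup.mem_bot] at hmem
  exact hz1 (Subtype.ext hmem)

/-- a nontrivial large `p`-subgroup is weakly closed (in every Sylow subgroup containing it) -/
theorem isWeaklyClosed_of_isLarge [Finite G] [Fact p.Prime] {Q : Subgroup G}
    (hQ1 : Q ≠ ⊥) (hL : Cfsg.IsLarge Q) (S : Sylow p G) (hQS : Q ≤ (S : Subgroup G)) :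
    Cfsg.IsWeaklyClosed Q (S : Subgroup G) := by
  refine ⟨hQS, fun g hg => ?_⟩
  set Z := (S : Subgroup G) ⊓ Subgroup.centralizer ((S : Subgroup G) : Set G) with hZ
  have hS1 : (S : Subgroup G) ≠ ⊥ := fun h => hQ1 (le_bot_iff.mp (h ▸ hQS))
  have hZ1 : Z ≠ ⊥ := center_ne_bot_of_isPGroup S.isPGroup' hS1
  have hZQ : Z ≤ Subgroup.centralizer (Q : Set G) :=
    inf_le_right.trans (Subgroup.centralizer_le hQS)
  have hZQg : Z ≤ Subgroup.centralizer ((cj(g, Q) : Subgroup G) : Set G) :=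
    inf_le_right.trans (Subgroup.centralizer_le hg)
  have hNZ : Subgroup.normalizer (Z : Set G) ≤ Subgroup.normalizer (Q : Set G) := hL.2 Z hZQ hZ1
  have hSZ : Subgroup.normalizer ((S : Subgroup G) : Set G) ≤ Subgroup.normalizer (Z : Set G) :=
    normalizer_le_normalizer_inf_centralizer _
  have hSQ : (S : Subgroup G) ≤ Subgroup.normalizer (Q : Set G) :=
    Subgroup.le_normalizer.trans (hSZ.trans hNZ)
  have hNZg : Subgroup.normalizer (Z : Set G) ≤
      Subgroup.normalizer ((cj(g, Q) : Subgroup G) : Set G) := by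
    rw [centralizer_cj, le_cj_iff] at hZQg
    have := hL.2 _ hZQg (cj_ne_bot hZ1)
    rw [normalizer_cj, cj_le_iff, inv_inv, ← normalizer_cj] at this
    exact this
  have hSQg : (S : Subgroup G) ≤ Subgroup.normalizer ((cj(g, Q) : Subgroup G) : Set G) :=
    Subgroup.le_normalizer.trans (hSZ.trans hNZg)
  have hSgQg : cj(g, (S : Subgroup G)) ≤ Subgroup.normalizer ((cj(g, Q) : Subgroup G) : Set G) := by
    rw [normalizer_cj]
    exact cj_mono hSQ
  have hSg : ((g • S : Sylow p G) : Subgroup G) ≤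
      Subgroup.normalizer ((cj(g, Q) : Subgroup G) : Set G) := by
    rw [sylow_smul_coe]; exact hSgQg
  obtain ⟨c, hc, hcS⟩ := exists_cj_eq_of_sylow_le (g • S) S hSg hSQg
  rw [sylow_smul_coe, cj_cj] at hcS
  have hn : c * g ∈ Subgroup.normalizer (Q : Set G) :=
    hNZ (hSZ (cj_eq_self_iff.mp hcS))
  have h1 : cj(c * g, Q) = Q := cj_eq_self_iff.mpr hn
  rw [← cj_cj, cj_eq_self_iff.mpr hc] at h1
  exact h1

theorem isWeaklyClosedSubgroup_of_isLarge [Finite G] [Fact p.Prime] {Q : Subgroup G}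
    (hQp : IsPGroup p ↥Q) (hQ1 : Q ≠ ⊥) (hL : Cfsg.IsLarge Q) :
    Cfsg.IsWeaklyClosedSubgroup p Q := by
  obtain ⟨S, hS⟩ := hQp.exists_le_sylow
  exact ⟨S, isWeaklyClosed_of_isLarge hQ1 hL S hS⟩

/-- for a large `p`-subgroup `Q` and `g ∉ N(Q)`: `C(Q) ∩ C(Q^g) = 1` -/
theorem centralizer_inf_centralizer_cj_of_isLarge [Finite G] [Fact p.Prime] {Q : Subgroup G}
    (hQp : IsPGroup p ↥Q) (hQ1 : Q ≠ ⊥) (hL : Cfsg.IsLarge Q) {g : G}
    (hg : g ∉ Subgroup.normalizer (Q : Set G)) :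
    Subgroup.centralizer (Q : Set G) ⊓ Subgroup.centralizer ((cj(g, Q) : Subgroup G) : Set G) = ⊥ := by
  by_contra hU
  set U := Subgroup.centralizer (Q : Set G) ⊓
    Subgroup.centralizer ((cj(g, Q) : Subgroup G) : Set G) with hUdef
  have hwc := isWeaklyClosedSubgroup_of_isLarge hQp hQ1 hL
  have hNU : Subgroup.normalizer (U : Set G) ≤ Subgroup.normalizer (Q : Set G) :=
    hL.2 U inf_le_left hU
  have hQgU : cj(g, Q) ≤ Subgroup.normalizer (U : Set G) := by
    refine le_trans ?_ (Subgroup.centralizer_le_normalizer _)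
    rw [Subgroup.le_centralizer_iff]
    exact inf_le_right
  have hQgN : cj(g, Q) ≤ Subgroup.normalizer (Q : Set G) := hQgU.trans hNU
  -- the product Q * Q^g is a p-group
  have hR : IsPGroup p ↥(Q ⊔ cj(g, Q)) := by
    haveI : (Q.subgroupOf (Subgroup.normalizer (Q : Set G))).Normal := Subgroup.normal_in_normalizer
    have hle : Q ⊔ cj(g, Q) ≤ Subgroup.normalizer (Q : Set G) := sup_le Subgroup.le_normalizer hQgN
    apply isPGroup_of_pow
    intro c hc
    obtain ⟨k, hk⟩ : ∃ k : ℕ, c ^ (p ^ k) ∈ Q := by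
      have hc' : (⟨c, hle hc⟩ : ↥(Subgroup.normalizer (Q : Set G))) ∈
          Q.subgroupOf (Subgroup.normalizer (Q : Set G)) ⊔
            (cj(g, Q)).subgroupOf (Subgroup.normalizer (Q : Set G)) := by
        rw [← Subgroup.subgroupOf_sup Subgroup.le_normalizer hQgN]
        exact Subgroup.mem_subgroupOf.mpr hc
      obtain ⟨k, hk⟩ := pow_mem_of_mem_sup_normal ((isPGroup_cj hQp g).comap_subtype) hc'
      exact ⟨k, Subgroup.mem_subgroupOf.mp hk⟩
    obtain ⟨j, hj⟩ := isPGroup_pow hQp hk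
    exact ⟨k + j, by rw [pow_add, pow_mul, hj]⟩
  have := wc_of_le_pgroup hwc hR le_sup_left (le_sup_right : cj(g, Q) ≤ Q ⊔ cj(g, Q))
  exact hg (cj_eq_self_iff.mp this)

end large

end Cfsg.Agent.Helper47
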