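import Cfsg.Agent.Helper47.CharP

set_option autoImplicit false

namespace Cfsg.Agent.Helper47

open scoped commutatorElement Pointwise

local notation "cj(" g "," Q ")" => Subgroup.map (MulEquiv.toMonoidHom (MulAut.conj g)) Q

section largep

variable {G : Type*} [Group G] {p : ℕ}

/-- a `p`-group `Q` normalizing a nontrivial `p`-group `P` centralizes a nontrivial element of `P` -/
theorem exists_ne_one_mem_centralizer_of_isPGroup [Finite G] [Fact p.Prime] {P Q : Subgroup G}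
    (hP : IsPGroup p ↥P) (hQ : IsPGroup p ↥Q) (hP1 : P ≠ ⊥)
    (hQP : Q ≤ Subgroup.normalizer (P : Set G)) :
    ∃ y ∈ P, y ≠ 1 ∧ y ∈ Subgroup.centralizer (Q : Set G) := by
  letI act : MulAction ↥Q ↥P :=
    { smul := fun q x => ⟨q * x * q⁻¹, (Subgroup.mem_normalizer_iff.mp (hQP q.2) x).mp x.2⟩
      one_smul := fun x => Subtype.ext (by
        show ((1 : ↥Q) : G) * x * ((1 : ↥Q) : G)⁻¹ = x
        simp)
      mul_smul := fun q r x => Subtype.ext (by
        show ((q * r : ↥Q) : G) * x * ((q * r : ↥Q) : G)⁻¹ = q * (r * x * (r : G)⁻¹) * (q : G)⁻¹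
        simp [mul_assoc]) }
  haveI : Nontrivial ↥P := (Subgroup.nontrivial_iff_ne_bot P).mpr hP1
  have hdvd : p ∣ Nat.card ↥P := by
    obtain ⟨n, hn0, hn⟩ := hP.nontrivial_iff_card.mp inferInstance
    rw [hn]
    exact dvd_pow_self _ (ne_of_gt hn0)
  have h1 : (1 : ↥P) ∈ MulAction.fixedPoints ↥Q ↥P := fun q => Subtype.ext (by
    show (q : G) * ((1 : ↥P) : G) * (q : G)⁻¹ = ((1 : ↥P) : G)
    simp)
  obtain ⟨b, hb, hb1⟩ := hQ.exists_fixed_point_of_prime_dvd_card_of_fixed_point (α := ↥P) hdvd h1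
  refine ⟨b, b.2, fun h => hb1 (Subtype.ext h.symm), ?_⟩
  rw [Subgroup.mem_centralizer_iff]
  intro q hq
  have h2 : q * (b : G) * q⁻¹ = b := congrArg Subtype.val (hb ⟨q, hq⟩)
  calc q * (b : G) = (q * (b : G) * q⁻¹) * q := by group
    _ = b * q := by rw [h2]

theorem isLarge_cj {Q : Subgroup G} (hL : Cfsg.IsLarge Q) (g : G) : Cfsg.IsLarge (cj(g, Q)) := by
  refine ⟨?_, fun U hU hU1 => ?_⟩
  · rw [centralizer_cj]
    exact cj_mono hL.1
  · rw [centralizer_cj, le_cj_iff] at hU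
    have := hL.2 _ hU (cj_ne_bot hU1)
    rw [normalizer_cj, cj_le_iff, inv_inv, ← normalizer_cj] at this
    exact this

theorem centralizer_singleton_le_normalizer_zpowers (y : G) :
    Subgroup.centralizer ({y} : Set G) ≤
      Subgroup.normalizer ((Subgroup.zpowers y : Subgroup G) : Set G) := by
  refine le_trans ?_ (Subgroup.centralizer_le_normalizer _)
  intro x hx
  rw [Subgroup.mem_centralizer_iff] at hx ⊢
  intro h hh
  obtain ⟨k, rfl⟩ := Subgroup.mem_zpowers_iff.mp hh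
  have hc : Commute y x := hx y (Set.mem_singleton y)
  exact (hc.zpow_left k)

theorem pCore_ne_bot_iff (p : ℕ) (L : Subgroup G) :
    Cfsg.pCore p ↥L ≠ ⊥ ↔ Cfsg.pCoreOf p L ≠ ⊥ := by
  unfold Cfsg.pCoreOf
  rw [Ne, Ne, Subgroup.map_eq_bot_iff_of_injective _ L.subtype_injective]

/-- for a large `p`-subgroup `Q ≤ L` with `O_p(L) ≠ 1`: `C(O_p(L))` is a `p`-group normalizing
`Q`, and `Q ∩ C(O_p(L)) ≤ O_p(L)`. -/
theorem isLarge_charP [Finite G] [Fact p.Prime] {Q : Subgroup G} (hQp : IsPGroup p ↥Q)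
    (hQ1 : Q ≠ ⊥) (hL : Cfsg.IsLarge Q) {L : Subgroup G} (hQL : Q ≤ L)
    (hP1 : Cfsg.pCoreOf p L ≠ ⊥) :
    Subgroup.centralizer (Cfsg.pCoreOf p L : Set G) ≤ Subgroup.normalizer (Q : Set G) ∧
    Q ⊓ Subgroup.centralizer (Cfsg.pCoreOf p L : Set G) ≤ Cfsg.pCoreOf p L ∧
    IsPGroup p ↥(Subgroup.centralizer (Cfsg.pCoreOf p L : Set G)) := by
  have hwc := isWeaklyClosedSubgroup_of_isLarge hQp hQ1 hL
  obtain ⟨y, hyP, hy1, hyQ⟩ := exists_ne_one_mem_centralizer_of_isPGroup (pCoreOf_isPGroup L) hQp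
    hP1 (hQL.trans (le_normalizer_pCoreOf L))
  have hXQ : Subgroup.centralizer ({y} : Set G) ≤ Subgroup.normalizer (Q : Set G) := by
    refine (centralizer_singleton_le_normalizer_zpowers y).trans (hL.2 _ ?_ ?_)
    · rw [Subgroup.zpowers_le]; exact hyQ
    · intro h
      apply hy1
      have : y ∈ Subgroup.zpowers y := Subgroup.mem_zpowers y
      rw [h, Subgroup.mem_bot] at this
      exact this
  have hQX : Q ≤ Subgroup.centralizer ({y} : Set G) := by
    intro q hq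
    rw [Subgroup.mem_centralizer_iff]
    intro h hh
    rw [Set.mem_singleton_iff] at hh
    subst hh
    exact (Subgroup.mem_centralizer_iff.mp hyQ q hq).symm
  have hQO : Q ≤ Cfsg.pCoreOf p (Subgroup.centralizer ({y} : Set G)) := le_pCoreOf hQX hQp hXQ
  have hX : Subgroup.centralizer ({y} : Set G) ⊓
      Subgroup.centralizer (Cfsg.pCoreOf p (Subgroup.centralizer ({y} : Set G)) : Set G) ≤
      Cfsg.pCoreOf p (Subgroup.centralizer ({y} : Set G)) :=
    inf_le_right.trans ((Subgroup.centralizer_le hQO).trans (hL.1.trans hQO))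
  exact wc_charP_main hQp hwc hL.1 hQL (Or.inr ⟨y, Subgroup.mem_inf.mpr ⟨hyP, hyQ⟩, hX⟩)

/-- weak closure: either `L° = Q` or `C(L°) = 1` for a large subgroup `Q ≤ L` -/
theorem weakClosure_eq_or_centralizer_eq_bot [Finite G] [Fact p.Prime] {Q : Subgroup G}
    (hQp : IsPGroup p ↥Q) (hQ1 : Q ≠ ⊥) (hL : Cfsg.IsLarge Q) {L : Subgroup G} (hQL : Q ≤ L) :
    Cfsg.weakClosure Q L = Q ∨
      Subgroup.centralizer ((Cfsg.weakClosure Q L : Subgroup G) : Set G) = ⊥ := by
  have h1L : cj((1 : G), Q) ≤ L := by rw [cj_one]; exact hQL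
  have hQW : Q ≤ Cfsg.weakClosure Q L := by
    have := le_iSup (fun g : {g : G // cj(g, Q) ≤ L} => cj((g : G), Q)) ⟨1, h1L⟩
    rw [cj_one] at this
    exact this
  by_cases h : ∀ g : G, cj(g, Q) ≤ L → cj(g, Q) = Q
  · left
    apply le_antisymm _ hQW
    unfold Cfsg.weakClosure
    apply iSup_le
    rintro ⟨g, hg⟩
    exact (h g hg).le
  · right
    push Not at h
    obtain ⟨g, hgL, hgQ⟩ := h
    have hgN : g ∉ Subgroup.normalizer (Q : Set G) := fun hn => hgQ (cj_eq_self_iff.mpr hn)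
    have hgW : cj(g, Q) ≤ Cfsg.weakClosure Q L :=
      le_iSup (fun g : {g : G // cj(g, Q) ≤ L} => cj((g : G), Q)) ⟨g, hgL⟩
    rw [← le_bot_iff, ← centralizer_inf_centralizer_cj_of_isLarge hQp hQ1 hL hgN]
    exact le_inf (Subgroup.centralizer_le hQW) (Subgroup.centralizer_le hgW)

/-- for a large `p`-subgroup: `C(O_p(R)) ≤ O_p(R)` for parabolic `R` with `O_p(R) ≠ 1` -/
theorem isLarge_parabolic_charP [Finite G] [Fact p.Prime] {Q : Subgroup G} (hQp : IsPGroup p ↥Q)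
    (hQ1 : Q ≠ ⊥) (hL : Cfsg.IsLarge Q) {R : Subgroup G} (hR : Cfsg.IsParabolic p R)
    (hP1 : Cfsg.pCoreOf p R ≠ ⊥) :
    Subgroup.centralizer (Cfsg.pCoreOf p R : Set G) ≤ Cfsg.pCoreOf p R := by
  obtain ⟨T, hTR⟩ := hR
  obtain ⟨g, hg⟩ := exists_cj_le_sylow hQp T
  obtain ⟨-, -, h3⟩ := isLarge_charP (isPGroup_cj hQp g) (cj_ne_bot hQ1) (isLarge_cj hL g)
    (hg.trans hTR) hP1
  set D := Subgroup.centralizer (Cfsg.pCoreOf p R : Set G) with hD
  have hRD : R ≤ Subgroup.normalizer (D : Set G) :=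
    (le_normalizer_pCoreOf R).trans (normalizer_le_normalizer_centralizer _)
  have hDT : D ≤ T := by
    have hp' : IsPGroup p ↥(D ⊔ (T : Subgroup G)) :=
      isPGroup_sup_of_le_normalizer h3 T.isPGroup' (hTR.trans hRD)
    have := T.3 hp' le_sup_right
    rw [← this]
    exact le_sup_left
  exact le_pCoreOf (hDT.trans hTR) h3 hRD

end largep

end Cfsg.Agent.Helper47
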