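import Mathlib

/-!
# Lifting lemmas for the lattice bound (piece P8 of the CALL for S4441)

Explicit integer matrices commuting with `X` that realise rank-one maps on
`L ∩ ker (X - 1)` and on `L ∩ ker (1 + X + ... + X^(p-1))` modulo `(X - 1) L`.
-/

set_option autoImplicit false

namespace Cfsg.Agent.Helper47

open Matrix

theorem lat_ext_mulVec {N : ℕ} (M M' : Matrix (Fin N) (Fin N) ℤ)
    (h : ∀ v, M *ᵥ v = M' *ᵥ v) : M = M' :=
  Matrix.ext_of_mulVec_single (fun _ => h _)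

/-- a functional with values divisible by `p` can be divided by `p` -/
theorem lat_exists_row {N : ℕ} (p : ℤ) (ℓ : Fin N → ℤ) (M : Matrix (Fin N) (Fin N) ℤ)
    (h : ∀ v : Fin N → ℤ, p ∣ ℓ ⬝ᵥ (M *ᵥ v)) :
    ∃ r : Fin N → ℤ, ∀ v : Fin N → ℤ, p * (r ⬝ᵥ v) = ℓ ⬝ᵥ (M *ᵥ v) := by
  classical
  choose c hc using fun k : Fin N => h (Pi.single k 1)
  refine ⟨c, fun v => ?_⟩
  have h1 : p • c = ℓ ᵥ* M := by
    funext k
    have h2 := hc k
    rw [Matrix.mulVec_single_one] at h2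
    simp only [Pi.smul_apply, smul_eq_mul]
    rw [← h2]
    rfl
  rw [← smul_eq_mul, ← smul_dotProduct, h1, ← dotProduct_mulVec]

theorem lat_geom_identity {R : Type*} [Ring R] (x : R) (n : ℕ) :
    (x - 1) * ∑ i ∈ Finset.range n, (i : ℤ) • x ^ (n - i)
      = x * (∑ i ∈ Finset.range n, x ^ i) - (n : ℤ) • x := by
  induction n with
  | zero => simp
  | succ n ih =>
    have h1 : ∑ i ∈ Finset.range (n + 1), (i : ℤ) • x ^ (n + 1 - i)
        = x * (∑ i ∈ Finset.range n, (i : ℤ) • x ^ (n - i)) + (n : ℤ) • x := by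
      rw [Finset.sum_range_succ, Finset.mul_sum]
      congr 1
      · apply Finset.sum_congr rfl
        intro i hi
        have hi' := Finset.mem_range.mp hi
        rw [mul_smul_comm, ← pow_succ']
        congr 2
        omega
      · simp
    have h2 : (x - 1) * (x * ∑ i ∈ Finset.range n, (i : ℤ) • x ^ (n - i))
        = x * ((x - 1) * ∑ i ∈ Finset.range n, (i : ℤ) • x ^ (n - i)) := by
      rw [← mul_assoc, ← mul_assoc]
      congr 1
      rw [sub_mul, mul_sub, one_mul, mul_one]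
    rw [h1, mul_add, h2, ih, geom_sum_succ]
    simp only [mul_add, mul_sub, sub_mul, mul_smul_comm, one_mul, mul_one,
      Nat.cast_succ, add_smul, one_smul, smul_sub]
    abel

theorem lat_ulift {N : ℕ} (p : ℕ) [Fact p.Prime] (L : Submodule ℤ (Fin N → ℤ))
    (X E : Matrix (Fin N) (Fin N) ℤ) (κ : ℤ)
    (hXL : ∀ v ∈ L, X *ᵥ v ∈ L) (hXp : X ^ p = 1)
    (hEL : ∀ v, E *ᵥ v ∈ L) (hE : ∀ v ∈ L, E *ᵥ v = κ • v) (hEX : E * X = X * E)
    (y : Fin N → ℤ) (hy : y ∈ L ⊓ LinearMap.ker (X - 1).mulVecLin) (ℓ : Fin N → ℤ)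
    (hℓ : ∀ s ∈ L.map (∑ i ∈ Finset.range p, X ^ i).mulVecLin, (p : ℤ) ∣ ℓ ⬝ᵥ s) :
    ∃ A : Matrix (Fin N) (Fin N) ℤ, A * X = X * A ∧ (∀ v, A *ᵥ v ∈ L ⊓ LinearMap.ker (X - 1).mulVecLin) ∧
      ∀ u ∈ L ⊓ LinearMap.ker (X - 1).mulVecLin, A *ᵥ u = (κ * (ℓ ⬝ᵥ u)) • y := by
  classical
  have hp0 : (p : ℤ) ≠ 0 := by exact_mod_cast (Fact.out : p.Prime).ne_zero
  obtain ⟨Nm, hNm⟩ : ∃ Nm, Nm = ∑ i ∈ Finset.range p, X ^ i := ⟨_, rfl⟩
  rw [← hNm] at hℓ
  have hNmX : Nm * X = Nm := by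
    have h1 : Nm * (X - 1) = 0 := by rw [hNm, geom_sum_mul, hXp, sub_self]
    rw [mul_sub, mul_one, sub_eq_zero] at h1
    exact h1
  have hfix : ∀ u ∈ L ⊓ LinearMap.ker (X - 1).mulVecLin, X *ᵥ u = u := by
    intro u hu0
    have hu := (Submodule.mem_inf.mp hu0).2
    rw [LinearMap.mem_ker, Matrix.mulVecLin_apply, Matrix.sub_mulVec, Matrix.one_mulVec,
      sub_eq_zero] at hu
    exact hu
  obtain ⟨r, hr⟩ := lat_exists_row (p : ℤ) ℓ (Nm * E) (fun v => by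
    rw [← Matrix.mulVec_mulVec]
    exact hℓ _ ⟨E *ᵥ v, hEL v, rfl⟩)
  have hA : ∀ v, vecMulVec y r *ᵥ v = (r ⬝ᵥ v) • y := by
    intro v
    rw [Matrix.vecMulVec_mulVec, op_smul_eq_smul]
  have hrX : ∀ v, r ⬝ᵥ (X *ᵥ v) = r ⬝ᵥ v := by
    intro v
    apply mul_left_cancel₀ hp0
    rw [hr, hr, Matrix.mulVec_mulVec, mul_assoc, hEX, ← mul_assoc, hNmX]
  refine ⟨vecMulVec y r, ?_, ?_, ?_⟩
  · apply lat_ext_mulVec
    intro v
    rw [← Matrix.mulVec_mulVec, ← Matrix.mulVec_mulVec, hA, hA, hrX, Matrix.mulVec_smul,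
      hfix y hy]
  · intro v
    rw [hA]
    exact Submodule.smul_mem _ _ hy
  · intro u hu
    rw [hA]
    congr 1
    apply mul_left_cancel₀ hp0
    have hXi : ∀ i : ℕ, X ^ i *ᵥ u = u := by
      intro i
      induction i with
      | zero => rw [pow_zero, Matrix.one_mulVec]
      | succ i ih => rw [pow_succ, ← Matrix.mulVec_mulVec, hfix u hu, ih]
    have hNu : Nm *ᵥ u = (p : ℤ) • u := by
      rw [hNm, Matrix.sum_mulVec, Finset.sum_congr rfl (fun i _ => hXi i), Finset.sum_const,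
        Finset.card_range, natCast_zsmul]
    rw [hr, ← Matrix.mulVec_mulVec, hE u hu.1, Matrix.mulVec_smul, hNu, dotProduct_smul,
      dotProduct_smul, smul_eq_mul, smul_eq_mul]
    ring

theorem lat_vlift {N : ℕ} (p : ℕ) [Fact p.Prime] (L : Submodule ℤ (Fin N → ℤ))
    (X E : Matrix (Fin N) (Fin N) ℤ) (κ : ℤ)
    (hXL : ∀ v ∈ L, X *ᵥ v ∈ L) (hXp : X ^ p = 1)
    (hEL : ∀ v, E *ᵥ v ∈ L) (hE : ∀ v ∈ L, E *ᵥ v = κ • v) (hEX : E * X = X * E)
    (w : Fin N → ℤ) (hw : w ∈ L ⊓ LinearMap.ker (∑ i ∈ Finset.range p, X ^ i).mulVecLin)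
    (ℓ : Fin N → ℤ) (hℓ : ∀ s ∈ L.map (X - 1).mulVecLin, (p : ℤ) ∣ ℓ ⬝ᵥ s) :
    ∃ A : Matrix (Fin N) (Fin N) ℤ, A * X = X * A ∧
      (∀ v, A *ᵥ v ∈ L ⊓ LinearMap.ker (∑ i ∈ Finset.range p, X ^ i).mulVecLin) ∧
      ∀ u ∈ L ⊓ LinearMap.ker (∑ i ∈ Finset.range p, X ^ i).mulVecLin,
        A *ᵥ u + (κ * (ℓ ⬝ᵥ u)) • w ∈ L.map (X - 1).mulVecLin := by
  classical
  have hp0 : (p : ℤ) ≠ 0 := by exact_mod_cast (Fact.out : p.Prime).ne_zero
  obtain ⟨Nm, hNm⟩ : ∃ Nm, Nm = ∑ i ∈ Finset.range p, X ^ i := ⟨_, rfl⟩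
  rw [← hNm] at hw ⊢
  obtain ⟨q, hq⟩ : ∃ q : ℕ → Matrix (Fin N) (Fin N) ℤ,
      ∀ i, q i = ∑ j ∈ Finset.range i, X ^ j := ⟨_, fun _ => rfl⟩
  have hq0 : q 0 = 0 := by rw [hq]; simp
  have hqp : q p = Nm := by rw [hq, hNm]
  have hqsucc : ∀ i, X * q i = q (i + 1) - 1 := by
    intro i
    rw [hq, hq, geom_sum_succ, add_sub_cancel_right]
  have hq1 : ∀ i, (X - 1) * q i = X ^ i - 1 := fun i => by rw [hq, mul_geom_sum]
  have hXNm : X * Nm = Nm := by
    have h1 : (X - 1) * Nm = 0 := by rw [hNm, mul_geom_sum, hXp, sub_self]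
    rw [sub_mul, one_mul, sub_eq_zero] at h1
    exact h1
  have hNmX : Nm * X = Nm := by
    have h1 : Nm * (X - 1) = 0 := by rw [hNm, geom_sum_mul, hXp, sub_self]
    rw [mul_sub, mul_one, sub_eq_zero] at h1
    exact h1
  have hwL : w ∈ L := (Submodule.mem_inf.mp hw).1
  have hwN : Nm *ᵥ w = 0 := by
    have h1 := (Submodule.mem_inf.mp hw).2
    rw [LinearMap.mem_ker, Matrix.mulVecLin_apply] at h1
    exact h1
  have hstab : ∀ K0 : Submodule ℤ (Fin N → ℤ), (∀ v ∈ K0, X *ᵥ v ∈ K0) →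
      ∀ i, ∀ v ∈ K0, X ^ i *ᵥ v ∈ K0 := by
    intro K0 hK0 i
    induction i with
    | zero =>
      intro v hv
      rw [pow_zero, Matrix.one_mulVec]
      exact hv
    | succ i ih =>
      intro v hv
      rw [pow_succ, ← Matrix.mulVec_mulVec]
      exact ih _ (hK0 v hv)
  have hstabq : ∀ K0 : Submodule ℤ (Fin N → ℤ), (∀ v ∈ K0, X *ᵥ v ∈ K0) →
      ∀ i, ∀ v ∈ K0, q i *ᵥ v ∈ K0 := by
    intro K0 hK0 i v hv
    rw [hq, Matrix.sum_mulVec]
    exact Submodule.sum_mem _ (fun j _ => hstab K0 hK0 j v hv)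
  have hK0 : ∀ v ∈ L ⊓ LinearMap.ker Nm.mulVecLin,
      X *ᵥ v ∈ L ⊓ LinearMap.ker Nm.mulVecLin := by
    intro v hv
    obtain ⟨hv1, hv2⟩ := Submodule.mem_inf.mp hv
    refine Submodule.mem_inf.mpr ⟨hXL v hv1, ?_⟩
    rw [LinearMap.mem_ker, Matrix.mulVecLin_apply] at hv2 ⊢
    rw [Matrix.mulVec_mulVec, hNmX, hv2]
  obtain ⟨r, hr⟩ := lat_exists_row (p : ℤ) ℓ ((X - 1) * E) (fun v => by
    rw [← Matrix.mulVec_mulVec]
    exact hℓ _ ⟨E *ᵥ v, hEL v, rfl⟩)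
  have hrNm : ∀ v, r ⬝ᵥ (Nm *ᵥ v) = 0 := by
    intro v
    apply mul_left_cancel₀ hp0
    rw [hr, Matrix.mulVec_mulVec, mul_zero]
    have h1 : (X - 1) * E * Nm = 0 := by
      have hc : (X - 1) * E = E * (X - 1) := by rw [sub_mul, mul_sub, hEX, one_mul, mul_one]
      rw [hc, mul_assoc, hNm, mul_geom_sum, hXp, sub_self, mul_zero]
    rw [h1, Matrix.zero_mulVec, dotProduct_zero]
  obtain ⟨B, hB⟩ : ∃ B : Matrix (Fin N) (Fin N) ℤ, ∀ v, B *ᵥ v = (r ⬝ᵥ v) • w :=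
    ⟨vecMulVec w r, fun v => by rw [Matrix.vecMulVec_mulVec, op_smul_eq_smul]⟩
  have hBNm : B * Nm = 0 := lat_ext_mulVec _ _ (fun v => by
    rw [← Matrix.mulVec_mulVec, hB, hrNm, zero_smul, Matrix.zero_mulVec])
  have hNmB : Nm * B = 0 := lat_ext_mulVec _ _ (fun v => by
    rw [← Matrix.mulVec_mulVec, hB, Matrix.mulVec_smul, hwN, smul_zero, Matrix.zero_mulVec])
  refine ⟨∑ i ∈ Finset.range p, q i * B * X ^ (p - i), ?_, ?_, ?_⟩
  · obtain ⟨f, hf⟩ : ∃ f : ℕ → Matrix (Fin N) (Fin N) ℤ,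
        ∀ i, f i = q i * B * X ^ (p + 1 - i) := ⟨_, fun _ => rfl⟩
    have h1 : (∑ i ∈ Finset.range p, q i * B * X ^ (p - i)) * X
        = ∑ i ∈ Finset.range p, f i := by
      rw [Finset.sum_mul]
      apply Finset.sum_congr rfl
      intro i hi
      have hi' := Finset.mem_range.mp hi
      rw [hf, mul_assoc, ← pow_succ]
      congr 2
      omega
    have h2 : X * (∑ i ∈ Finset.range p, q i * B * X ^ (p - i))
        = ∑ i ∈ Finset.range p, f (i + 1) - B * (∑ i ∈ Finset.range p, X ^ (p - i)) := by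
      rw [Finset.mul_sum, Finset.mul_sum, ← Finset.sum_sub_distrib]
      apply Finset.sum_congr rfl
      intro i hi
      rw [hf, ← mul_assoc, ← mul_assoc, hqsucc, sub_mul, sub_mul, one_mul]
      congr 3
      omega
    have h3 : ∑ i ∈ Finset.range p, X ^ (p - i) = X * Nm := by
      rw [hNm, Finset.mul_sum, ← Finset.sum_range_reflect]
      apply Finset.sum_congr rfl
      intro i hi
      have hi' := Finset.mem_range.mp hi
      rw [← pow_succ']
      congr 1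
      omega
    have h4 : B * (X * Nm) = 0 := by rw [hXNm, hBNm]
    have h5 : ∑ i ∈ Finset.range p, f (i + 1) = ∑ i ∈ Finset.range p, f i := by
      have e1 := Finset.sum_range_succ' f p
      have e2 := Finset.sum_range_succ f p
      have f0 : f 0 = 0 := by rw [hf, hq0, zero_mul, zero_mul]
      have fp : f p = 0 := by rw [hf, hqp, hNmB, zero_mul]
      rw [f0, add_zero] at e1
      rw [fp, add_zero] at e2
      rw [← e1, e2]
    rw [h1, h2, h3, h4, sub_zero, h5]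
  · intro v
    rw [Matrix.sum_mulVec]
    apply Submodule.sum_mem
    intro i _
    rw [← Matrix.mulVec_mulVec, ← Matrix.mulVec_mulVec, hB, Matrix.mulVec_smul]
    exact Submodule.smul_mem _ _ (hstabq _ hK0 i w hw)
  · intro u hu
    obtain ⟨hu1, hu2⟩ := Submodule.mem_inf.mp hu
    rw [LinearMap.mem_ker, Matrix.mulVecLin_apply] at hu2
    obtain ⟨c, hc⟩ : ∃ c : ℕ → ℤ, ∀ i, c i = r ⬝ᵥ (X ^ (p - i) *ᵥ u) := ⟨_, fun _ => rfl⟩
    have hAu : (∑ i ∈ Finset.range p, q i * B * X ^ (p - i)) *ᵥ u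
        = ∑ i ∈ Finset.range p, c i • (q i *ᵥ w) := by
      rw [Matrix.sum_mulVec]
      apply Finset.sum_congr rfl
      intro i _
      rw [← Matrix.mulVec_mulVec, ← Matrix.mulVec_mulVec, hB, Matrix.mulVec_smul, hc]
    obtain ⟨I, hI⟩ : ∃ I : Submodule ℤ (Fin N → ℤ), I = L.map (X - 1).mulVecLin := ⟨_, rfl⟩
    rw [← hI]
    have hImem : ∀ v ∈ L, (X - 1) *ᵥ v ∈ I := fun v hv => by
      rw [hI]
      exact ⟨v, hv, rfl⟩
    have hqw : ∀ i : ℕ, q i *ᵥ w - (i : ℤ) • w ∈ I := by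
      intro i
      induction i with
      | zero =>
        rw [hq0]
        simp
      | succ i ih =>
        have e : q (i + 1) *ᵥ w - ((i + 1 : ℕ) : ℤ) • w
            = (q i *ᵥ w - (i : ℤ) • w) + (X - 1) *ᵥ (q i *ᵥ w) := by
          rw [Matrix.mulVec_mulVec, hq1, hq (i + 1), Finset.sum_range_succ, ← hq i,
            Matrix.add_mulVec, Matrix.sub_mulVec, Matrix.one_mulVec]
          push_cast
          rw [add_smul, one_smul]
          abel
        rw [e]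
        exact I.add_mem ih (hImem _ (hstabq L hXL i w hwL))
    have hpw : (p : ℤ) • w ∈ I := by
      have h1 := hqw p
      rw [hqp, hwN, zero_sub] at h1
      have h2 := I.neg_mem h1
      rw [neg_neg] at h2
      exact h2
    -- the coefficient
    have hcoef : ∃ m : ℤ, ∑ i ∈ Finset.range p, c i * (i : ℤ) + κ * (ℓ ⬝ᵥ u) = p * m := by
      let g : Matrix (Fin N) (Fin N) ℤ →+ ℤ :=
        { toFun := fun M => ℓ ⬝ᵥ (M *ᵥ u)
          map_zero' := by simp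
          map_add' := fun M M' => by simp [Matrix.add_mulVec, dotProduct_add] }
      have hg : ∀ M, g M = ℓ ⬝ᵥ (M *ᵥ u) := fun M => rfl
      have hpc : ∀ i, (p : ℤ) * c i = κ * g ((X - 1) * X ^ (p - i)) := by
        intro i
        rw [hc, hr, hg, ← Matrix.mulVec_mulVec, hE _ (hstab L hXL (p - i) u hu1),
          Matrix.mulVec_smul, dotProduct_smul, smul_eq_mul, Matrix.mulVec_mulVec]
      have hsum : (p : ℤ) * ∑ i ∈ Finset.range p, c i * (i : ℤ)
          = κ * g ((X - 1) * ∑ i ∈ Finset.range p, (i : ℤ) • X ^ (p - i)) := by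
        rw [Finset.mul_sum, Finset.mul_sum, map_sum, Finset.mul_sum]
        apply Finset.sum_congr rfl
        intro i _
        rw [Matrix.mul_smul, map_zsmul, ← mul_assoc, hpc, smul_eq_mul]
        ring
      rw [lat_geom_identity, ← hNm, map_sub, map_zsmul, hg, hg, ← Matrix.mulVec_mulVec, hu2,
        Matrix.mulVec_zero, dotProduct_zero, zero_sub, smul_eq_mul] at hsum
      obtain ⟨m0, hm0⟩ := hℓ _ ⟨u, hu1, rfl⟩
      rw [Matrix.mulVecLin_apply, Matrix.sub_mulVec, Matrix.one_mulVec, dotProduct_sub] at hm0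
      refine ⟨-κ * m0, ?_⟩
      apply mul_left_cancel₀ hp0
      linear_combination hsum - (p : ℤ) * κ * hm0
    obtain ⟨m, hm⟩ := hcoef
    have hsplit : (∑ i ∈ Finset.range p, c i • (q i *ᵥ w)) + (κ * (ℓ ⬝ᵥ u)) • w
        = ∑ i ∈ Finset.range p, c i • (q i *ᵥ w - (i : ℤ) • w) + m • ((p : ℤ) • w) := by
      have h1 : m • ((p : ℤ) • w)
          = (∑ i ∈ Finset.range p, c i * (i : ℤ)) • w + (κ * (ℓ ⬝ᵥ u)) • w := by
        rw [smul_smul, mul_comm m, ← hm, add_smul]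
      rw [h1, ← add_assoc]
      congr 1
      rw [Finset.sum_smul, ← Finset.sum_add_distrib]
      apply Finset.sum_congr rfl
      intro i _
      rw [smul_sub, smul_smul, sub_add_cancel]
    rw [hAu, hsplit]
    exact I.add_mem (Submodule.sum_mem _ (fun i _ => I.smul_mem _ (hqw i))) (I.smul_mem _ hpw)

end Cfsg.Agent.Helper47
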