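import Mathlib
import Cfsg.Agent.Helper60.NCDefs

/-!
# CALL S4135, piece POWMUL (helper47)

`(a b)^n = a^n b^n z` with `z` central when the commutator of `a`, `b` is central.
-/

set_option autoImplicit false
open Subgroup

namespace Cfsg.Agent.Helper47.NCPOWMUL
open Cfsg.Agent.Helper60.NC

variable {G : Type*} [Group G] [Finite G] {r : ℕ} [Fact r.Prime] {N : Subgroup G} {m : ℕ}

/-- POWMUL -/
theorem pow_mul_central (a b : G) (hab : a⁻¹ * b⁻¹ * a * b ∈ center G) (n : ℕ) :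
    ∃ z ∈ center G, (a * b) ^ n = a ^ n * b ^ n * z := by
  have h1 : ∀ n : ℕ, ∃ z ∈ center G, b ^ n * a = a * b ^ n * z := by
    intro n
    induction n with
    | zero => exact ⟨1, one_mem _, by simp⟩
    | succ n ih =>
      obtain ⟨z, hz, hzn⟩ := ih
      refine ⟨z * (a⁻¹ * b⁻¹ * a * b)⁻¹, mul_mem hz (inv_mem hab), ?_⟩
      have hzc : ∀ g, g * z = z * g := fun g => (Subgroup.mem_center_iff.1 hz g)
      have hba : b * a = a * b * (a⁻¹ * b⁻¹ * a * b)⁻¹ := by group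
      calc b ^ (n + 1) * a = b ^ n * (b * a) := by rw [pow_succ, mul_assoc]
        _ = b ^ n * (a * b * (a⁻¹ * b⁻¹ * a * b)⁻¹) := by rw [← hba]
        _ = (b ^ n * a) * b * (a⁻¹ * b⁻¹ * a * b)⁻¹ := by simp only [mul_assoc]
        _ = (a * b ^ n * z) * b * (a⁻¹ * b⁻¹ * a * b)⁻¹ := by rw [hzn]
        _ = a * b ^ n * (z * b) * (a⁻¹ * b⁻¹ * a * b)⁻¹ := by simp only [mul_assoc]
        _ = a * b ^ n * (b * z) * (a⁻¹ * b⁻¹ * a * b)⁻¹ := by rw [hzc b]
        _ = a * b ^ (n + 1) * (z * (a⁻¹ * b⁻¹ * a * b)⁻¹) := by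
            rw [pow_succ]; simp only [mul_assoc]
  induction n with
  | zero => exact ⟨1, one_mem _, by simp⟩
  | succ n ih =>
    obtain ⟨z, hz, hzn⟩ := ih
    obtain ⟨z', hz', hz'n⟩ := h1 n
    refine ⟨z' * z, mul_mem hz' hz, ?_⟩
    have hzc : ∀ g, g * z = z * g := fun g => (Subgroup.mem_center_iff.1 hz g)
    have hzc' : ∀ g, g * z' = z' * g := fun g => (Subgroup.mem_center_iff.1 hz' g)
    calc (a * b) ^ (n + 1) = (a * b) ^ n * (a * b) := pow_succ _ _
      _ = a ^ n * b ^ n * (z * (a * b)) := by rw [hzn]; simp only [mul_assoc]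
      _ = a ^ n * b ^ n * ((a * b) * z) := by rw [hzc (a * b)]
      _ = a ^ n * (b ^ n * a) * b * z := by simp only [mul_assoc]
      _ = a ^ n * (a * b ^ n * z') * b * z := by rw [hz'n]
      _ = a ^ n * a * b ^ n * (z' * b) * z := by simp only [mul_assoc]
      _ = a ^ n * a * b ^ n * (b * z') * z := by rw [hzc' b]
      _ = a ^ (n + 1) * b ^ (n + 1) * (z' * z) := by
          rw [pow_succ, pow_succ]; simp only [mul_assoc]

end Cfsg.Agent.Helper47.NCPOWMUL
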