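import Mathlib
import Cfsg.Prelude.Def_GeometricClasses
import Cfsg.Prelude.Def_Classical
import Cfsg.Agent.Helper58.TSDefs
import Cfsg.Agent.Helper65.TSOBDefs
import Cfsg.Agent.Helper90.BGChain

set_option autoImplicit false

/-!
# Sub-CALL OB (helper65) of CALL TS, piece CSPLIT (helper47).
-/

namespace Cfsg.Agent.Helper47.OB

open Module Cfsg Cfsg.Geo Cfsg.Agent.Helper58.TS Cfsg.Agent.Helper65.TSOB

section geo

variable {ι : Type} [Fintype ι] [DecidableEq ι] {F : Type*} [Field F] [Fintype F]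

omit [Fintype F] in
theorem csplit_sub_mem {V : Type*} [AddCommGroup V] [Module F V] (T : Module.End F V) (w : V) :
    ∀ j : ℕ, w - (T ^ j) w ∈ LinearMap.range (T - 1) := by
  intro j
  induction j with
  | zero => simp
  | succ j ih =>
    have h1 : w - (T ^ (j + 1)) w = (w - (T ^ j) w) + (T - 1) (-((T ^ j) w)) := by
      rw [pow_succ', Module.End.mul_apply, LinearMap.sub_apply, Module.End.one_apply, map_neg]
      abel
    rw [h1]
    exact Submodule.add_mem _ ih (LinearMap.mem_range_self _ _)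

/-- CSPLIT: an invariant subspace splits along `ker (T - 1) ⊕ range (T - 1)`. -/
theorem ob_csplit {V : Type*} [AddCommGroup V] [Module F V] [FiniteDimensional F V]
    (T : Module.End F V) (r : ℕ) (hrF : (r : F) ≠ 0) (hTr : T ^ r = 1) (W : Submodule F V)
    (hWT : W.map T ≤ W) :
    finrank F W = finrank F ↥(W ⊓ LinearMap.ker (T - 1)) +
      finrank F ↥(W ⊓ LinearMap.range (T - 1)) := by
  have hinf : (W ⊓ LinearMap.ker (T - 1)) ⊓ (W ⊓ LinearMap.range (T - 1)) = ⊥ := by
    rw [eq_bot_iff]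
    intro v hv
    have h1 : v ∈ LinearMap.ker (T - 1) ⊓ LinearMap.range (T - 1) := ⟨hv.1.2, hv.2.2⟩
    rw [Cfsg.Agent.Helper90.BG.ker_inf_range T r hrF hTr] at h1
    exact h1
  have hsup : (W ⊓ LinearMap.ker (T - 1)) ⊔ (W ⊓ LinearMap.range (T - 1)) = W := by
    apply le_antisymm (sup_le inf_le_left inf_le_left)
    intro w hw
    obtain ⟨s, hs⟩ : ∃ s, s = Polynomial.aeval T
      (∑ j ∈ Finset.range r, (Polynomial.X : Polynomial F) ^ j) w := ⟨_, rfl⟩
    have hsW : s ∈ W := by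
      rw [hs]
      exact Cfsg.Agent.Helper90.BG.aeval_mem T W hWT _ hw
    have hsum : s = ∑ j ∈ Finset.range r, (T ^ j) w := by
      rw [hs, Cfsg.Agent.Helper90.BG.aeval_phi, LinearMap.sum_apply]
    have hsker : s ∈ LinearMap.ker (T - 1) := by
      rw [LinearMap.mem_ker, hs, ← Module.End.mul_apply,
        Cfsg.Agent.Helper90.BG.sub_one_mul_aeval_phi T r hTr, LinearMap.zero_apply]
    have hd : w - (r : F)⁻¹ • s ∈ LinearMap.range (T - 1) := by
      have h2 : w - (r : F)⁻¹ • s = (r : F)⁻¹ • ∑ j ∈ Finset.range r, (w - (T ^ j) w) := by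
        rw [Finset.sum_sub_distrib, ← hsum, Finset.sum_const, Finset.card_range, smul_sub,
          ← Nat.cast_smul_eq_nsmul F, smul_smul, inv_mul_cancel₀ hrF, one_smul]
      rw [h2]
      exact Submodule.smul_mem _ _ (Submodule.sum_mem _ (fun j _ => csplit_sub_mem T w j))
    have hc : (r : F)⁻¹ • s ∈ W ⊓ LinearMap.ker (T - 1) :=
      ⟨W.smul_mem _ hsW, Submodule.smul_mem _ _ hsker⟩
    have hdW : w - (r : F)⁻¹ • s ∈ W ⊓ LinearMap.range (T - 1) :=
      ⟨W.sub_mem hw (W.smul_mem _ hsW), hd⟩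
    have h3 : w = (r : F)⁻¹ • s + (w - (r : F)⁻¹ • s) := by abel
    rw [h3]
    exact Submodule.add_mem _ (Submodule.mem_sup_left hc) (Submodule.mem_sup_right hdW)
  have h4 := Submodule.finrank_sup_add_finrank_inf_eq (W ⊓ LinearMap.ker (T - 1))
    (W ⊓ LinearMap.range (T - 1))
  rw [hinf, finrank_bot, add_zero, hsup] at h4
  exact h4

end geo

end Cfsg.Agent.Helper47.OB
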