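import Cfsg.Agent.Helper47.SN2

set_option autoImplicit false

namespace Cfsg.Agent.Helper47

open scoped commutatorElement Pointwise

local notation "cj(" g "," Q ")" => Subgroup.map (MulEquiv.toMonoidHom (MulAut.conj g)) Q

section pcl

variable {G : Type*} [Group G] {p : ℕ}

/-- elementwise `p`-closure predicate for a subgroup: products of `p`-elements are `p`-elements -/
def PCl (p : ℕ) (N : Subgroup G) : Prop :=
  ∀ x ∈ N, ∀ y ∈ N, (∃ k : ℕ, x ^ (p ^ k) = 1) → (∃ k : ℕ, y ^ (p ^ k) = 1) →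
    ∃ k : ℕ, (x * y) ^ (p ^ k) = 1

theorem PCl_mono {A B : Subgroup G} (h : A ≤ B) (hB : PCl p B) : PCl p A :=
  fun x hx y hy => hB x (h hx) y (h hy)

theorem isPClosed_iff_forall_mul [Finite G] [Fact p.Prime] :
    Cfsg.IsPClosed p G ↔ ∀ x y : G, (∃ k : ℕ, x ^ (p ^ k) = 1) → (∃ k : ℕ, y ^ (p ^ k) = 1) →
      ∃ k : ℕ, (x * y) ^ (p ^ k) = 1 := by
  constructor
  · intro h x y hx hy
    have key : ∀ z : G, (∃ k : ℕ, z ^ (p ^ k) = 1) → z ∈ Cfsg.pCore p G := by
      rintro z ⟨k, hk⟩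
      have hz : IsPGroup p ↥(Subgroup.zpowers z) := by
        apply isPGroup_of_pow
        intro c hc
        obtain ⟨n, rfl⟩ := Subgroup.mem_zpowers_iff.mp hc
        refine ⟨k, ?_⟩
        rw [← zpow_natCast, ← zpow_mul, mul_comm, zpow_mul, zpow_natCast, hk, one_zpow]
      obtain ⟨Q, hQ⟩ := hz.exists_le_sylow
      rw [← sylow_eq_pCore_of_isPClosed h Q]
      exact hQ (Subgroup.mem_zpowers z)
    exact mem_pCore_pow ((Cfsg.pCore p G).mul_mem (key x hx) (key y hy))
  · intro h P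
    let T : Subgroup G :=
      { carrier := {x | ∃ k : ℕ, x ^ (p ^ k) = 1}
        mul_mem' := fun {a b} ha hb => h a b ha hb
        one_mem' := ⟨0, by simp⟩
        inv_mem' := fun {a} ha => by
          obtain ⟨k, hk⟩ := ha
          exact ⟨k, by rw [inv_pow, hk, inv_one]⟩ }
    have hT : IsPGroup p ↥T := isPGroup_of_pow (fun c hc => hc)
    have hPT : (P : Subgroup G) ≤ T := fun x hx => isPGroup_pow P.isPGroup' hx
    have hTn : T.Normal := by
      constructor
      rintro n ⟨k, hk⟩ g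
      exact ⟨k, by rw [conj_pow, hk, mul_one, mul_inv_cancel]⟩
    rw [← P.is_maximal' hT hPT]
    exact hTn

theorem isPClosed_subgroup_iff [Finite G] [Fact p.Prime] (N : Subgroup G) :
    Cfsg.IsPClosed p ↥N ↔ PCl p N := by
  rw [isPClosed_iff_forall_mul]
  constructor
  · intro h x hx y hy hxp hyp
    obtain ⟨k, hk⟩ := hxp
    obtain ⟨j, hj⟩ := hyp
    obtain ⟨m, hm⟩ := h ⟨x, hx⟩ ⟨y, hy⟩ ⟨k, Subtype.ext (by simpa using hk)⟩
      ⟨j, Subtype.ext (by simpa using hj)⟩
    exact ⟨m, by simpa using congrArg Subtype.val hm⟩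
  · intro h x y hxp hyp
    obtain ⟨k, hk⟩ := hxp
    obtain ⟨j, hj⟩ := hyp
    obtain ⟨m, hm⟩ := h x x.2 y y.2 ⟨k, by simpa using congrArg Subtype.val hk⟩
      ⟨j, by simpa using congrArg Subtype.val hj⟩
    exact ⟨m, Subtype.ext (by simpa using hm)⟩

theorem isPClosed_iff_PCl_top [Finite G] [Fact p.Prime] :
    Cfsg.IsPClosed p G ↔ PCl p (⊤ : Subgroup G) := by
  rw [isPClosed_iff_forall_mul]
  constructor
  · intro h x _ y _ hxp hyp
    exact h x y hxp hyp
  · intro h x y hxp hyp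
    exact h x (Subgroup.mem_top x) y (Subgroup.mem_top y) hxp hyp

/-- an element whose image under a hom with `p`-group kernel is a `p`-element is a `p`-element -/
theorem exists_pow_eq_one_of_map {G' : Type*} [Group G'] (f : G →* G') (hker : IsPGroup p ↥f.ker)
    {x : G} (hx : ∃ k : ℕ, (f x) ^ (p ^ k) = 1) : ∃ k : ℕ, x ^ (p ^ k) = 1 := by
  obtain ⟨k, hk⟩ := hx
  have hmem : x ^ (p ^ k) ∈ f.ker := by rw [MonoidHom.mem_ker, map_pow, hk]
  obtain ⟨j, hj⟩ := isPGroup_pow hker hmem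
  exact ⟨k + j, by rw [pow_add, pow_mul, hj]⟩

theorem PCl_comap {G' : Type*} [Group G'] (f : G →* G') (hf : Function.Surjective f)
    (hker : IsPGroup p ↥f.ker) (N' : Subgroup G') : PCl p (N'.comap f) ↔ PCl p N' := by
  constructor
  · intro h x' hx' y' hy' hxp hyp
    obtain ⟨x, rfl⟩ := hf x'
    obtain ⟨y, rfl⟩ := hf y'
    obtain ⟨m, hm⟩ := h x (Subgroup.mem_comap.mpr hx') y (Subgroup.mem_comap.mpr hy')
      (exists_pow_eq_one_of_map f hker hxp) (exists_pow_eq_one_of_map f hker hyp)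
    exact ⟨m, by rw [← map_mul, ← map_pow, hm, map_one]⟩
  · intro h x hx y hy hxp hyp
    obtain ⟨k, hk⟩ := hxp
    obtain ⟨j, hj⟩ := hyp
    apply exists_pow_eq_one_of_map f hker
    rw [map_mul]
    exact h (f x) (Subgroup.mem_comap.mp hx) (f y) (Subgroup.mem_comap.mp hy)
      ⟨k, by rw [← map_pow, hk, map_one]⟩ ⟨j, by rw [← map_pow, hj, map_one]⟩

/-- `O^p` of a surjective image is the image of `O^p` -/
theorem pResidual_map_of_surjective [Finite G] [Fact p.Prime] {G' : Type*} [Group G'] (f : G →* G')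
    (hf : Function.Surjective f) : (Cfsg.pResidual p G).map f = Cfsg.pResidual p G' := by
  apply le_antisymm
  · unfold Cfsg.pResidual
    rw [MonoidHom.map_closure, Subgroup.closure_le]
    rintro _ ⟨g, hg, rfl⟩
    apply Subgroup.subset_closure
    exact Nat.Coprime.coprime_dvd_left (orderOf_map_dvd f g) hg
  · apply pResidual_le_of_forall_pow_mem
    intro g' _
    obtain ⟨g, rfl⟩ := hf g'
    obtain ⟨k, hk⟩ := exists_pow_mem_pResidual (p := p) g
    exact ⟨k, ⟨g ^ (p ^ k), hk, map_pow f g _⟩⟩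

/-- `O_p` of a quotient by a normal `p`-subgroup is the image of `O_p` -/
theorem pCore_map_of_surjective [Finite G] [Fact p.Prime] {G' : Type*} [Group G'] [Finite G']
    (f : G →* G') (hf : Function.Surjective f) (hker : IsPGroup p ↥f.ker) :
    (Cfsg.pCore p G).map f = Cfsg.pCore p G' := by
  apply le_antisymm
  · exact le_pCore (Subgroup.Normal.map inferInstance f hf) ((pCore_isPGroup p G).map f)
  · have h1 : (Cfsg.pCore p G').comap f ≤ Cfsg.pCore p G := by
      apply le_pCore (Subgroup.Normal.comap inferInstance f)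
      apply isPGroup_of_pow
      intro c hc
      apply exists_pow_eq_one_of_map f hker
      exact mem_pCore_pow (Subgroup.mem_comap.mp hc)
    rw [← Subgroup.map_comap_eq_self_of_surjective hf (Cfsg.pCore p G')]
    exact Subgroup.map_mono h1

end pcl

end Cfsg.Agent.Helper47
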