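import Cfsg.Agent.Helper47.PCl

set_option autoImplicit false

namespace Cfsg.Agent.Helper47

open scoped commutatorElement Pointwise

local notation "cj(" g "," Q ")" => Subgroup.map (MulEquiv.toMonoidHom (MulAut.conj g)) Q

section pcl2

variable {G : Type*} [Group G] {p : ℕ}

theorem isPGroup_zpowers {z : G} {k : ℕ} (hk : z ^ (p ^ k) = 1) :
    IsPGroup p ↥(Subgroup.zpowers z) := by
  apply isPGroup_of_pow
  intro c hc
  obtain ⟨n, rfl⟩ := Subgroup.mem_zpowers_iff.mp hc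
  refine ⟨k, ?_⟩
  rw [← zpow_natCast, ← zpow_mul, mul_comm, zpow_mul, zpow_natCast, hk, one_zpow]

theorem PCl_map_subtype (H : Subgroup G) (K : Subgroup ↥H) :
    PCl p (K.map H.subtype) ↔ PCl p K := by
  constructor
  · intro h x hx y hy hxp hyp
    obtain ⟨k, hk⟩ := hxp
    obtain ⟨j, hj⟩ := hyp
    obtain ⟨m, hm⟩ := h (x : G) ⟨x, hx, rfl⟩ (y : G) ⟨y, hy, rfl⟩
      ⟨k, by simpa using congrArg Subtype.val hk⟩ ⟨j, by simpa using congrArg Subtype.val hj⟩
    exact ⟨m, Subtype.ext (by simpa using hm)⟩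
  · rintro h _ ⟨x, hx, rfl⟩ _ ⟨y, hy, rfl⟩ hxp hyp
    obtain ⟨k, hk⟩ := hxp
    obtain ⟨j, hj⟩ := hyp
    obtain ⟨m, hm⟩ := h x hx y hy ⟨k, Subtype.ext (by simpa using hk)⟩
      ⟨j, Subtype.ext (by simpa using hj)⟩
    exact ⟨m, by simpa using congrArg Subtype.val hm⟩

theorem isPClosed_subgroupOf_iff [Finite G] [Fact p.Prime] (C H : Subgroup G) :
    Cfsg.IsPClosed p ↥(C.subgroupOf H) ↔ Cfsg.IsPClosed p ↥(H ⊓ C) := by
  rw [isPClosed_subgroup_iff, isPClosed_subgroup_iff, ← PCl_map_subtype,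
    Subgroup.subgroupOf_map_subtype, inf_comm]

/-- a `p`-element of a `p`-closed normal subgroup lies in `O_p` -/
theorem mem_pCore_of_mem_normal_pClosed [Finite G] [Fact p.Prime] {N : Subgroup G} [hN : N.Normal]
    (hcl : Cfsg.IsPClosed p ↥N) {y : G} (hy : y ∈ N) {k : ℕ} (hk : y ^ (p ^ k) = 1) :
    y ∈ Cfsg.pCore p G := by
  have h1 : Subgroup.zpowers y ≤ N := by
    rw [Subgroup.zpowers_le]
    exact hy
  exact le_pCore_of_le_normal_pClosed hcl (isPGroup_zpowers hk) h1 (Subgroup.mem_zpowers y)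

/-- if the preimage of `O_p(G/N)` is `p`-closed and `O_p(G) ≤ N` then `O_p(G/N) = 1` -/
theorem pCore_quotient_eq_bot_of_isPClosed [Finite G] [hp : Fact p.Prime] {N : Subgroup G} [N.Normal]
    (hcl : Cfsg.IsPClosed p ↥((Cfsg.pCore p (G ⧸ N)).comap (QuotientGroup.mk' N)))
    (hO : Cfsg.pCore p G ≤ N) : Cfsg.pCore p (G ⧸ N) = ⊥ := by
  have hs := QuotientGroup.mk'_surjective N
  set K := (Cfsg.pCore p (G ⧸ N)).comap (QuotientGroup.mk' N) with hK
  haveI : K.Normal := Subgroup.Normal.comap inferInstance _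
  have hKN : K ≤ N := by
    intro x hx
    obtain ⟨k, hk⟩ := mem_pCore_pow (Subgroup.mem_comap.mp hx)
    have hn : orderOf x ≠ 0 := (orderOf_pos x).ne'
    obtain ⟨e, n', hn', hgn⟩ := Nat.exists_eq_pow_mul_and_not_dvd hn p hp.out.ne_one
    have h1 : (x ^ n') ^ (p ^ e) = 1 := by
      rw [← pow_mul, mul_comm, ← hgn, pow_orderOf_eq_one]
    have h2 : x ^ n' ∈ N := hO (mem_pCore_of_mem_normal_pClosed hcl (K.pow_mem hx n') h1)
    have h3 : ((QuotientGroup.mk' N) x) ^ n' = 1 := by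
      rw [← map_pow]
      exact (QuotientGroup.eq_one_iff _).mpr h2
    have h4 := pow_gcd_eq_one.mpr ⟨h3, hk⟩
    have hcop : Nat.gcd n' (p ^ k) = 1 :=
      Nat.Coprime.pow_right k ((Nat.Prime.coprime_iff_not_dvd hp.out).mpr hn').symm
    rw [hcop, pow_one] at h4
    exact (QuotientGroup.eq_one_iff _).mp h4
  rw [eq_bot_iff, ← Subgroup.map_comap_eq_self_of_surjective hs (Cfsg.pCore p (G ⧸ N)), ← hK]
  exact (Subgroup.map_mono hKN).trans (le_of_eq (QuotientGroup.map_mk'_self N))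

end pcl2

end Cfsg.Agent.Helper47
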