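import Cfsg.Agent.Helper47.Quot

set_option autoImplicit false

namespace Cfsg.Agent.Helper47

open scoped commutatorElement Pointwise

section pirr

variable {G : Type*} [Group G]

/-- an element normalizing `A` and `B` normalizes `⁅A, B⁆` -/
theorem normalizer_inf_normalizer_le_normalizer_commutator (A B : Subgroup G) :
    Subgroup.normalizer (A : Set G) ⊓ Subgroup.normalizer (B : Set G) ≤
      Subgroup.normalizer ((⁅A, B⁆ : Subgroup G) : Set G) := by
  intro g hg
  simp_rw [Subgroup.mem_inf, Subgroup.mem_normalizer_iff_map_conj_eq] at hg ⊢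
  have := Subgroup.map_commutator A B (MulAut.conj g).toMonoidHom
  simp only [MulEquiv.toMonoidHom_eq_coe] at this
  rw [this, hg.1, hg.2]

variable [Finite G] {p : ℕ} [hp : Fact p.Prime]

/-- a `p`-subgroup of a `p`-closed normal subgroup lies in `O_p` -/
theorem le_pCore_of_le_normal_pClosed {N : Subgroup G} [hN : N.Normal]
    (hcl : Cfsg.IsPClosed p ↥N) {Y : Subgroup G} (hY : IsPGroup p ↥Y) (hYN : Y ≤ N) :
    Y ≤ Cfsg.pCore p G := by
  obtain ⟨Q, hQ⟩ := (hY.comap_subtype (K := N)).exists_le_sylow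
  haveI : (Q : Subgroup ↥N).Characteristic := Sylow.characteristic_of_normal Q (hcl Q)
  have hnorm : ((Q : Subgroup ↥N).map N.subtype).Normal := normal_map_of_characteristic N _
  have hle : ((Q : Subgroup ↥N).map N.subtype) ≤ Cfsg.pCore p G :=
    le_pCore hnorm (Q.isPGroup'.map _)
  intro y hy
  exact hle ⟨⟨y, hYN hy⟩, hQ (Subgroup.mem_subgroupOf.mpr hy), rfl⟩

/-- in `C Y` with `C` normal and `Y` a `p`-group, every element has a `p`-power power in `C` -/
theorem pow_mem_of_mem_sup_normal {C Y : Subgroup G} [C.Normal] (hY : IsPGroup p ↥Y) {g : G}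
    (hg : g ∈ C ⊔ Y) : ∃ k : ℕ, g ^ (p ^ k) ∈ C := by
  have hg' : g ∈ ((C ⊔ Y : Subgroup G) : Set G) := hg
  rw [Subgroup.normal_mul] at hg'
  obtain ⟨n, hn, t, ht, rfl⟩ := Set.mem_mul.mp hg'
  obtain ⟨k, hk⟩ := isPGroup_pow hY ht
  refine ⟨k, ?_⟩
  rw [← QuotientGroup.eq_one_iff (N := C), QuotientGroup.mk_pow, QuotientGroup.mk_mul,
    (QuotientGroup.eq_one_iff n).mpr hn, one_mul, ← QuotientGroup.mk_pow, hk]
  rfl

/-- In a finite group that is not `p`-closed no Sylow subgroup lies in `O_p`. -/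
theorem sylow_not_le_pCore (h : ¬ Cfsg.IsPClosed p G) (T : Sylow p G) :
    ¬ (T : Subgroup G) ≤ Cfsg.pCore p G := by
  intro hle
  apply h
  apply isPClosed_of_normal_sylow T
  have : (T : Subgroup G) = Cfsg.pCore p G := le_antisymm hle (pCore_le_sylow T)
  rw [this]
  infer_instance

end pirr

end Cfsg.Agent.Helper47
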