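import Cfsg.Agent.Helper47.FrakH

set_option autoImplicit false

namespace Cfsg.Agent.Helper47

open scoped commutatorElement Pointwise

local notation "cj(" g "," Q ")" => Subgroup.map (MulEquiv.toMonoidHom (MulAut.conj g)) Q

section pred

variable {G : Type*} [Group G] {p : ℕ}

/-- ambient form of "`V` is a `p`-reduced normal subgroup of `L`" -/
def PRedIn (p : ℕ) (L V : Subgroup G) : Prop :=
  V ≤ L ∧ L ≤ Subgroup.normalizer (V : Set G) ∧ Cfsg.IsElementaryAbelian p V ∧
    ∀ D : Subgroup G, D ≤ L → L ≤ Subgroup.normalizer (D : Set G) →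
      (∀ d ∈ D, ∃ k : ℕ, d ^ (p ^ k) ∈ Subgroup.centralizer (V : Set G)) →
      D ≤ Subgroup.centralizer (V : Set G)

theorem mem_centralizer_map_subtype {L : Subgroup G} (W : Subgroup ↥L) (x : ↥L) :
    x ∈ Subgroup.centralizer (W : Set ↥L) ↔
      (x : G) ∈ Subgroup.centralizer ((W.map L.subtype : Subgroup G) : Set G) := by
  constructor
  · intro h
    rw [Subgroup.mem_centralizer_iff]
    rintro _ ⟨w, hw, rfl⟩
    exact congrArg Subtype.val (Subgroup.mem_centralizer_iff.mp h w hw)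
  · intro h
    rw [Subgroup.mem_centralizer_iff]
    intro w hw
    apply Subtype.ext
    exact Subgroup.mem_centralizer_iff.mp h (w : G) ⟨w, hw, rfl⟩

theorem PRedIn_of_isPReducedNormal [Finite G] [Fact p.Prime] {L : Subgroup G} {W : Subgroup ↥L}
    (hW : Cfsg.IsPReducedNormal p W) : PRedIn p L (W.map L.subtype) := by
  obtain ⟨hWn, hWe, hCn, hC⟩ := hW
  refine ⟨Subgroup.map_subtype_le _, le_normalizer_map_subtype_of_normal L W,
    IsElementaryAbelian_map hWe _, ?_⟩
  intro D hDL hLD hpow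
  have hD'n : (D.subgroupOf L).Normal :=
    (Subgroup.normal_subgroupOf_iff_le_normalizer hDL).mpr hLD
  have h1 : (D.subgroupOf L).map (QuotientGroup.mk' (Subgroup.centralizer (W : Set ↥L))) ≤
      Cfsg.pCore p (↥L ⧸ Subgroup.centralizer (W : Set ↥L)) := by
    refine le_pCore (Subgroup.Normal.map hD'n _ (QuotientGroup.mk'_surjective _)) ?_
    apply isPGroup_of_pow
    rintro _ ⟨d, hd, rfl⟩
    obtain ⟨k, hk⟩ := hpow d (Subgroup.mem_subgroupOf.mp hd)
    refine ⟨k, ?_⟩
    rw [← map_pow]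
    exact (QuotientGroup.eq_one_iff _).mpr ((mem_centralizer_map_subtype W _).mpr (by simpa using hk))
  rw [hC] at h1
  intro d hd
  have h2 : QuotientGroup.mk' (Subgroup.centralizer (W : Set ↥L)) ⟨d, hDL hd⟩ ∈
      (⊥ : Subgroup (↥L ⧸ Subgroup.centralizer (W : Set ↥L))) :=
    h1 ⟨⟨d, hDL hd⟩, Subgroup.mem_subgroupOf.mpr hd, rfl⟩
  rw [Subgroup.mem_bot] at h2
  exact (mem_centralizer_map_subtype W ⟨d, hDL hd⟩).mp ((QuotientGroup.eq_one_iff _).mp h2)

theorem isPReducedNormal_of_PRedIn [Finite G] [Fact p.Prime] {L V : Subgroup G}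
    (h : PRedIn p L V) : Cfsg.IsPReducedNormal p (V.subgroupOf L) := by
  obtain ⟨hVL, hLV, hVe, hred⟩ := h
  have hn : (V.subgroupOf L).Normal := (Subgroup.normal_subgroupOf_iff_le_normalizer hVL).mpr hLV
  have hmap : (V.subgroupOf L).map L.subtype = V := by
    rw [Subgroup.subgroupOf_map_subtype]; exact inf_eq_left.mpr hVL
  refine ⟨hn, ⟨isMulCommutative_iff.mpr ?_, ?_⟩, inferInstance, ?_⟩
  · rintro ⟨a, ha⟩ ⟨b, hb⟩
    apply Subtype.ext
    apply Subtype.ext
    exact IsElementaryAbelian_comm hVe (Subgroup.mem_subgroupOf.mp ha) (Subgroup.mem_subgroupOf.mp hb)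
  · intro a ha
    apply Subtype.ext
    exact hVe.2 _ (Subgroup.mem_subgroupOf.mp ha)
  · rw [eq_bot_iff]
    intro q hq
    obtain ⟨x, rfl⟩ := QuotientGroup.mk_surjective q
    rw [Subgroup.mem_bot, QuotientGroup.eq_one_iff]
    set K := (Cfsg.pCore p (↥L ⧸ Subgroup.centralizer ((V.subgroupOf L : Subgroup ↥L) : Set ↥L))).comap
      (QuotientGroup.mk' (Subgroup.centralizer ((V.subgroupOf L : Subgroup ↥L) : Set ↥L))) with hK
    haveI hKn : K.Normal := Subgroup.Normal.comap inferInstance _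
    have hpow : ∀ d ∈ K.map L.subtype, ∃ k : ℕ, d ^ (p ^ k) ∈ Subgroup.centralizer (V : Set G) := by
      rintro _ ⟨d, hd, rfl⟩
      obtain ⟨k, hk⟩ := mem_pCore_pow (Subgroup.mem_comap.mp hd)
      refine ⟨k, ?_⟩
      rw [← map_pow] at hk
      have h3 := (mem_centralizer_map_subtype _ _).mp ((QuotientGroup.eq_one_iff _).mp hk)
      rw [hmap] at h3
      simpa using h3
    have h4 := hred (K.map L.subtype) (Subgroup.map_subtype_le _)
      (le_normalizer_map_subtype_of_normal L K) hpow ⟨x, hq, rfl⟩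
    apply (mem_centralizer_map_subtype (V.subgroupOf L) x).mpr
    rw [hmap]
    exact h4

theorem PRedIn_le_largestPReducedOf [Finite G] [Fact p.Prime] {L V : Subgroup G}
    (h : PRedIn p L V) : V ≤ Cfsg.largestPReducedOf p L := by
  have hmap : (V.subgroupOf L).map L.subtype = V := by
    rw [Subgroup.subgroupOf_map_subtype]; exact inf_eq_left.mpr h.1
  rw [← hmap]
  exact Subgroup.map_mono (le_sSup (isPReducedNormal_of_PRedIn h))

theorem PRedIn_largestPReducedOf [Finite G] [Fact p.Prime] (L : Subgroup G) :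
    PRedIn p L (Cfsg.largestPReducedOf p L) := by
  refine ⟨largestPReducedOf_le p L, le_normalizer_largestPReducedOf p L,
    largestPReducedOf_isElementaryAbelian L, ?_⟩
  intro D hDL hLD hpow
  rw [Subgroup.le_centralizer_iff]
  show (Cfsg.largestPReduced p ↥L).map L.subtype ≤ Subgroup.centralizer (D : Set G)
  rw [Subgroup.map_le_iff_le_comap]
  apply sSup_le
  intro W hW
  rw [← Subgroup.map_le_iff_le_comap, ← Subgroup.le_centralizer_iff]
  have hWY : W.map L.subtype ≤ Cfsg.largestPReducedOf p L := Subgroup.map_mono (le_sSup hW)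
  refine (PRedIn_of_isPReducedNormal hW).2.2.2 D hDL hLD fun d hd => ?_
  obtain ⟨k, hk⟩ := hpow d hd
  exact ⟨k, Subgroup.centralizer_le hWY hk⟩

/-- powers of an element of `D C` (with `D` normalizing `C`) -/
theorem pow_mem_sup_of_le_normalizer {D C : Subgroup G} (hDC : D ≤ Subgroup.normalizer (C : Set G))
    {x : G} (hx : x ∈ D ⊔ C) : ∃ d ∈ D, ∀ n : ℕ, ∃ c ∈ C, x ^ n = d ^ n * c := by
  have hx' : x ∈ ((D ⊔ C : Subgroup G) : Set G) := hx
  rw [Subgroup.coe_mul_of_left_le_normalizer_right D C hDC] at hx'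
  obtain ⟨d, hd, c, hc, rfl⟩ := Set.mem_mul.mp hx'
  refine ⟨d, hd, fun n => ?_⟩
  induction n with
  | zero => exact ⟨1, C.one_mem, by simp⟩
  | succ n ih =>
    obtain ⟨c', hc', h⟩ := ih
    refine ⟨d⁻¹ * c' * d * c, C.mul_mem ?_ hc, ?_⟩
    · have := (Subgroup.mem_normalizer_iff.mp (Subgroup.inv_mem _ (hDC hd)) c').mp hc'
      simpa using this
    · rw [pow_succ, h, pow_succ]; group

/-- transfer of `p`-reducedness across `L C(V) = M C(V)` -/
theorem PRedIn_of_sup_centralizer_eq {L M V : Subgroup G} (hV : PRedIn p M V) (hVL : V ≤ L)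
    (h : L ⊔ Subgroup.centralizer (V : Set G) = M ⊔ Subgroup.centralizer (V : Set G)) :
    PRedIn p L V := by
  obtain ⟨hVM, hMV, hVe, hred⟩ := hV
  set C := Subgroup.centralizer (V : Set G) with hC
  have hMC : M ≤ Subgroup.normalizer (C : Set G) := hMV.trans (normalizer_le_normalizer_centralizer V)
  have hLV : L ≤ Subgroup.normalizer (V : Set G) := by
    calc L ≤ L ⊔ C := le_sup_left
      _ = M ⊔ C := h
      _ ≤ Subgroup.normalizer (V : Set G) := sup_le hMV (Subgroup.centralizer_le_normalizer _)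
  have hLC : L ≤ Subgroup.normalizer (C : Set G) := hLV.trans (normalizer_le_normalizer_centralizer V)
  refine ⟨hVL, hLV, hVe, ?_⟩
  intro D hDL hLD hpow
  have hDCn : D ≤ Subgroup.normalizer (C : Set G) := hDL.trans hLC
  have hLDC : L ⊔ C ≤ Subgroup.normalizer ((D ⊔ C : Subgroup G) : Set G) := by
    apply sup_le
    · intro l hl
      rw [← cj_eq_self_iff, cj_sup, cj_eq_self_iff.mpr (hLD hl), cj_eq_self_iff.mpr (hLC hl)]
    · exact le_sup_right.trans Subgroup.le_normalizer
  have hD' : (D ⊔ C) ⊓ M ≤ C := by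
    apply hred _ inf_le_right
    · intro m hm
      have hm' : m ∈ L ⊔ C := by rw [h]; exact Subgroup.mem_sup_left hm
      rw [← cj_eq_self_iff, cj_inf, cj_eq_self_iff.mpr (hLDC hm'), cj_eq_self_of_mem hm]
    · intro x hx
      obtain ⟨d, hd, hpw⟩ := pow_mem_sup_of_le_normalizer hDCn (Subgroup.mem_inf.mp hx).1
      obtain ⟨k, hk⟩ := hpow d hd
      obtain ⟨c, hc, hxc⟩ := hpw (p ^ k)
      exact ⟨k, by rw [hxc]; exact C.mul_mem hk hc⟩
  intro d hd
  have hd' : d ∈ ((M ⊔ C : Subgroup G) : Set G) := by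
    have : d ∈ L ⊔ C := Subgroup.mem_sup_left (hDL hd)
    rw [h] at this
    exact this
  rw [Subgroup.coe_mul_of_left_le_normalizer_right M C hMC] at hd'
  obtain ⟨m, hm, c, hc, hmc⟩ := Set.mem_mul.mp hd'
  have hmD : m ∈ (D ⊔ C) ⊓ M := by
    refine Subgroup.mem_inf.mpr ⟨?_, hm⟩
    have : m = d * c⁻¹ := by rw [← hmc]; group
    rw [this]
    exact Subgroup.mul_mem _ (Subgroup.mem_sup_left hd) (Subgroup.mem_sup_right (C.inv_mem hc))
  rw [← hmc]
  exact C.mul_mem (hD' hmD) hc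

end pred

end Cfsg.Agent.Helper47
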