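import Cfsg.Agent.Helper47.QS

set_option autoImplicit false

namespace Cfsg.Agent.Helper47

open scoped commutatorElement Pointwise

local notation "cj(" g "," Q ")" => Subgroup.map (MulEquiv.toMonoidHom (MulAut.conj g)) Q

section qs2

variable {G : Type*} [Group G] [Finite G] {p : ℕ} [hp : Fact p.Prime]

/-- if `A` normalizes `P` and `⁅A, U⁆ ≤ P` then `A` normalizes `U P` -/
theorem qs_le_normalizer_sup {A U P : Subgroup G}
    (hAP : A ≤ Subgroup.normalizer (P : Set G)) (h : ⁅A, U⁆ ≤ P) :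
    A ≤ Subgroup.normalizer ((U ⊔ P : Subgroup G) : Set G) := by
  intro a ha
  rw [← cj_eq_self_iff]
  apply cj_eq_of_le
  rw [cj_sup, cj_eq_self_iff.mpr (hAP ha)]
  refine sup_le ?_ le_sup_right
  rintro _ ⟨u, hu, rfl⟩
  have e : (MulAut.conj a).toMonoidHom u = ⁅a, u⁆ * u := by simp [commutatorElement_def]
  rw [e]
  exact Subgroup.mul_mem _ (Subgroup.mem_sup_right (h (Subgroup.commutator_mem_commutator ha hu)))
    (Subgroup.mem_sup_left hu)

/-- a family of `p`-subgroups of `X` lies in `S B` when `X` normalizes `S B` -/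
theorem qs_iSup_le_sylow_sup {ι : Sort*} (Y : ι → Subgroup G) {X B : Subgroup G}
    (hY : ∀ i, IsPGroup p ↥(Y i)) (hYX : ∀ i, Y i ≤ X) (S : Sylow p ↥X)
    (hX : X ≤ Subgroup.normalizer
      ((((S : Subgroup ↥X).map X.subtype ⊔ B : Subgroup G)) : Set G)) :
    ⨆ i, Y i ≤ (S : Subgroup ↥X).map X.subtype ⊔ B := by
  apply iSup_le
  intro i
  obtain ⟨k, hk, hle⟩ := exists_cj_le_sylow_subgroup (hY i) (hYX i) S
  have h1 : Y i ≤ cj(k⁻¹, (S : Subgroup ↥X).map X.subtype) := by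
    rw [le_cj_iff, inv_inv]; exact hle
  have h2 : cj(k⁻¹, (S : Subgroup ↥X).map X.subtype ⊔ B) =
      (S : Subgroup ↥X).map X.subtype ⊔ B :=
    cj_eq_self_iff.mpr (hX (X.inv_mem hk))
  calc Y i ≤ cj(k⁻¹, (S : Subgroup ↥X).map X.subtype) := h1
    _ ≤ cj(k⁻¹, (S : Subgroup ↥X).map X.subtype ⊔ B) := cj_mono le_sup_left
    _ = _ := h2

/-- internal form of `O_p(E / C_E) = 1` -/
theorem qs_red_internal {E C : Subgroup G} [hn : (C.subgroupOf E).Normal]
    (hred : Cfsg.pCore p (↥E ⧸ C.subgroupOf E) = ⊥) {D : Subgroup G} (hDE : D ≤ E)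
    (hED : E ≤ Subgroup.normalizer (D : Set G))
    (hpow : ∀ d ∈ D, ∃ k : ℕ, d ^ (p ^ k) ∈ C) : D ≤ C := by
  have hD'n : (D.subgroupOf E).Normal :=
    (Subgroup.normal_subgroupOf_iff_le_normalizer hDE).mpr hED
  have h1 : (D.subgroupOf E).map (QuotientGroup.mk' (C.subgroupOf E)) ≤
      Cfsg.pCore p (↥E ⧸ C.subgroupOf E) := by
    refine le_pCore (Subgroup.Normal.map hD'n _ (QuotientGroup.mk'_surjective _)) ?_
    apply isPGroup_of_pow
    rintro _ ⟨d, hd, rfl⟩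
    obtain ⟨k, hk⟩ := hpow d (Subgroup.mem_subgroupOf.mp hd)
    refine ⟨k, ?_⟩
    rw [← map_pow]
    exact (QuotientGroup.eq_one_iff _).mpr (Subgroup.mem_subgroupOf.mpr (by simpa using hk))
  rw [hred] at h1
  intro d hd
  have h2 : QuotientGroup.mk' (C.subgroupOf E) ⟨d, hDE hd⟩ ∈
      (⊥ : Subgroup (↥E ⧸ C.subgroupOf E)) :=
    h1 ⟨⟨d, hDE hd⟩, Subgroup.mem_subgroupOf.mpr hd, rfl⟩
  rw [Subgroup.mem_bot] at h2
  exact Subgroup.mem_subgroupOf.mp ((QuotientGroup.eq_one_iff _).mp h2)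

/-- internal form of the quasisimplicity of `O^p(E) C_E / C_E` -/
theorem qs_hyp_internal {E C K : Subgroup G} [hn : (C.subgroupOf E).Normal]
    (hqs : Cfsg.IsQuasisimple ↥(((Cfsg.pResidual p ↥E) ⊔ C.subgroupOf E).map
      (QuotientGroup.mk' (C.subgroupOf E))))
    (hK : K = (Cfsg.pResidual p ↥E).map E.subtype ⊔ (E ⊓ C)) :
    K ≤ ⁅K, K⁆ ⊔ (E ⊓ C) ∧ ¬ K ≤ C ∧
      ∀ D : Subgroup G, D ≤ K → K ≤ Subgroup.normalizer (D : Set G) →
        ⁅D, K⁆ ≤ C ∨ K ≤ D ⊔ (E ⊓ C) := by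
  obtain ⟨h1, h2, h3⟩ := qs_of_map_mk (C.subgroupOf E) (Cfsg.pResidual p ↥E ⊔ C.subgroupOf E) hqs
  obtain ⟨S, hS⟩ : ∃ S : Subgroup ↥E, S = Cfsg.pResidual p ↥E ⊔ C.subgroupOf E := ⟨_, rfl⟩
  rw [← hS] at h1 h2 h3
  have hNmap : (C.subgroupOf E).map E.subtype = E ⊓ C := by
    rw [Subgroup.subgroupOf_map_subtype, inf_comm]
  have hSK : S.map E.subtype = K := by
    rw [hS, Subgroup.map_sup, hNmap, hK]
  have hKE : K ≤ E := by rw [← hSK]; exact Subgroup.map_subtype_le _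
  refine ⟨?_, ?_, ?_⟩
  · have := Subgroup.map_mono (f := E.subtype) h1
    rw [Subgroup.map_sup, Subgroup.map_commutator, hSK, hNmap] at this
    exact this
  · intro hKC
    apply h2
    intro s hs
    rw [Subgroup.mem_subgroupOf]
    apply hKC
    rw [← hSK]
    exact ⟨s, hs, rfl⟩
  · intro D hDK hKD
    have hD'S : D.subgroupOf E ≤ S := by
      intro d hd
      have hd' : (d : G) ∈ S.map E.subtype := by
        rw [hSK]; exact hDK (Subgroup.mem_subgroupOf.mp hd)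
      obtain ⟨s, hs, hsd⟩ := hd'
      have : s = d := Subtype.ext hsd
      rw [← this]; exact hs
    have hSD' : S ≤ Subgroup.normalizer ((D.subgroupOf E : Subgroup ↥E) : Set ↥E) := by
      intro s hs
      have hsK : (s : G) ∈ K := by rw [← hSK]; exact ⟨s, hs, rfl⟩
      have hsN := hKD hsK
      rw [Subgroup.mem_normalizer_iff]
      intro x
      rw [Subgroup.mem_subgroupOf, Subgroup.mem_subgroupOf]
      exact (Subgroup.mem_normalizer_iff.mp hsN) (x : G)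
    have hD'map : (D.subgroupOf E).map E.subtype = D := by
      rw [Subgroup.subgroupOf_map_subtype]; exact inf_eq_left.mpr (hDK.trans hKE)
    rcases h3 (D.subgroupOf E) hD'S hSD' with h | h
    · left
      have := Subgroup.map_mono (f := E.subtype) h
      rw [Subgroup.map_commutator, hD'map, hSK, hNmap] at this
      exact this.trans inf_le_right
    · right
      have := Subgroup.map_mono (f := E.subtype) h
      rw [Subgroup.map_sup, hD'map, hSK, hNmap] at this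
      exact this

/-- quasisimplicity of a quotient of a subgroup from internal conditions -/
theorem qs_quotient_of_internal {Er : Subgroup G} (N : Subgroup ↥Er) [N.Normal]
    (h1 : ⁅Er, Er⁆ = Er) (h2 : ¬ Er ≤ N.map Er.subtype)
    (h3 : ∀ D : Subgroup G, D ≤ Er → Er ≤ Subgroup.normalizer (D : Set G) →
      ⁅D, Er⁆ ≤ N.map Er.subtype ∨ Er ≤ D ⊔ N.map Er.subtype) :
    Cfsg.IsQuasisimple (↥Er ⧸ N) := by
  have htop : (⊤ : Subgroup ↥Er).map Er.subtype = Er := by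
    rw [← MonoidHom.range_eq_map, Subgroup.range_subtype]
  apply qs_quotient N
  · have : Group.IsPerfect ↥Er := Subgroup.isPerfect_iff.mpr h1
    exact this.commutator_eq_top
  · intro hN
    apply h2
    rw [hN, htop]
  · intro D hD
    rcases h3 (D.map Er.subtype) (Subgroup.map_subtype_le _)
      (le_normalizer_map_subtype_of_normal Er D) with h | h
    · left
      rw [← Subgroup.map_le_map_iff_of_injective Er.subtype_injective, Subgroup.map_commutator,
        htop]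
      exact h
    · right
      rw [eq_top_iff]
      intro x _
      have hx := h x.2
      rw [← Subgroup.map_sup] at hx
      obtain ⟨y, hy, hyx⟩ := hx
      have : y = x := Subtype.ext hyx
      rw [← this]; exact hy

/-- a normal subgroup `V` of `E` generated by `p`-subgroups and centralized modulo `E ∩ C` by
a subgroup containing the `p'`-elements of `E` lies in `C` -/
theorem qs_nilp {E C K V : Subgroup G} {ι : Sort*} (Y : ι → Subgroup G)
    (hred : ∀ D : Subgroup G, D ≤ E → E ≤ Subgroup.normalizer (D : Set G) →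
      (∀ d ∈ D, ∃ k : ℕ, d ^ (p ^ k) ∈ C) → D ≤ C)
    (hEC : E ≤ Subgroup.normalizer ((E ⊓ C : Subgroup G) : Set G))
    (hYp : ∀ i, IsPGroup p ↥(Y i)) (hYE : ∀ i, Y i ≤ E) (hV : V = ⨆ i, Y i)
    (hEV : E ≤ Subgroup.normalizer (V : Set G))
    (hKE : K ≤ E) (hK : ∀ g ∈ E, (orderOf g).Coprime p → g ∈ K)
    (hKV : ⁅K, V⁆ ≤ E ⊓ C) : V ≤ C := by
  obtain ⟨CE, hCE⟩ : ∃ CE : Subgroup G, CE = E ⊓ C := ⟨_, rfl⟩
  rw [← hCE] at hEC hKV
  have hCEE : CE ≤ E := by rw [hCE]; exact inf_le_left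
  have hCEC : CE ≤ C := by rw [hCE]; exact inf_le_right
  have hVE : V ≤ E := by rw [hV]; exact iSup_le hYE
  obtain ⟨V₁, hV₁⟩ : ∃ V₁ : Subgroup G, V₁ = V ⊔ CE := ⟨_, rfl⟩
  have hVV₁ : V ≤ V₁ := by rw [hV₁]; exact le_sup_left
  have hV₁E : V₁ ≤ E := by rw [hV₁]; exact sup_le hVE hCEE
  have hEV₁ : E ≤ Subgroup.normalizer (V₁ : Set G) := by
    rw [hV₁]
    exact (le_inf hEV hEC).trans (Subgroup.normalizer_inf_normalizer_le_normalizer_sup _ _)
  have hKV₁ : ⁅K, V₁⁆ ≤ CE := by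
    rw [Subgroup.commutator_comm, hV₁]
    apply commutator_sup_le
    · rw [← hV₁]; exact hV₁E.trans hEC
    · rw [Subgroup.commutator_comm]; exact hKV
    · exact wcf_commutator_le_left (hKE.trans hEC)
  obtain ⟨S⟩ : Nonempty (Sylow p ↥V₁) := inferInstance
  obtain ⟨S', hS'⟩ : ∃ S' : Subgroup G, S' = (S : Subgroup ↥V₁).map V₁.subtype := ⟨_, rfl⟩
  have hS'p : IsPGroup p ↥S' := by rw [hS']; exact S.isPGroup'.map _
  have hS'V₁ : S' ≤ V₁ := by rw [hS']; exact Subgroup.map_subtype_le _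
  obtain ⟨O, hO⟩ : ∃ O : Subgroup G, O = (Cfsg.pResidual p ↥V₁).map V₁.subtype := ⟨_, rfl⟩
  have hOK : O ≤ K := by
    rw [hO, kfam_pResidual_map_le_iff]
    intro g hg hc
    exact hK g (hV₁E hg) hc
  have hOV₁ : O ≤ V₁ := by rw [hO]; exact Subgroup.map_subtype_le _
  have hsup : O ⊔ S' = V₁ := by
    have h := congrArg (Subgroup.map V₁.subtype) (pResidual_sup_sylow S)
    rw [Subgroup.map_sup, ← MonoidHom.range_eq_map, Subgroup.range_subtype] at h
    rw [hO, hS']; exact h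
  have hON : O ≤ Subgroup.normalizer ((S' ⊔ CE : Subgroup G) : Set G) := by
    apply qs_le_normalizer_sup ((hOV₁.trans hV₁E).trans hEC)
    exact (Subgroup.commutator_mono hOK hS'V₁).trans hKV₁
  have hSN : S' ≤ Subgroup.normalizer ((S' ⊔ CE : Subgroup G) : Set G) :=
    le_sup_left.trans Subgroup.le_normalizer
  have hV₁N : V₁ ≤ Subgroup.normalizer ((S' ⊔ CE : Subgroup G) : Set G) := by
    rw [← hsup]; exact sup_le hON hSN
  have hVle : V ≤ S' ⊔ CE := by
    have hYV₁ : ∀ i, Y i ≤ V₁ := fun i => by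
      have h0 : Y i ≤ V := by rw [hV]; exact le_iSup Y i
      exact h0.trans hVV₁
    rw [hV, hS']
    apply qs_iSup_le_sylow_sup Y hYp hYV₁ S
    rw [← hS']; exact hV₁N
  have hV₁le : V₁ ≤ S' ⊔ CE := by
    rw [hV₁]; exact sup_le hVle le_sup_right
  have hV₁C : V₁ ≤ C := by
    apply hred V₁ hV₁E hEV₁
    intro d hd
    obtain ⟨s, hs, hpow⟩ := pow_mem_sup_of_le_normalizer ((hS'V₁.trans hV₁E).trans hEC) (hV₁le hd)
    obtain ⟨k, hk⟩ := isPGroup_pow hS'p hs
    obtain ⟨c, hc, hdc⟩ := hpow (p ^ k)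
    refine ⟨k, ?_⟩
    rw [hdc, hk, one_mul]
    exact hCEC hc
  exact hVV₁.trans hV₁C

/-- the weak closure of a weakly closed `Q` in `E` centralizes `E ∩ C` modulo `O_p(E ∩ C)` when
`C` normalizes `Q` -/
theorem qs_wc_commutator_le {Q E C : Subgroup G} (hQp : IsPGroup p ↥Q)
    (hwc : Cfsg.IsWeaklyClosedSubgroup p Q) (hQE : Q ≤ E)
    (hEC : E ≤ Subgroup.normalizer ((E ⊓ C : Subgroup G) : Set G))
    (hCQ : C ≤ Subgroup.normalizer (Q : Set G)) :
    ⁅Cfsg.weakClosure Q E, E ⊓ C⁆ ≤ Cfsg.pCoreOf p (E ⊓ C) := by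
  obtain ⟨CE, hCE⟩ : ∃ CE : Subgroup G, CE = E ⊓ C := ⟨_, rfl⟩
  rw [← hCE] at hEC ⊢
  have hCEE : CE ≤ E := by rw [hCE]; exact inf_le_left
  have hCEC : CE ≤ C := by rw [hCE]; exact inf_le_right
  have hCEN : ∀ k ∈ E, CE ≤ Subgroup.normalizer ((cj(k, Q) : Subgroup G) : Set G) := by
    intro k hk c hc
    rw [normalizer_cj, mem_cj]
    apply hCQ
    apply hCEC
    have := (Subgroup.mem_normalizer_iff.mp (hEC (E.inv_mem hk)) c).mp hc
    simpa using this
  unfold Cfsg.weakClosure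
  apply commutator_iSup_le
  · have h1 : (⨆ g : {g : G // cj(g, Q) ≤ E}, cj((g : G), Q)) ≤ E := iSup_le fun g => g.2
    exact (h1.trans hEC).trans (normalizer_le_normalizer_pCoreOf CE)
  · rintro ⟨g, hg⟩ a ha c hc
    obtain ⟨k, hk, hgk⟩ := wc_conj_in_subgroup hQp hwc hQE hg
    have ha' : a ∈ cj(k, Q) := by rw [← hgk]; exact ha
    have hcN := hCEN k hk hc
    have haE : a ∈ E := hg ha
    obtain ⟨I, hI⟩ : ∃ I : Subgroup G, I = cj(k, Q) ⊓ CE := ⟨_, rfl⟩
    have hIP : I ≤ Cfsg.pCoreOf p CE := by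
      apply le_pCoreOf
      · rw [hI]; exact inf_le_right
      · rw [hI]; exact (isPGroup_cj hQp k).to_le inf_le_left
      · rw [hI]
        exact (le_inf (hCEN k hk) Subgroup.le_normalizer).trans
          Subgroup.inf_normalizer_le_normalizer_inf
    apply hIP
    rw [hI]
    refine ⟨?_, ?_⟩
    · have h1 : c * a⁻¹ * c⁻¹ ∈ cj(k, Q) :=
        (Subgroup.mem_normalizer_iff.mp hcN _).mp (Subgroup.inv_mem _ ha')
      have e : ⁅a, c⁆ = a * (c * a⁻¹ * c⁻¹) := by simp [commutatorElement_def, mul_assoc]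
      rw [e]; exact Subgroup.mul_mem _ ha' h1
    · have h1 : a * c * a⁻¹ ∈ CE := (Subgroup.mem_normalizer_iff.mp (hEC haE) _).mp hc
      have e : ⁅a, c⁆ = (a * c * a⁻¹) * c⁻¹ := by simp [commutatorElement_def, mul_assoc]
      rw [e]; exact CE.mul_mem h1 (CE.inv_mem hc)

/-- part (1): `O^p(E) C_E = O^p(E°) C_E` -/
theorem qs_residual_sup_eq {Q E C : Subgroup G} (hQp : IsPGroup p ↥Q) (hQE : Q ≤ E)
    (hEC : E ≤ Subgroup.normalizer ((E ⊓ C : Subgroup G) : Set G))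
    (hQC : ¬ Q ≤ C)
    (hred : ∀ D : Subgroup G, D ≤ E → E ≤ Subgroup.normalizer (D : Set G) →
      (∀ d ∈ D, ∃ k : ℕ, d ^ (p ^ k) ∈ C) → D ≤ C)
    {K : Subgroup G} (hK : K = (Cfsg.pResidual p ↥E).map E.subtype ⊔ (E ⊓ C))
    (q1 : K ≤ ⁅K, K⁆ ⊔ (E ⊓ C))
    (q3 : ∀ D : Subgroup G, D ≤ K → K ≤ Subgroup.normalizer (D : Set G) →
        ⁅D, K⁆ ≤ C ∨ K ≤ D ⊔ (E ⊓ C))
    {Er : Subgroup G}
    (hEr : Er = (Cfsg.pResidual p ↥(Cfsg.weakClosure Q E)).map (Cfsg.weakClosure Q E).subtype) :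
    (Cfsg.pResidual p ↥E).map E.subtype ⊔ (E ⊓ C) = Er ⊔ (E ⊓ C) := by
  have hEC0 := hEC
  obtain ⟨CE, hCE⟩ : ∃ CE : Subgroup G, CE = E ⊓ C := ⟨_, rfl⟩
  rw [← hCE] at hEC hK q1 q3 ⊢
  have hCEE : CE ≤ E := by rw [hCE]; exact inf_le_left
  have hCEC : CE ≤ C := by rw [hCE]; exact inf_le_right
  obtain ⟨W, hW⟩ : ∃ W : Subgroup G, W = Cfsg.weakClosure Q E := ⟨_, rfl⟩
  rw [← hW] at hEr
  have hWE : W ≤ E := by rw [hW]; exact weakClosure_le Q E
  have hQW : Q ≤ W := by rw [hW]; exact self_le_weakClosure hQE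
  have hEW : E ≤ Subgroup.normalizer (W : Set G) := by
    rw [hW]; exact Subgroup.le_normalizer.trans (wcf_normalizer_le_normalizer_weakClosure Q E)
  obtain ⟨R, hR⟩ : ∃ R : Subgroup G, R = (Cfsg.pResidual p ↥E).map E.subtype := ⟨_, rfl⟩
  rw [← hR] at hK ⊢
  have hRE : R ≤ E := by rw [hR]; exact Subgroup.map_subtype_le _
  have hER : E ≤ Subgroup.normalizer (R : Set G) := by
    rw [hR]; exact le_normalizer_pResidual_map E
  have hKE : K ≤ E := by rw [hK]; exact sup_le hRE hCEE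
  have hEK : E ≤ Subgroup.normalizer (K : Set G) := by
    rw [hK]
    exact (le_inf hER hEC).trans (Subgroup.normalizer_inf_normalizer_le_normalizer_sup _ _)
  have hCEK : CE ≤ K := by rw [hK]; exact le_sup_right
  have hRK : R ≤ K := by rw [hK]; exact le_sup_left
  have hpK : ∀ g ∈ E, (orderOf g).Coprime p → g ∈ K := by
    intro g hg hc
    apply hRK
    rw [hR]; exact kfam_mem_pResidual_map hg hc
  obtain ⟨W₁, hW₁⟩ : ∃ W₁ : Subgroup G, W₁ = W ⊔ CE := ⟨_, rfl⟩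
  have hW₁E : W₁ ≤ E := by rw [hW₁]; exact sup_le hWE hCEE
  have hEW₁ : E ≤ Subgroup.normalizer (W₁ : Set G) := by
    rw [hW₁]
    exact (le_inf hEW hEC).trans (Subgroup.normalizer_inf_normalizer_le_normalizer_sup _ _)
  have hEE : ⁅E, E⁆ ≤ E := wcf_commutator_le_left Subgroup.le_normalizer
  have h1a : K ≤ W₁ := by
    by_contra hcon
    obtain ⟨D, hD⟩ : ∃ D : Subgroup G, D = W₁ ⊓ K := ⟨_, rfl⟩
    have hDK : D ≤ K := by rw [hD]; exact inf_le_right
    have hDW₁ : D ≤ W₁ := by rw [hD]; exact inf_le_left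
    have hKD : K ≤ Subgroup.normalizer (D : Set G) := by
      rw [hD]
      exact (le_inf (hKE.trans hEW₁) Subgroup.le_normalizer).trans
        Subgroup.inf_normalizer_le_normalizer_inf
    rcases q3 D hDK hKD with h | h
    · have hDKCE : ⁅D, K⁆ ≤ CE := by
        rw [hCE]
        exact le_inf ((Subgroup.commutator_mono (hDK.trans hKE) hKE).trans hEE) h
      have hW₁K : ⁅W₁, K⁆ ≤ D := by
        rw [hD]
        exact le_inf (wcf_commutator_le_left (hKE.trans hEW₁))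
          (wcf_commutator_le_right (hW₁E.trans hEK))
      have h2 : ⁅⁅W₁, K⁆, K⁆ ≤ CE := (Subgroup.commutator_mono hW₁K le_rfl).trans hDKCE
      have h3 : ⁅⁅K, K⁆, W₁⁆ ≤ CE := by
        apply wcf_commutator_commutator_le_of_rotate_rel hKE hKE hW₁E hEC
        · rw [Subgroup.commutator_comm K W₁]; exact h2
        · exact h2
      have h4 : ⁅K, W₁⁆ ≤ CE := by
        refine (Subgroup.commutator_mono q1 le_rfl).trans ?_
        apply commutator_sup_le
        · exact (sup_le ((Subgroup.commutator_mono hKE hKE).trans hEE) hCEE).trans hEC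
        · exact h3
        · exact wcf_commutator_le_left (hW₁E.trans hEC)
      have h5 : ⁅K, W⁆ ≤ CE :=
        (Subgroup.commutator_mono le_rfl (by rw [hW₁]; exact le_sup_left)).trans h4
      have hWC : W ≤ C := by
        apply qs_nilp (E := E) (K := K)
          (fun g : {g : G // cj(g, Q) ≤ E} => cj((g : G), Q)) hred hEC0
        · intro g; exact isPGroup_cj hQp _
        · intro g; exact g.2
        · rw [hW]; rfl
        · exact hEW
        · exact hKE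
        · exact hpK
        · rw [← hCE]; exact h5
      exact hQC (hQW.trans hWC)
    · apply hcon
      exact h.trans (sup_le hDW₁ (by rw [hW₁]; exact le_sup_right))
  have hErW : Er ≤ W := by rw [hEr]; exact Subgroup.map_subtype_le _
  have hEEr : E ≤ Subgroup.normalizer (Er : Set G) := by
    rw [hEr]
    exact hEW.trans (normalizer_le_normalizer_map_of_characteristic W (Cfsg.pResidual p ↥W))
  have hErR : Er ≤ R := by rw [hEr, hR]; exact pResidual_map_mono hWE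
  obtain ⟨S⟩ : Nonempty (Sylow p ↥W) := inferInstance
  obtain ⟨S', hS'⟩ : ∃ S' : Subgroup G, S' = (S : Subgroup ↥W).map W.subtype := ⟨_, rfl⟩
  have hS'p : IsPGroup p ↥S' := by rw [hS']; exact S.isPGroup'.map _
  have hS'W : S' ≤ W := by rw [hS']; exact Subgroup.map_subtype_le _
  have hsup : Er ⊔ S' = W := by
    have h := congrArg (Subgroup.map W.subtype) (pResidual_sup_sylow S)
    rw [Subgroup.map_sup, ← MonoidHom.range_eq_map, Subgroup.range_subtype] at h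
    rw [hEr, hS']; exact h
  have hRle : R ≤ Er ⊔ CE := by
    rw [hR, kfam_pResidual_map_le_iff]
    intro g hg hc
    have h1 : g ∈ W₁ := h1a (hpK g hg hc)
    have h2 : W₁ ≤ S' ⊔ (Er ⊔ CE) := by
      rw [hW₁, ← hsup]
      exact sup_le (sup_le (le_sup_left.trans le_sup_right) le_sup_left)
        (le_sup_right.trans le_sup_right)
    refine mem_of_coprime_of_mem_sup_of_le_normalizer hS'p ?_ (h2 h1) hc
    exact ((hS'W.trans hWE).trans (le_inf hEEr hEC)).trans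
      (Subgroup.normalizer_inf_normalizer_le_normalizer_sup _ _)
  apply le_antisymm
  · exact sup_le hRle le_sup_right
  · exact sup_le (hErR.trans le_sup_left) le_sup_right

/-- part (2): `E_∘` is perfect and equals `O^p(E_∘)` -/
theorem qs_perfect {E W Er CE P₀ K : Subgroup G} {ι : Sort*} (Yw : ι → Subgroup G)
    (hYwp : ∀ i, IsPGroup p ↥(Yw i)) (hWgen : W = ⨆ i, Yw i)
    (hCEE : CE ≤ E) (hEC : E ≤ Subgroup.normalizer (CE : Set G))
    (hWE : W ≤ E)
    (hEr : Er = (Cfsg.pResidual p ↥W).map W.subtype)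
    (hEEr : E ≤ Subgroup.normalizer (Er : Set G))
    (hP₀p : IsPGroup p ↥P₀) (hEP₀ : E ≤ Subgroup.normalizer (P₀ : Set G))
    (hWCE : ⁅W, CE⁆ ≤ P₀)
    (hK : K = Er ⊔ CE) (q1 : K ≤ ⁅K, K⁆ ⊔ CE) :
    ⁅Er, Er⁆ = Er ∧ (Cfsg.pResidual p ↥Er).map Er.subtype = Er := by
  have hErW : Er ≤ W := by rw [hEr]; exact Subgroup.map_subtype_le _
  have hErE : Er ≤ E := hErW.trans hWE
  have hres : (Cfsg.pResidual p ↥Er).map Er.subtype = Er := by
    apply le_antisymm (Subgroup.map_subtype_le _)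
    conv_lhs => rw [hEr]
    rw [kfam_pResidual_map_le_iff]
    intro g hg hc
    have hgEr : g ∈ Er := by rw [hEr]; exact kfam_mem_pResidual_map hg hc
    exact kfam_mem_pResidual_map hgEr hc
  refine ⟨?_, hres⟩
  obtain ⟨F, hF⟩ : ∃ F : Subgroup G, F = ⁅Er, Er⁆ := ⟨_, rfl⟩
  rw [← hF]
  have hFEr : F ≤ Er := by rw [hF]; exact wcf_commutator_le_left Subgroup.le_normalizer
  have hEF : E ≤ Subgroup.normalizer (F : Set G) := by
    rw [hF]
    exact (le_inf hEEr hEEr).trans (normalizer_inf_normalizer_le_normalizer_commutator Er Er)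
  have hEFCE : E ≤ Subgroup.normalizer ((F ⊔ CE : Subgroup G) : Set G) :=
    (le_inf hEF hEC).trans (Subgroup.normalizer_inf_normalizer_le_normalizer_sup _ _)
  have hKE : K ≤ E := by rw [hK]; exact sup_le hErE hCEE
  have hErK : Er ≤ K := by rw [hK]; exact le_sup_left
  have hKK : ⁅K, K⁆ ≤ F ⊔ CE := by
    have h1 : ⁅K, Er⁆ ≤ F ⊔ CE := by
      conv_lhs => rw [hK]
      apply commutator_sup_le
      · rw [← hK]; exact hKE.trans hEFCE
      · rw [← hF]; exact le_sup_left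
      · exact (wcf_commutator_le_left (hErE.trans hEC)).trans le_sup_right
    have h2 : ⁅K, CE⁆ ≤ F ⊔ CE :=
      (wcf_commutator_le_right (hKE.trans hEC)).trans le_sup_right
    have h3 : ⁅Er ⊔ CE, K⁆ ≤ F ⊔ CE := by
      apply commutator_sup_le
      · rw [← hK]; exact hKE.trans hEFCE
      · rw [Subgroup.commutator_comm]; exact h1
      · rw [Subgroup.commutator_comm]; exact h2
    rw [← hK] at h3
    exact h3
  have ha0 : Er ≤ F ⊔ CE := hErK.trans (q1.trans (sup_le hKK le_sup_right))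
  have ha : Er ≤ F ⊔ (CE ⊓ Er) := by
    intro x hx
    obtain ⟨f, hf, hpow⟩ := pow_mem_sup_of_le_normalizer ((hFEr.trans hErE).trans hEC) (ha0 hx)
    obtain ⟨c, hc, hxc⟩ := hpow 1
    rw [pow_one, pow_one] at hxc
    have hcEr : c ∈ Er := by
      have : c = f⁻¹ * x := by rw [hxc]; group
      rw [this]; exact Er.mul_mem (Er.inv_mem (hFEr hf)) hx
    rw [hxc]
    exact Subgroup.mul_mem _ (Subgroup.mem_sup_left hf) (Subgroup.mem_sup_right ⟨hc, hcEr⟩)
  have hb : ⁅CE ⊓ Er, W⁆ ≤ P₀ ⊓ Er := by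
    apply le_inf
    · rw [Subgroup.commutator_comm]
      exact (Subgroup.commutator_mono le_rfl inf_le_left).trans hWCE
    · exact (Subgroup.commutator_mono inf_le_right le_rfl).trans
        (wcf_commutator_le_left (hWE.trans hEEr))
  obtain ⟨B, hB⟩ : ∃ B : Subgroup G, B = F ⊔ (P₀ ⊓ Er) := ⟨_, rfl⟩
  have hEB : E ≤ Subgroup.normalizer (B : Set G) := by
    rw [hB]
    refine (le_inf hEF ?_).trans (Subgroup.normalizer_inf_normalizer_le_normalizer_sup _ _)
    exact (le_inf hEP₀ hEEr).trans Subgroup.inf_normalizer_le_normalizer_inf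
  have hc : ⁅Er, W⁆ ≤ B := by
    refine (Subgroup.commutator_mono ha le_rfl).trans ?_
    apply commutator_sup_le
    · exact (sup_le (hFEr.trans hErE) (inf_le_left.trans hCEE)).trans hEB
    · exact (wcf_commutator_le_left (hWE.trans hEF)).trans (by rw [hB]; exact le_sup_left)
    · exact hb.trans (by rw [hB]; exact le_sup_right)
  obtain ⟨S⟩ : Nonempty (Sylow p ↥W) := inferInstance
  obtain ⟨S', hS'⟩ : ∃ S' : Subgroup G, S' = (S : Subgroup ↥W).map W.subtype := ⟨_, rfl⟩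
  have hS'p : IsPGroup p ↥S' := by rw [hS']; exact S.isPGroup'.map _
  have hS'W : S' ≤ W := by rw [hS']; exact Subgroup.map_subtype_le _
  have hsup : Er ⊔ S' = W := by
    have h := congrArg (Subgroup.map W.subtype) (pResidual_sup_sylow S)
    rw [Subgroup.map_sup, ← MonoidHom.range_eq_map, Subgroup.range_subtype] at h
    rw [hEr, hS']; exact h
  have hErN : Er ≤ Subgroup.normalizer ((S' ⊔ B : Subgroup G) : Set G) := by
    apply qs_le_normalizer_sup (hErE.trans hEB)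
    exact (Subgroup.commutator_mono le_rfl hS'W).trans hc
  have hWN : W ≤ Subgroup.normalizer ((S' ⊔ B : Subgroup G) : Set G) := by
    rw [← hsup]; exact sup_le hErN (le_sup_left.trans Subgroup.le_normalizer)
  have hd : W ≤ S' ⊔ B := by
    have hYW : ∀ i, Yw i ≤ W := fun i => by rw [hWgen]; exact le_iSup Yw i
    conv_lhs => rw [hWgen]
    rw [hS']
    apply qs_iSup_le_sylow_sup Yw hYwp hYW S
    rw [← hS']; exact hWN
  have he : Er ≤ B := by
    conv_lhs => rw [hEr]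
    rw [kfam_pResidual_map_le_iff]
    intro g hg hc
    exact mem_of_coprime_of_mem_sup_of_le_normalizer hS'p ((hS'W.trans hWE).trans hEB) (hd hg) hc
  have hg : Er ≤ F := by
    conv_lhs => rw [← hres]
    rw [kfam_pResidual_map_le_iff]
    intro g hg hc
    have h1 : g ∈ (P₀ ⊓ Er) ⊔ F := by
      rw [sup_comm, ← hB]; exact he hg
    exact mem_of_coprime_of_mem_sup_of_le_normalizer (hP₀p.to_le inf_le_left)
      ((inf_le_right.trans hErE).trans hEF) h1 hc
  exact le_antisymm hFEr hg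

/-- internal simplicity property of `E_∘` relative to `C ∩ E_∘` -/
theorem qs_r3 {E C Er CE K : Subgroup G}
    (hCE : CE = E ⊓ C) (hEC : E ≤ Subgroup.normalizer (CE : Set G))
    (hErE : Er ≤ E)
    (hK : K = Er ⊔ CE)
    (q3 : ∀ D : Subgroup G, D ≤ K → K ≤ Subgroup.normalizer (D : Set G) →
        ⁅D, K⁆ ≤ C ∨ K ≤ D ⊔ CE) :
    ∀ D : Subgroup G, D ≤ Er → Er ≤ Subgroup.normalizer (D : Set G) →
      ⁅D, Er⁆ ≤ C ⊓ Er ∨ Er ≤ D ⊔ (C ⊓ Er) := by
  intro D hDEr hErD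
  have hCEE : CE ≤ E := by rw [hCE]; exact inf_le_left
  have hCEC : CE ≤ C := by rw [hCE]; exact inf_le_right
  have hErK : Er ≤ K := by rw [hK]; exact le_sup_left
  have hCEK : CE ≤ K := by rw [hK]; exact le_sup_right
  have hDK' : D ⊔ CE ≤ K := sup_le (hDEr.trans hErK) hCEK
  have hKN : K ≤ Subgroup.normalizer ((D ⊔ CE : Subgroup G) : Set G) := by
    rw [hK]
    apply sup_le
    · exact (le_inf hErD (hErE.trans hEC)).trans
        (Subgroup.normalizer_inf_normalizer_le_normalizer_sup _ _)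
    · exact le_sup_right.trans Subgroup.le_normalizer
  rcases q3 (D ⊔ CE) hDK' hKN with h | h
  · left
    apply le_inf
    · exact (Subgroup.commutator_mono le_sup_left hErK).trans h
    · exact wcf_commutator_le_right (hDEr.trans Subgroup.le_normalizer)
  · right
    rw [sup_assoc, sup_idem] at h
    intro x hx
    obtain ⟨d, hd, hpow⟩ :=
      pow_mem_sup_of_le_normalizer ((hDEr.trans hErE).trans hEC) (h (hErK hx))
    obtain ⟨c, hc, hxc⟩ := hpow 1
    rw [pow_one, pow_one] at hxc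
    have hcEr : c ∈ Er := by
      have : c = d⁻¹ * x := by rw [hxc]; group
      rw [this]; exact Er.mul_mem (Er.inv_mem (hDEr hd)) hx
    rw [hxc]
    exact Subgroup.mul_mem _ (Subgroup.mem_sup_left hd) (Subgroup.mem_sup_right ⟨hCEC hc, hcEr⟩)

/-- part (3a): `E_∘ / C_{E_∘}` is quasisimple -/
theorem qs_quot_centralizer {E C Er CE K : Subgroup G} [hn2 : (C.subgroupOf Er).Normal]
    (hCE : CE = E ⊓ C) (hK : K = Er ⊔ CE) (q2 : ¬ K ≤ C)
    (hperf : ⁅Er, Er⁆ = Er)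
    (r3 : ∀ D : Subgroup G, D ≤ Er → Er ≤ Subgroup.normalizer (D : Set G) →
      ⁅D, Er⁆ ≤ C ⊓ Er ∨ Er ≤ D ⊔ (C ⊓ Er)) :
    Cfsg.IsQuasisimple (↥Er ⧸ C.subgroupOf Er) := by
  have hmap : (C.subgroupOf Er).map Er.subtype = C ⊓ Er := Subgroup.subgroupOf_map_subtype _ _
  apply qs_quotient_of_internal (C.subgroupOf Er) hperf
  · rw [hmap]
    intro h
    apply q2
    rw [hK]
    exact sup_le (h.trans inf_le_left) (by rw [hCE]; exact inf_le_right)
  · rw [hmap]; exact r3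

theorem qs_beta {E C Er CE P₀ W : Subgroup G}
    (hCE : CE = E ⊓ C) (hErE : Er ≤ E) (hErW : Er ≤ W) (hWCE : ⁅W, CE⁆ ≤ P₀) :
    ⁅C ⊓ Er, Er⁆ ≤ P₀ ⊓ Er := by
  apply le_inf
  · have h2 : C ⊓ Er ≤ CE := by rw [hCE]; exact le_inf (inf_le_right.trans hErE) inf_le_left
    rw [Subgroup.commutator_comm]
    exact (Subgroup.commutator_mono hErW h2).trans hWCE
  · exact wcf_commutator_le_right (inf_le_right.trans Subgroup.le_normalizer)

/-- part (3b): `E_∘ / O_p(E_∘)` is quasisimple -/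
theorem qs_quot_pCore {E C Er CE P₀ K W : Subgroup G}
    (hCE : CE = E ⊓ C) (hK : K = Er ⊔ CE) (q2 : ¬ K ≤ C)
    (hErE : Er ≤ E) (hErW : Er ≤ W)
    (hP₀p : IsPGroup p ↥P₀) (hEP₀ : E ≤ Subgroup.normalizer (P₀ : Set G))
    (hWCE : ⁅W, CE⁆ ≤ P₀)
    (hperf : ⁅Er, Er⁆ = Er) (hres : (Cfsg.pResidual p ↥Er).map Er.subtype = Er)
    (r3 : ∀ D : Subgroup G, D ≤ Er → Er ≤ Subgroup.normalizer (D : Set G) →
      ⁅D, Er⁆ ≤ C ⊓ Er ∨ Er ≤ D ⊔ (C ⊓ Er)) :
    Cfsg.IsQuasisimple (↥Er ⧸ Cfsg.pCore p ↥Er) := by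
  have hCEC : CE ≤ C := by rw [hCE]; exact inf_le_right
  obtain ⟨P₁, hP₁⟩ : ∃ P₁ : Subgroup G, P₁ = Cfsg.pCoreOf p Er := ⟨_, rfl⟩
  have hmap : (Cfsg.pCore p ↥Er).map Er.subtype = P₁ := by rw [hP₁]; rfl
  have hP₁p : IsPGroup p ↥P₁ := by rw [hP₁]; exact pCoreOf_isPGroup Er
  have hErP₁ : Er ≤ Subgroup.normalizer (P₁ : Set G) := by
    rw [hP₁]; exact le_normalizer_pCoreOf Er
  have hβ : ⁅C ⊓ Er, Er⁆ ≤ P₁ := by
    refine (qs_beta hCE hErE hErW hWCE).trans ?_
    rw [hP₁]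
    apply le_pCoreOf inf_le_right (hP₀p.to_le inf_le_left)
    exact (le_inf (hErE.trans hEP₀) Subgroup.le_normalizer).trans
      Subgroup.inf_normalizer_le_normalizer_inf
  apply qs_quotient_of_internal (Cfsg.pCore p ↥Er) hperf
  · rw [hmap]
    intro h
    have hErp : IsPGroup p ↥Er := hP₁p.to_le h
    have hbot : Er ≤ ⊥ := by
      conv_lhs => rw [← hres]
      rw [kfam_pResidual_map_le_iff]
      intro g hg hc
      rw [Subgroup.mem_bot]
      obtain ⟨k, hk⟩ := isPGroup_pow hErp hg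
      have h1 : orderOf g ∣ p ^ k := orderOf_dvd_of_pow_eq_one hk
      have h2 : (orderOf g).Coprime (p ^ k) := Nat.Coprime.pow_right k hc
      exact orderOf_eq_one_iff.mp (h2.eq_one_of_dvd h1)
    apply q2
    rw [hK]
    exact sup_le (hbot.trans bot_le) hCEC
  · rw [hmap]
    intro D hDEr hErD
    rcases r3 D hDEr hErD with h | h
    · left
      have h2 : ⁅⁅D, Er⁆, Er⁆ ≤ P₁ := (Subgroup.commutator_mono h le_rfl).trans hβ
      have h3 : ⁅⁅Er, Er⁆, D⁆ ≤ P₁ := by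
        apply wcf_commutator_commutator_le_of_rotate_rel (M := Er) le_rfl le_rfl hDEr hErP₁
        · rw [Subgroup.commutator_comm Er D]; exact h2
        · exact h2
      rw [hperf] at h3
      rw [Subgroup.commutator_comm]; exact h3
    · right
      have h4 : ⁅D ⊔ (C ⊓ Er), Er⁆ ≤ D ⊔ P₁ := by
        apply commutator_sup_le
        · exact (sup_le hDEr inf_le_right).trans ((le_inf hErD hErP₁).trans
            (Subgroup.normalizer_inf_normalizer_le_normalizer_sup _ _))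
        · exact (wcf_commutator_le_left hErD).trans le_sup_left
        · exact hβ.trans le_sup_right
      calc Er = ⁅Er, Er⁆ := hperf.symm
        _ ≤ ⁅D ⊔ (C ⊓ Er), Er⁆ := Subgroup.commutator_mono h le_rfl
        _ ≤ D ⊔ P₁ := h4

/-- part (4): `E_∘ = [E_∘, Y]` for `p`-subgroups `Y` of `E` not in `C` -/
theorem qs_commutator_eq {E C Er CE P₀ K W : Subgroup G}
    (hred : ∀ D : Subgroup G, D ≤ E → E ≤ Subgroup.normalizer (D : Set G) →
      (∀ d ∈ D, ∃ k : ℕ, d ^ (p ^ k) ∈ C) → D ≤ C)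
    (hCE : CE = E ⊓ C) (hEC : E ≤ Subgroup.normalizer (CE : Set G))
    (hK : K = Er ⊔ CE)
    (hpK : ∀ g ∈ E, (orderOf g).Coprime p → g ∈ K)
    (hErE : Er ≤ E) (hErW : Er ≤ W) (hEEr : E ≤ Subgroup.normalizer (Er : Set G))
    (hP₀p : IsPGroup p ↥P₀) (hEP₀ : E ≤ Subgroup.normalizer (P₀ : Set G))
    (hWCE : ⁅W, CE⁆ ≤ P₀)
    (hperf : ⁅Er, Er⁆ = Er) (hres : (Cfsg.pResidual p ↥Er).map Er.subtype = Er)
    (r3 : ∀ D : Subgroup G, D ≤ Er → Er ≤ Subgroup.normalizer (D : Set G) →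
      ⁅D, Er⁆ ≤ C ⊓ Er ∨ Er ≤ D ⊔ (C ⊓ Er))
    {Y : Subgroup G} (hYE : Y ≤ E) (hYp : IsPGroup p ↥Y) (hYC : ¬ Y ≤ C) : ⁅Er, Y⁆ = Er := by
  have hCEE : CE ≤ E := by rw [hCE]; exact inf_le_left
  have hCEC : CE ≤ C := by rw [hCE]; exact inf_le_right
  have hKE : K ≤ E := by rw [hK]; exact sup_le hErE hCEE
  obtain ⟨F, hF⟩ : ∃ F : Subgroup G, F = ⁅Er, Y⁆ := ⟨_, rfl⟩
  rw [← hF]
  have hFEr : F ≤ Er := by rw [hF]; exact wcf_commutator_le_left (hYE.trans hEEr)
  have hErF : Er ≤ Subgroup.normalizer (F : Set G) := by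
    rw [hF]; exact le_normalizer_commutator_left Er Y
  have hβ : ⁅C ⊓ Er, Er⁆ ≤ P₀ ⊓ Er := qs_beta hCE hErE hErW hWCE
  have hcjE : ∀ e : ↥E, cj((e : G), Y) ≤ E := by
    rintro e _ ⟨y, hy, rfl⟩
    show (e : G) * y * (e : G)⁻¹ ∈ E
    exact E.mul_mem (E.mul_mem e.2 (hYE hy)) (E.inv_mem e.2)
  apply le_antisymm hFEr
  rcases r3 F hFEr hErF with h | h
  · exfalso
    have h1 : ⁅⁅Er, Y⁆, Er⁆ ≤ CE := by
      rw [← hF, hCE]
      exact le_inf (h.trans (inf_le_right.trans hErE)) (h.trans inf_le_left)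
    have h2 : ⁅⁅Er, Er⁆, Y⁆ ≤ CE := by
      apply wcf_commutator_commutator_le_of_rotate_rel hErE hErE hYE hEC
      · exact h1
      · rw [Subgroup.commutator_comm Y Er]; exact h1
    rw [hperf] at h2
    have hKV : ⁅K, ⨆ e : ↥E, cj((e : G), Y)⁆ ≤ E ⊓ C := by
      rw [Subgroup.commutator_comm, ← hCE]
      apply commutator_iSup_le
      · exact (iSup_le hcjE).trans hEC
      · intro e a ha c hc
        have h3 : ⁅cj((e : G), Y), K⁆ ≤ CE := by
          rw [Subgroup.commutator_comm, hK]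
          apply commutator_sup_le
          · rw [← hK]; exact hKE.trans hEC
          · have h4 : cj((e : G), ⁅Er, Y⁆) = ⁅Er, cj((e : G), Y)⁆ := by
              rw [Subgroup.map_commutator, cj_eq_self_iff.mpr (hEEr e.2)]
            rw [← h4]
            calc cj((e : G), ⁅Er, Y⁆) ≤ cj((e : G), CE) := cj_mono h2
              _ = CE := cj_eq_self_iff.mpr (hEC e.2)
          · exact wcf_commutator_le_left ((hcjE e).trans hEC)
        exact h3 (Subgroup.commutator_mem_commutator ha hc)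
    have hVC := qs_nilp (E := E) (K := K) (fun e : ↥E => cj((e : G), Y)) hred
      (by rw [← hCE]; exact hEC) (fun e => isPGroup_cj hYp _) hcjE rfl
      (le_normalizer_iSup_cj E Y) hKE hpK hKV
    apply hYC
    have h5 : Y ≤ ⨆ e : ↥E, cj((e : G), Y) := by
      have h := le_iSup (fun e : ↥E => cj((e : G), Y)) (1 : ↥E)
      have e1 : cj(((1 : ↥E) : G), Y) = Y := by
        have e0 : ((1 : ↥E) : G) = 1 := rfl
        rw [e0]; exact cj_one Y
      calc Y = cj(((1 : ↥E) : G), Y) := e1.symm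
        _ ≤ _ := h
    exact h5.trans hVC
  · have h4 : ⁅F ⊔ (C ⊓ Er), Er⁆ ≤ F ⊔ (P₀ ⊓ Er) := by
      apply commutator_sup_le
      · refine (sup_le hFEr inf_le_right).trans ((le_inf hErF ?_).trans
          (Subgroup.normalizer_inf_normalizer_le_normalizer_sup _ _))
        exact (le_inf (hErE.trans hEP₀) Subgroup.le_normalizer).trans
          Subgroup.inf_normalizer_le_normalizer_inf
      · exact (wcf_commutator_le_left hErF).trans le_sup_left
      · exact hβ.trans le_sup_right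
    have h5 : Er ≤ F ⊔ (P₀ ⊓ Er) := by
      calc Er = ⁅Er, Er⁆ := hperf.symm
        _ ≤ ⁅F ⊔ (C ⊓ Er), Er⁆ := Subgroup.commutator_mono h le_rfl
        _ ≤ _ := h4
    conv_lhs => rw [← hres]
    rw [kfam_pResidual_map_le_iff]
    intro g hg hc
    have h6 : g ∈ (P₀ ⊓ Er) ⊔ F := by rw [sup_comm]; exact h5 hg
    exact mem_of_coprime_of_mem_sup_of_le_normalizer (hP₀p.to_le inf_le_left)
      (inf_le_right.trans hErF) h6 hc

/-- quasisimple sections: all parts together, for a subgroup `C` normalized by `E`, normalizing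
`Q` and not containing `Q` -/
theorem qs_main {Q E C Er : Subgroup G} (hQp : IsPGroup p ↥Q)
    (hwc : Cfsg.IsWeaklyClosedSubgroup p Q) (hQE : Q ≤ E)
    (hECn : E ≤ Subgroup.normalizer (C : Set G))
    (hCQ : C ≤ Subgroup.normalizer (Q : Set G)) (hQC : ¬ Q ≤ C)
    [hn : (C.subgroupOf E).Normal]
    (hred : Cfsg.pCore p (↥E ⧸ C.subgroupOf E) = ⊥)
    (hqs : Cfsg.IsQuasisimple ↥(((Cfsg.pResidual p ↥E) ⊔ C.subgroupOf E).map
      (QuotientGroup.mk' (C.subgroupOf E))))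
    (hEr : Er = (Cfsg.pResidual p ↥(Cfsg.weakClosure Q E)).map (Cfsg.weakClosure Q E).subtype)
    [hn2 : (C.subgroupOf Er).Normal] :
    (Cfsg.pResidual p ↥E).map E.subtype ⊔ (E ⊓ C) = Er ⊔ (E ⊓ C) ∧ ⁅Er, Er⁆ = Er ∧
      (Cfsg.pResidual p ↥Er).map Er.subtype = Er ∧
      Cfsg.IsQuasisimple (↥Er ⧸ C.subgroupOf Er) ∧
      Cfsg.IsQuasisimple (↥Er ⧸ Cfsg.pCore p ↥Er) ∧
      ∀ Y : Subgroup G, Y ≤ E → IsPGroup p ↥Y → ¬ Y ≤ C → ⁅Er, Y⁆ = Er := by
  have hEC : E ≤ Subgroup.normalizer ((E ⊓ C : Subgroup G) : Set G) :=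
    (le_inf Subgroup.le_normalizer hECn).trans Subgroup.inf_normalizer_le_normalizer_inf
  have hredI : ∀ D : Subgroup G, D ≤ E → E ≤ Subgroup.normalizer (D : Set G) →
      (∀ d ∈ D, ∃ k : ℕ, d ^ (p ^ k) ∈ C) → D ≤ C :=
    fun D hDE hED hpow => qs_red_internal hred hDE hED hpow
  obtain ⟨K₀, hK₀⟩ : ∃ K₀ : Subgroup G,
    K₀ = (Cfsg.pResidual p ↥E).map E.subtype ⊔ (E ⊓ C) := ⟨_, rfl⟩
  obtain ⟨q1, q2, q3⟩ := qs_hyp_internal hqs hK₀
  have hpart1 := qs_residual_sup_eq hQp hQE hEC hQC hredI hK₀ q1 q3 hEr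
  have hpK : ∀ g ∈ E, (orderOf g).Coprime p → g ∈ K₀ := by
    intro g hg hc
    rw [hK₀]; exact Subgroup.mem_sup_left (kfam_mem_pResidual_map hg hc)
  have hWCE := qs_wc_commutator_le hQp hwc hQE hEC hCQ
  obtain ⟨CE, hCE⟩ : ∃ CE : Subgroup G, CE = E ⊓ C := ⟨_, rfl⟩
  rw [← hCE] at hEC q1 q3 hpart1 hWCE hK₀ ⊢
  rw [hpart1] at hK₀
  obtain ⟨W, hW⟩ : ∃ W : Subgroup G, W = Cfsg.weakClosure Q E := ⟨_, rfl⟩
  rw [← hW] at hEr hWCE
  have hWE : W ≤ E := by rw [hW]; exact weakClosure_le Q E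
  have hEW : E ≤ Subgroup.normalizer (W : Set G) := by
    rw [hW]; exact Subgroup.le_normalizer.trans (wcf_normalizer_le_normalizer_weakClosure Q E)
  have hErW : Er ≤ W := by rw [hEr]; exact Subgroup.map_subtype_le _
  have hErE : Er ≤ E := hErW.trans hWE
  have hEEr : E ≤ Subgroup.normalizer (Er : Set G) := by
    rw [hEr]
    exact hEW.trans (normalizer_le_normalizer_map_of_characteristic W (Cfsg.pResidual p ↥W))
  have hCEE : CE ≤ E := by rw [hCE]; exact inf_le_left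
  have hP₀p : IsPGroup p ↥(Cfsg.pCoreOf p CE) := pCoreOf_isPGroup CE
  have hEP₀ : E ≤ Subgroup.normalizer ((Cfsg.pCoreOf p CE : Subgroup G) : Set G) :=
    hEC.trans (normalizer_le_normalizer_pCoreOf CE)
  obtain ⟨hperf, hres⟩ := qs_perfect (fun g : {g : G // cj(g, Q) ≤ E} => cj((g : G), Q))
    (fun g => isPGroup_cj hQp _) (by rw [hW]; rfl) hCEE hEC hWE hEr hEEr hP₀p hEP₀ hWCE hK₀ q1
  have r3 := qs_r3 hCE hEC hErE hK₀ q3
  refine ⟨hpart1, hperf, hres, ?_, ?_, ?_⟩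
  · exact qs_quot_centralizer hCE hK₀ q2 hperf r3
  · exact qs_quot_pCore hCE hK₀ q2 hErE hErW hP₀p hEP₀ hWCE hperf hres r3
  · intro Y hYE hYp hYC
    exact qs_commutator_eq hredI hCE hEC hK₀ hpK hErE hErW hEEr hP₀p hEP₀ hWCE hperf hres r3
      hYE hYp hYC

end qs2

end Cfsg.Agent.Helper47
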