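import Cfsg.Agent.Helper47.Basic

set_option autoImplicit false

namespace Cfsg.Agent.Helper47

open scoped commutatorElement Pointwise

section quot

variable {G G' : Type*} [Group G] [Group G']

theorem isCoatom_map_of_surjective {f : G →* G'} (hf : Function.Surjective f) {M : Subgroup G}
    (hker : f.ker ≤ M) (hM : IsCoatom M) : IsCoatom (M.map f) := by
  refine ⟨fun htop => hM.1 ?_, fun K hK => ?_⟩
  · have := congrArg (Subgroup.comap f) htop
    rwa [Subgroup.comap_map_eq_self hker, Subgroup.comap_top] at this
  · have hle : M ≤ K.comap f := by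
      rw [← Subgroup.comap_map_eq_self hker]
      exact Subgroup.comap_mono hK.le
    rcases eq_or_lt_of_le hle with heq | hlt
    · exfalso
      have := congrArg (Subgroup.map f) heq
      rw [Subgroup.map_comap_eq_self_of_surjective hf] at this
      exact hK.ne this
    · have := hM.2 _ hlt
      have h2 := congrArg (Subgroup.map f) this
      rwa [Subgroup.map_comap_eq_self_of_surjective hf, Subgroup.map_top_of_surjective f hf] at h2

theorem isCoatom_comap_of_surjective {f : G →* G'} (hf : Function.Surjective f) {K : Subgroup G'}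
    (hK : IsCoatom K) : IsCoatom (K.comap f) := by
  refine ⟨fun htop => hK.1 ?_, fun K' hK' => ?_⟩
  · have := congrArg (Subgroup.map f) htop
    rwa [Subgroup.map_comap_eq_self_of_surjective hf, Subgroup.map_top_of_surjective f hf] at this
  · have hker : f.ker ≤ K' := (Subgroup.ker_le_comap f K).trans hK'.le
    have hle : K ≤ K'.map f := by
      rw [← Subgroup.map_comap_eq_self_of_surjective hf K]
      exact Subgroup.map_mono hK'.le
    rcases eq_or_lt_of_le hle with heq | hlt
    · exfalso
      have := congrArg (Subgroup.comap f) heq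
      rw [Subgroup.comap_map_eq_self hker] at this
      exact hK'.ne this
    · have := hK.2 _ hlt
      have h2 := congrArg (Subgroup.comap f) this
      rwa [Subgroup.comap_map_eq_self hker, Subgroup.comap_top] at h2

/-- if `G = N T` with `T` a `p`-group then `G / N` is a `p`-group -/
theorem quotient_isPGroup_of_sup_eq_top {p : ℕ} {N T : Subgroup G} [N.Normal]
    (hT : IsPGroup p ↥T) (h : N ⊔ T = ⊤) : IsPGroup p (G ⧸ N) := by
  intro q
  obtain ⟨g, rfl⟩ := QuotientGroup.mk_surjective q
  have hg : g ∈ ((N ⊔ T : Subgroup G) : Set G) := by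
    rw [h]; exact Subgroup.mem_top g
  rw [Subgroup.normal_mul] at hg
  obtain ⟨n, hn, t, ht, rfl⟩ := Set.mem_mul.mp hg
  obtain ⟨k, hk⟩ := isPGroup_pow hT ht
  refine ⟨k, ?_⟩
  have h1 : ((n * t : G) : G ⧸ N) = (t : G ⧸ N) := by
    rw [QuotientGroup.mk_mul, (QuotientGroup.eq_one_iff n).mpr hn, one_mul]
  rw [h1, ← QuotientGroup.mk_pow, hk]
  rfl

end quot

end Cfsg.Agent.Helper47
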