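import Mathlib

/-!
# CALL SL2L (helper2), piece G6 (helper47, double): bilinearity of the commutator in class 2.
-/

set_option autoImplicit false

namespace Cfsg.Agent.Helper47

open Subgroup

universe u

variable {Γ : Type u} [Group Γ] [Finite Γ]

/-- `[x ^ n, y] = [x, y] ^ n` when commutators of `P` are central in `P`. -/
theorem sl2l_bilin_left47 {P Z : Subgroup Γ} (hZcen : ∀ z ∈ Z, ∀ a ∈ P, z * a = a * z)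
    (hcomm : ∀ a ∈ P, ∀ b ∈ P, a * b * a⁻¹ * b⁻¹ ∈ Z) {x y : Γ} (hx : x ∈ P) (hy : y ∈ P)
    (n : ℕ) : x ^ n * y * (x ^ n)⁻¹ * y⁻¹ = (x * y * x⁻¹ * y⁻¹) ^ n := by
  induction n with
  | zero => simp
  | succ n ih =>
    have e : x ^ (n + 1) * y * (x ^ (n + 1))⁻¹ * y⁻¹ =
        x * (x ^ n * y * (x ^ n)⁻¹ * y⁻¹) * (y * x⁻¹ * y⁻¹) := by
      rw [pow_succ']
      group
    have hc := hZcen ((x * y * x⁻¹ * y⁻¹) ^ n) (pow_mem (hcomm x hx y hy) n) x hx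
    rw [e, ih, ← hc, pow_succ]
    group

/-- `[x, y ^ n] = [x, y] ^ n` when commutators of `P` are central in `P`. -/
theorem sl2l_bilin_right47 {P Z : Subgroup Γ} (hZcen : ∀ z ∈ Z, ∀ a ∈ P, z * a = a * z)
    (hcomm : ∀ a ∈ P, ∀ b ∈ P, a * b * a⁻¹ * b⁻¹ ∈ Z) {x y : Γ} (hx : x ∈ P) (hy : y ∈ P)
    (n : ℕ) : x * y ^ n * x⁻¹ * (y ^ n)⁻¹ = (x * y * x⁻¹ * y⁻¹) ^ n := by
  have e : x * y ^ n * x⁻¹ * (y ^ n)⁻¹ = (y ^ n * x * (y ^ n)⁻¹ * x⁻¹)⁻¹ := by group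
  have e2 : (y * x * y⁻¹ * x⁻¹)⁻¹ = x * y * x⁻¹ * y⁻¹ := by group
  rw [e, sl2l_bilin_left47 hZcen hcomm hy hx n, ← inv_pow, e2]

theorem sl2l_bilin {P Z : Subgroup Γ} (hZP : Z ≤ P) (hZcen : ∀ z ∈ Z, ∀ a ∈ P, z * a = a * z)
    (hcomm : ∀ a ∈ P, ∀ b ∈ P, a * b * a⁻¹ * b⁻¹ ∈ Z) {a b z z' : Γ} (ha : a ∈ P) (hb : b ∈ P)
    (hz : z ∈ Z) (hz' : z' ∈ Z) (i j : ℕ) :
    (a ^ i * z) * (b ^ j * z') * (a ^ i * z)⁻¹ * (b ^ j * z')⁻¹ =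
      (a * b * a⁻¹ * b⁻¹) ^ (i * j) := by
  have hX : a ^ i ∈ P := pow_mem ha i
  have hY : b ^ j ∈ P := pow_mem hb j
  have h1 : z * (b ^ j * z') = (b ^ j * z') * z := hZcen z hz _ (mul_mem hY (hZP hz'))
  have h2 : z' * (a ^ i)⁻¹ = (a ^ i)⁻¹ * z' := hZcen z' hz' _ (inv_mem hX)
  have hdrop : (a ^ i * z) * (b ^ j * z') * (a ^ i * z)⁻¹ * (b ^ j * z')⁻¹ =
      a ^ i * b ^ j * (a ^ i)⁻¹ * (b ^ j)⁻¹ := by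
    calc (a ^ i * z) * (b ^ j * z') * (a ^ i * z)⁻¹ * (b ^ j * z')⁻¹
        = a ^ i * (z * (b ^ j * z')) * z⁻¹ * (a ^ i)⁻¹ * (z'⁻¹ * (b ^ j)⁻¹) := by group
      _ = a ^ i * ((b ^ j * z') * z) * z⁻¹ * (a ^ i)⁻¹ * (z'⁻¹ * (b ^ j)⁻¹) := by rw [h1]
      _ = a ^ i * b ^ j * (z' * (a ^ i)⁻¹) * z'⁻¹ * (b ^ j)⁻¹ := by group
      _ = a ^ i * b ^ j * ((a ^ i)⁻¹ * z') * z'⁻¹ * (b ^ j)⁻¹ := by rw [h2]
      _ = a ^ i * b ^ j * (a ^ i)⁻¹ * (b ^ j)⁻¹ := by group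
  rw [hdrop, sl2l_bilin_right47 hZcen hcomm hX hb j, sl2l_bilin_left47 hZcen hcomm ha hb i,
    ← pow_mul]

end Cfsg.Agent.Helper47
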