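import Cfsg.Agent.Helper47.WC2

set_option autoImplicit false

namespace Cfsg.Agent.Helper47

open scoped commutatorElement Pointwise

local notation "cj(" g "," Q ")" => Subgroup.map (MulEquiv.toMonoidHom (MulAut.conj g)) Q

section sn

variable {G : Type*} [Group G]

/-- finite intersections of subnormal subgroups are subnormal -/
theorem isSubnormal_sInf [Finite G] (S : Set (Subgroup G)) (h : ∀ K ∈ S, K.IsSubnormal) :
    (sInf S).IsSubnormal := by
  have hfin : S.Finite := Set.toFinite S
  induction S, hfin using Set.Finite.induction_on with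
  | empty => simp
  | insert _ _ ih =>
    rw [sInf_insert]
    exact (h _ (Set.mem_insert _ _)).inf (ih fun K hK => h K (Set.mem_insert_of_mem _ hK))

theorem subnormalClosure_isSubnormal [Finite G] (A : Subgroup G) :
    (Cfsg.subnormalClosure A).IsSubnormal :=
  isSubnormal_sInf _ fun _ hK => hK.2

theorem le_subnormalClosure (A : Subgroup G) : A ≤ Cfsg.subnormalClosure A :=
  le_sInf fun _ hK => hK.1

theorem subnormalClosure_le {A K : Subgroup G} (hAK : A ≤ K) (hK : K.IsSubnormal) :
    Cfsg.subnormalClosure A ≤ K :=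
  sInf_le ⟨hAK, hK⟩

/-- in a finite nilpotent group every subgroup is subnormal -/
theorem isSubnormal_of_isNilpotent [Finite G] [Group.IsNilpotent G] (A : Subgroup G) :
    A.IsSubnormal := by
  have hnc : NormalizerCondition G := Group.normalizerCondition_of_isNilpotent
  induction A using WellFoundedGT.induction with
  | ind A ih =>
    by_cases hA : A = ⊤
    · rw [hA]; exact Subgroup.IsSubnormal.top
    · have hlt : A < Subgroup.normalizer (A : Set G) := hnc A (lt_top_iff_ne_top.mpr hA)
      exact Subgroup.IsSubnormal.step A _ hlt.le (ih _ hlt) inferInstance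

variable [Finite G] {p : ℕ} [hp : Fact p.Prime]

/-- a weakly closed subgroup of `G` is a weakly closed subgroup of every subgroup containing it -/
theorem wc_subgroupOf {Q : Subgroup G} (hQp : IsPGroup p ↥Q)
    (hwc : Cfsg.IsWeaklyClosedSubgroup p Q) {K : Subgroup G} (hQK : Q ≤ K) :
    Cfsg.IsWeaklyClosedSubgroup p (Q.subgroupOf K) := by
  obtain ⟨TK, hTK⟩ := (hQp.comap_subtype (K := K)).exists_le_sylow
  have hQR : Q ≤ (TK : Subgroup ↥K).map K.subtype := by
    intro x hx
    exact ⟨⟨x, hQK hx⟩, hTK (Subgroup.mem_comap.mpr hx), rfl⟩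
  have hRp : IsPGroup p ↥((TK : Subgroup ↥K).map K.subtype) := TK.isPGroup'.map _
  refine ⟨TK, hTK, fun k hk => ?_⟩
  have h1 : cj((k : G), Q) ≤ (TK : Subgroup ↥K).map K.subtype := by
    intro x hx
    have hxK : x ∈ K := by
      rw [mem_cj] at hx
      have := K.mul_mem (K.mul_mem k.2 (hQK hx)) (K.inv_mem k.2)
      have e : (k : G) * ((k : G)⁻¹ * x * k) * (k : G)⁻¹ = x := by group
      rwa [e] at this
    exact ⟨⟨x, hxK⟩, hk ((mem_cj_subgroupOf k ⟨x, hxK⟩).mpr hx), rfl⟩
  have h2 := wc_of_le_pgroup hwc hRp hQR h1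
  ext x
  rw [mem_cj_subgroupOf, h2, Subgroup.mem_subgroupOf]

/-- a subnormal subgroup containing a weakly closed `p`-subgroup contains all its conjugates -/
theorem wc_conj_le_of_isSubnormal {Q : Subgroup G} (hQp : IsPGroup p ↥Q)
    (hwc : Cfsg.IsWeaklyClosedSubgroup p Q) {S : Subgroup G} (hS : S.IsSubnormal) (hQS : Q ≤ S)
    (g : G) : cj(g, Q) ≤ S := by
  induction hS with
  | top => exact le_top
  | step S S1 hle hS1 hN ih =>
    obtain ⟨s, hs, hsQ⟩ := wc_conj_in_subgroup hQp hwc (hQS.trans hle) (ih (hQS.trans hle))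
    rw [hsQ]
    have hn : S1 ≤ Subgroup.normalizer (S : Set G) :=
      (Subgroup.normal_subgroupOf_iff_le_normalizer hle).mp hN
    calc cj(s, Q) ≤ cj(s, S) := cj_mono hQS
      _ = S := cj_eq_self_iff.mpr (hn hs)

/-- `O_p(S) ≤ O_p(G)` for `S` subnormal in `G` -/
theorem pCore_map_le_of_isSubnormal {S : Subgroup G} (hS : S.IsSubnormal) :
    (Cfsg.pCore p ↥S).map S.subtype ≤ Cfsg.pCore p G := by
  induction hS with
  | top =>
    refine le_pCore ?_ ((pCore_isPGroup p _).map _)
    rw [← Subgroup.normalizer_eq_top_iff, eq_top_iff]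
    refine le_trans ?_ (normalizer_le_normalizer_map_of_characteristic ⊤ (Cfsg.pCore p ↥(⊤ : Subgroup G)))
    rw [Subgroup.normalizer_eq_top_iff.mpr inferInstance]
  | step S K hle hK hN ih =>
    refine le_trans ?_ ih
    have hn : K ≤ Subgroup.normalizer (((Cfsg.pCore p ↥S).map S.subtype : Subgroup G) : Set G) :=
      ((Subgroup.normal_subgroupOf_iff_le_normalizer hle).mp hN).trans
        (normalizer_le_normalizer_map_of_characteristic S (Cfsg.pCore p ↥S))
    have hDK : (Cfsg.pCore p ↥S).map S.subtype ≤ K := (Subgroup.map_subtype_le _).trans hle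
    have h1 : ((Cfsg.pCore p ↥S).map S.subtype).subgroupOf K ≤ Cfsg.pCore p ↥K :=
      le_pCore ((Subgroup.normal_subgroupOf_iff_le_normalizer hDK).mpr hn)
        (((pCore_isPGroup p _).map _).comap_subtype)
    intro a ha
    exact ⟨⟨a, hDK ha⟩, h1 (Subgroup.mem_subgroupOf.mpr ha), rfl⟩

/-- a subnormal `p`-subgroup lies in `O_p` -/
theorem le_pCore_of_isSubnormal {A : Subgroup G} (hA : A.IsSubnormal) (hAp : IsPGroup p ↥A) :
    A ≤ Cfsg.pCore p G := by
  refine le_trans ?_ (pCore_map_le_of_isSubnormal hA)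
  have h1 : (⊤ : Subgroup ↥A) ≤ Cfsg.pCore p ↥A :=
    le_pCore inferInstance (IsPGroup.of_equiv hAp Subgroup.topEquiv.symm)
  intro a ha
  exact ⟨⟨a, ha⟩, h1 (Subgroup.mem_top _), rfl⟩

end sn

end Cfsg.Agent.Helper47
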