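import Cfsg.Agent.Helper47.YMin2

set_option autoImplicit false

namespace Cfsg.Agent.Helper47

open scoped commutatorElement Pointwise

local notation "cj(" g "," Q ")" => Subgroup.map (MulEquiv.toMonoidHom (MulAut.conj g)) Q

section sn2

variable {G : Type*} [Group G] [Finite G] {p : ℕ}

/-- if `B` is subnormal and `P` is a normal `p`-subgroup then the `p'`-elements of `B P` lie in `B` -/
theorem mem_of_coprime_of_mem_sup_subnormal [Fact p.Prime] {B P : Subgroup G} (hB : B.IsSubnormal) [hPn : P.Normal]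
    (hP : IsPGroup p ↥P) {x : G} (hx : x ∈ B ⊔ P) (hcop : (orderOf x).Coprime p) : x ∈ B := by
  induction hB with
  | top => exact Subgroup.mem_top x
  | step H K h_le hSubn hN ih =>
    have hxK : x ∈ K := ih (sup_le_sup_right h_le P hx)
    have hx' : x ∈ ((H ⊔ P : Subgroup G) : Set G) := hx
    rw [Subgroup.mul_normal] at hx'
    obtain ⟨h, hh, c, hc, rfl⟩ := Set.mem_mul.mp hx'
    have hcK : c ∈ K := by
      have : c = h⁻¹ * (h * c) := by group
      rw [this]
      exact K.mul_mem (K.inv_mem (h_le hh)) hxK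
    have hmem : (⟨h * c, hxK⟩ : ↥K) ∈ H.subgroupOf K ⊔ P.subgroupOf K := by
      have e : (⟨h * c, hxK⟩ : ↥K) = ⟨h, h_le hh⟩ * ⟨c, hcK⟩ := rfl
      rw [e]
      exact Subgroup.mul_mem_sup (Subgroup.mem_subgroupOf.mpr hh) (Subgroup.mem_subgroupOf.mpr hc)
    obtain ⟨k, hk⟩ := pow_mem_of_mem_sup_normal (p := p) (hP.comap_subtype (K := K)) hmem
    have hk' : (h * c) ^ (p ^ k) ∈ H := by
      have := Subgroup.mem_subgroupOf.mp hk
      simpa using this
    exact mem_of_pow_mem_of_coprime (Nat.Coprime.pow_left k hcop.symm) hk'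

/-- `O^p(B P) ≤ O^p(B)` for `B` subnormal and `P` a normal `p`-subgroup; more generally for any
subgroup `X ≤ B P`: `O^p(X) ≤ B` -/
theorem pResidual_map_le_of_le_sup_subnormal [Fact p.Prime] {B P X : Subgroup G} (hB : B.IsSubnormal) [hPn : P.Normal]
    (hP : IsPGroup p ↥P) (hX : X ≤ B ⊔ P) :
    (Cfsg.pResidual p ↥X).map X.subtype ≤ B := by
  unfold Cfsg.pResidual
  rw [MonoidHom.map_closure, Subgroup.closure_le]
  rintro _ ⟨g, hg, rfl⟩
  have hcop : (orderOf (g : G)).Coprime p := by rw [Subgroup.orderOf_coe]; exact hg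
  exact mem_of_coprime_of_mem_sup_subnormal hB hP (hX g.2) hcop

/-- `O^p` is monotone -/
theorem pResidual_map_mono {A B : Subgroup G} (h : A ≤ B) :
    (Cfsg.pResidual p ↥A).map A.subtype ≤ (Cfsg.pResidual p ↥B).map B.subtype := by
  unfold Cfsg.pResidual
  rw [MonoidHom.map_closure, Subgroup.closure_le]
  rintro _ ⟨g, hg, rfl⟩
  have hcop : (orderOf (g : G)).Coprime p := by rw [Subgroup.orderOf_coe]; exact hg
  exact ⟨⟨g, h g.2⟩, Subgroup.subset_closure (by
    show (orderOf (⟨(g : G), h g.2⟩ : ↥B)).Coprime p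
    rwa [Subgroup.orderOf_mk]), rfl⟩

/-- `O^p(X)` (as a subgroup of the ambient group) is normalized by `X` -/
theorem le_normalizer_pResidual_map (X : Subgroup G) :
    X ≤ Subgroup.normalizer (((Cfsg.pResidual p ↥X).map X.subtype : Subgroup G) : Set G) := by
  have hchar : (Cfsg.pResidual p ↥X).Characteristic := by
    rw [Subgroup.characteristic_iff_map_le]
    intro φ
    unfold Cfsg.pResidual
    rw [MonoidHom.map_closure, Subgroup.closure_le]
    rintro _ ⟨g, hg, rfl⟩
    apply Subgroup.subset_closure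
    show (orderOf (φ g)).Coprime p
    rw [orderOf_conj_equiv]
    exact hg
  intro x hx
  have := normalizer_le_normalizer_map_of_characteristic X (Cfsg.pResidual p ↥X)
  exact this (Subgroup.le_normalizer hx)

end sn2

end Cfsg.Agent.Helper47
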