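import Mathlib
import Cfsg.Agent.Helper71.SQDefs
import Cfsg.Agent.Helper58.SOTools

/-!
# Helper47: tools for CALL S5867 (helper71): the alternating form `bl J`, the elements
`Eay J a y`, the form `OmG J S` on `F^m ⊗ F^n`, columns of vectors orthogonal to `a ⊗ F^n`.
-/

set_option autoImplicit false
set_option linter.unusedVariables false

namespace Cfsg.Agent.Helper47.SQT

open Matrix Cfsg.Agent.Helper71.T4 Cfsg.Agent.Helper71.SO Cfsg.Agent.Helper71.SQ
open Cfsg.Agent.Helper96.T5 Cfsg.Agent.Helper58.SOT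
open scoped Kronecker

variable {F : Type*} [Field F] {m n : ℕ}

/-- the form of a skew matrix is alternating (`2 ≠ 0`) -/
theorem bl_alt (h2 : (2 : F) ≠ 0) (J : Matrix (Fin m) (Fin m) F) (hJ : Jᵀ = -J)
    (x : Fin m → F) : bl J x x = 0 := by
  have h : bl J x x = - bl J x x := by
    unfold bl
    conv_lhs => rw [Matrix.dotProduct_mulVec, ← Matrix.mulVec_transpose, hJ, Matrix.neg_mulVec,
      neg_dotProduct, dotProduct_comm]
  have h3 : (2 : F) * bl J x x = 0 := by linear_combination h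
  rcases mul_eq_zero.mp h3 with h4 | h4
  · exact absurd h4 h2
  · exact h4

theorem bl_swap (h2 : (2 : F) ≠ 0) (J : Matrix (Fin m) (Fin m) F) (hJ : Jᵀ = -J)
    (x y : Fin m → F) : bl J x y = - bl J y x :=
  bf_swap J (bl_alt h2 J hJ) x y

theorem tac_mulVec' (J : Matrix (Fin m) (Fin m) F) (a x : Fin m → F) (c : F) :
    Tac J a c *ᵥ x = x + (c * bl J x a) • a := by
  unfold Tac
  rw [Matrix.add_mulVec, Matrix.one_mulVec, Matrix.smul_mulVec]
  have h := rk_mulVec J a a x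
  unfold rk at h
  rw [h, smul_smul]
  rfl

theorem eay_mulVec' (J : Matrix (Fin m) (Fin m) F) (a y x : Fin m → F) :
    Eay J a y *ᵥ x = x + bl J x a • y + bl J x y • a := by
  unfold Eay
  rw [Matrix.add_mulVec, Matrix.add_mulVec, Matrix.one_mulVec]
  have h1 := rk_mulVec J y a x
  have h2 := rk_mulVec J a y x
  unfold rk at h1 h2
  rw [h1, h2]
  rfl

theorem eay_fix (h2 : (2 : F) ≠ 0) (J : Matrix (Fin m) (Fin m) F) (hJ : Jᵀ = -J)
    (a y : Fin m → F) (hay : bl J a y = 0) : Eay J a y *ᵥ a = a := by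
  rw [eay_mulVec', bl_alt h2 J hJ a, hay]
  simp

/-- matrices preserving the form, in terms of `bl` -/
theorem bl_mul_mul (J A : Matrix (Fin m) (Fin m) F) (x x' : Fin m → F) :
    x ⬝ᵥ (Aᵀ * J * A) *ᵥ x' = bl J (A *ᵥ x) (A *ᵥ x') := by
  unfold bl
  rw [Matrix.mul_assoc, ← Matrix.mulVec_mulVec, Matrix.dotProduct_mulVec,
    Matrix.vecMul_transpose, ← Matrix.mulVec_mulVec]

theorem eay_isom' (h2 : (2 : F) ≠ 0) (J : Matrix (Fin m) (Fin m) F) (hJ : Jᵀ = -J)
    (a y : Fin m → F) (hay : bl J a y = 0) : (Eay J a y)ᵀ * J * Eay J a y = J := by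
  apply mat_eq_of_bl
  intro x x'
  rw [bl_mul_mul, eay_mulVec', eay_mulVec']
  simp only [bl_add_left, bl_add_right, bl_smul_left, bl_smul_right]
  have e1 := bl_swap h2 J hJ y x'
  have e2 := bl_swap h2 J hJ a x'
  have e3 := bl_swap h2 J hJ y a
  rw [e1, e2, e3, hay, bl_alt h2 J hJ a, bl_alt h2 J hJ y]
  show _ = bl J x x'
  ring

theorem eroot_inM' (h2 : (2 : F) ≠ 0) (J : Matrix (Fin m) (Fin m) F) (hJ : Jᵀ = -J)
    (S : Matrix (Fin n) (Fin n) F) (M : Subgroup (GL (Fin m × Fin n) F)) (hH : HasHG J S M)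
    (a y : Fin m → F) (hay : bl J a y = 0) :
    InM M (Eay J a y ⊗ₖ (1 : Matrix (Fin n) (Fin n) F)) :=
  hH (Eay J a y) 1 1 1 (by rw [eay_isom' h2 J hJ a y hay, one_smul]) (by simp) (by simp)

/-- `OmG J S` on pure tensors -/
theorem omg_pt (J : Matrix (Fin m) (Fin m) F) (S : Matrix (Fin n) (Fin n) F)
    (a a' : Fin m → F) (b b' : Fin n → F) :
    bf (OmG J S) (pt a b) (pt a' b') = bl J a a' * bl S b b' :=
  bf_kron_pt J S a a' b b'

/-- symplectic matrices preserve `OmG J S` -/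
theorem omg_isom (J : Matrix (Fin m) (Fin m) F) (S : Matrix (Fin n) (Fin n) F)
    (g : Matrix (Fin m × Fin n) (Fin m × Fin n) F)
    (hg : IsSpG J S g) (x y : Fin m × Fin n → F) :
    bf (OmG J S) (g *ᵥ x) (g *ᵥ y) = bf (OmG J S) x y := by
  unfold IsSpG at hg
  have e : x ⬝ᵥ (gᵀ * OmG J S * g) *ᵥ y = bf (OmG J S) (g *ᵥ x) (g *ᵥ y) := by
    unfold bf
    rw [Matrix.mul_assoc, ← Matrix.mulVec_mulVec, Matrix.dotProduct_mulVec,
      Matrix.vecMul_transpose, ← Matrix.mulVec_mulVec]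
  rw [← e, hg]
  rfl

/-- the action of `A ⊗ 1` column by column -/
theorem kron_one_mulVec (A : Matrix (Fin m) (Fin m) F) (v : Fin m × Fin n → F)
    (i : Fin m) (l : Fin n) :
    ((A ⊗ₖ (1 : Matrix (Fin n) (Fin n) F)) *ᵥ v) (i, l) = (A *ᵥ fun i' => v (i', l)) i := by
  simp only [Matrix.mulVec, dotProduct, Fintype.sum_prod_type, Matrix.kroneckerMap_apply,
    Matrix.one_apply]
  refine Finset.sum_congr rfl fun i' _ => ?_
  rw [Finset.sum_eq_single l]
  · simp
  · intro j _ hj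
    simp [Ne.symm hj]
  · intro h; exact absurd (Finset.mem_univ _) h

/-- pairing a vector with `a ⊗ b` through its columns -/
theorem omg_col (J : Matrix (Fin m) (Fin m) F) (S : Matrix (Fin n) (Fin n) F)
    (a : Fin m → F) (v : Fin m × Fin n → F) (b : Fin n → F) :
    bf (OmG J S) v (pt a b) = ∑ l, bl J (fun i => v (i, l)) a * (S *ᵥ b) l := by
  unfold bf OmG
  rw [kron_mulVec_pt]
  simp only [dotProduct, pt, Fintype.sum_prod_type, bl, Finset.sum_mul]
  rw [Finset.sum_comm]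
  refine Finset.sum_congr rfl fun l _ => Finset.sum_congr rfl fun i _ => ?_
  ring

/-- the columns of a vector orthogonal to `a ⊗ F^n` are orthogonal to `a` -/
theorem col_perp (J : Matrix (Fin m) (Fin m) F) (S : Matrix (Fin n) (Fin n) F)
    (hdetS : S.det ≠ 0) (a : Fin m → F) (v : Fin m × Fin n → F)
    (h : ∀ b : Fin n → F, bf (OmG J S) v (pt a b) = 0) (l : Fin n) :
    bl J (fun i => v (i, l)) a = 0 := by
  classical
  have h1 := h (S⁻¹ *ᵥ Pi.single l 1)
  rw [omg_col, Matrix.mulVec_mulVec, Matrix.mul_nonsing_inv _ (isUnit_iff_ne_zero.mpr hdetS),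
    Matrix.one_mulVec] at h1
  simpa [Pi.single_apply] using h1

/-- a root element moves `a^⊥ ⊗ F^n` by elements of `a ⊗ F^n` -/
theorem eay_kron_of_perp (J : Matrix (Fin m) (Fin m) F) (a y : Fin m → F)
    (v : Fin m × Fin n → F) (hv : ∀ l, bl J (fun i => v (i, l)) a = 0) :
    (Eay J a y ⊗ₖ (1 : Matrix (Fin n) (Fin n) F)) *ᵥ v =
      v + pt a (fun l => bl J (fun i => v (i, l)) y) := by
  ext ⟨i, l⟩
  rw [kron_one_mulVec, eay_mulVec', hv l]
  simp [pt, mul_comm]

/-- `pt a ·` is injective for `a ≠ 0` -/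
theorem pt_right_inj (a : Fin m → F) (ha : a ≠ 0) (b b' : Fin n → F) (h : pt a b = pt a b') :
    b = b' := by
  obtain ⟨i, hi⟩ : ∃ i, a i ≠ 0 := by
    by_contra h0
    push Not at h0
    exact ha (funext h0)
  ext l
  have := congrFun h (i, l)
  simp only [pt] at this
  exact mul_left_cancel₀ hi this

end Cfsg.Agent.Helper47.SQT
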