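import Mathlib
import Cfsg.Agent.Helper71.SQDefs
import Cfsg.Agent.Helper47.SQTools

/-!
# Helper47: PIECE ZA of CALL S5867 (helper71): `conj_rad`.
-/

set_option autoImplicit false
set_option linter.unusedVariables false

namespace Cfsg.Agent.Helper47.SQZA

open Matrix Cfsg.Agent.Helper71.T4 Cfsg.Agent.Helper71.SO Cfsg.Agent.Helper71.SQ
open Cfsg.Agent.Helper96.T5 Cfsg.Agent.Helper58.SOT Cfsg.Agent.Helper47.SQT
open scoped Kronecker

variable {F : Type*} [Field F] {m n : ℕ}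

/-! ## Piece ZA -/
theorem conj_rad (h2 : (2 : F) ≠ 0) (J : Matrix (Fin m) (Fin m) F) (hJ : Jᵀ = -J)
    (hdetJ : J.det ≠ 0) (S : Matrix (Fin n) (Fin n) F) (hS : Sᵀ = S) (hdetS : S.det ≠ 0)
    (M : Subgroup (GL (Fin m × Fin n) F)) (hSp : SpLEG J S M) (hH : HasHG J S M)
    (a : Fin m → F) (ha : a ≠ 0)
    (hrad : ∀ ρ : GL (Fin m × Fin n) F, ρ ∈ M →
      (∀ b : Fin n → F, (ρ : Matrix (Fin m × Fin n) (Fin m × Fin n) F) *ᵥ pt a b = pt a b) →
      (∀ (y : Fin m → F) (b : Fin n → F), bl J a y = 0 → ∃ b' : Fin n → F,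
        (ρ : Matrix (Fin m × Fin n) (Fin m × Fin n) F) *ᵥ pt y b = pt y b + pt a b') →
      ∃ y₀ : Fin m → F, bl J a y₀ = 0 ∧ (ρ : Matrix (Fin m × Fin n) (Fin m × Fin n) F)
        = Eay J a y₀ ⊗ₖ (1 : Matrix (Fin n) (Fin n) F))
    (k : GL (Fin m × Fin n) F) (hk : k ∈ M)
    (hka : ∀ b : Fin n → F, ∃ b' : Fin n → F,
      (k : Matrix (Fin m × Fin n) (Fin m × Fin n) F) *ᵥ pt a b = pt a b')
    (y : Fin m → F) (hay : bl J a y = 0) :
    ∃ y' : Fin m → F, bl J a y' = 0 ∧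
      (k : Matrix (Fin m × Fin n) (Fin m × Fin n) F)
          * (Eay J a y ⊗ₖ (1 : Matrix (Fin n) (Fin n) F))
        = (Eay J a y' ⊗ₖ (1 : Matrix (Fin n) (Fin n) F))
          * (k : Matrix (Fin m × Fin n) (Fin m × Fin n) F) := by
  classical
  obtain ⟨τ, hτM, hτ⟩ := eroot_inM' h2 J hJ S M hH a y hay
  choose φ hφ using hka
  have hφadd : ∀ b b', φ (b + b') = φ b + φ b' := by
    intro b b'
    apply pt_right_inj a ha
    rw [← hφ, pt_add_right, Matrix.mulVec_add, hφ, hφ, pt_add_right]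
  have hφsmul : ∀ (c : F) b, φ (c • b) = c • φ b := by
    intro c b
    apply pt_right_inj a ha
    rw [← hφ, pt_smul_right, Matrix.mulVec_smul, hφ, pt_smul_right]
  let φl : (Fin n → F) →ₗ[F] (Fin n → F) :=
    { toFun := φ, map_add' := hφadd, map_smul' := fun c b => by simpa using hφsmul c b }
  have hkinv : ∀ x, (k⁻¹ : GL (Fin m × Fin n) F).1 *ᵥ (k.1 *ᵥ x) = x := by
    intro x
    rw [Matrix.mulVec_mulVec, ← Units.val_mul, inv_mul_cancel, Units.val_one, Matrix.one_mulVec]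
  have hkinv' : ∀ x, k.1 *ᵥ ((k⁻¹ : GL (Fin m × Fin n) F).1 *ᵥ x) = x := by
    intro x
    rw [Matrix.mulVec_mulVec, ← Units.val_mul, mul_inv_cancel, Units.val_one, Matrix.one_mulVec]
  have hφinj : Function.Injective φl := by
    rw [← LinearMap.ker_eq_bot, LinearMap.ker_eq_bot']
    intro b hb
    have h1 : k.1 *ᵥ pt a b = 0 := by
      rw [hφ]
      change pt a (φl b) = 0
      rw [hb, pt_zero_right]
    have h3 := hkinv (pt a b)
    rw [h1, Matrix.mulVec_zero] at h3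
    apply pt_right_inj a ha
    rw [← h3, pt_zero_right]
  have hφsurj : Function.Surjective φl := LinearMap.surjective_of_injective hφinj
  have hρM : k * τ * k⁻¹ ∈ M := M.mul_mem (M.mul_mem hk hτM) (M.inv_mem hk)
  have hρv : ∀ x, (k * τ * k⁻¹ : GL (Fin m × Fin n) F).1 *ᵥ x =
      k.1 *ᵥ ((Eay J a y ⊗ₖ (1 : Matrix (Fin n) (Fin n) F)) *ᵥ
        ((k⁻¹ : GL (Fin m × Fin n) F).1 *ᵥ x)) := by
    intro x
    rw [Units.val_mul, Units.val_mul, hτ, Matrix.mulVec_mulVec, Matrix.mulVec_mulVec]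
  have h1 : ∀ b : Fin n → F, (k * τ * k⁻¹ : GL (Fin m × Fin n) F).1 *ᵥ pt a b = pt a b := by
    intro b
    obtain ⟨b₀, hb₀⟩ := hφsurj b
    have hk0 : k.1 *ᵥ pt a b₀ = pt a b := by
      rw [hφ]
      exact congrArg (fun z => pt a z) hb₀
    have hki : (k⁻¹ : GL (Fin m × Fin n) F).1 *ᵥ pt a b = pt a b₀ := by rw [← hk0, hkinv]
    rw [hρv, hki, kron_mulVec_pt, Matrix.one_mulVec, eay_fix h2 J hJ a y hay, hk0]
  have h2' : ∀ (y₂ : Fin m → F) (b : Fin n → F), bl J a y₂ = 0 → ∃ b' : Fin n → F,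
      (k * τ * k⁻¹ : GL (Fin m × Fin n) F).1 *ᵥ pt y₂ b = pt y₂ b + pt a b' := by
    intro y₂ b hy₂
    have hkv : k.1 *ᵥ ((k⁻¹ : GL (Fin m × Fin n) F).1 *ᵥ pt y₂ b) = pt y₂ b := hkinv' _
    have hperp : ∀ l, bl J (fun i => ((k⁻¹ : GL (Fin m × Fin n) F).1 *ᵥ pt y₂ b) (i, l)) a
        = 0 := by
      apply col_perp J S hdetS a
      intro b''
      rw [← omg_isom J S k.1 (hSp k hk), hkv, hφ, omg_pt, bl_swap h2 J hJ y₂ a, hy₂, neg_zero,
        zero_mul]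
    refine ⟨φ (fun l => bl J (fun i => ((k⁻¹ : GL (Fin m × Fin n) F).1 *ᵥ pt y₂ b) (i, l)) y),
      ?_⟩
    rw [hρv, eay_kron_of_perp J a y _ hperp, Matrix.mulVec_add, hkv, hφ]
  obtain ⟨y', hy', hρy'⟩ := hrad (k * τ * k⁻¹) hρM h1 h2'
  refine ⟨y', hy', ?_⟩
  rw [← hρy', ← hτ, ← Units.val_mul, ← Units.val_mul]
  congr 1
  group

end Cfsg.Agent.Helper47.SQZA
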