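import Cfsg.Agent.Helper47.Avg

set_option autoImplicit false

namespace Cfsg.Agent.Helper47

open scoped commutatorElement Pointwise

local notation "cj(" g "," Q ")" => Subgroup.map (MulEquiv.toMonoidHom (MulAut.conj g)) Q

section suby

variable {G : Type*} [Group G] {p : ℕ}

/-- some `p`-power power of `g` has order prime to `p` -/
theorem exists_pow_coprime [hp : Fact p.Prime] [Finite G] (g : G) :
    ∃ k : ℕ, (orderOf (g ^ (p ^ k))).Coprime p := by
  have hn : orderOf g ≠ 0 := (orderOf_pos g).ne'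
  obtain ⟨e, n', hn', hgn⟩ := Nat.exists_eq_pow_mul_and_not_dvd hn p hp.out.ne_one
  refine ⟨e, ?_⟩
  have hpe : p ^ e ≠ 0 := pow_ne_zero _ hp.out.ne_zero
  rw [orderOf_pow' g hpe, hgn]
  have hg : Nat.gcd (p ^ e * n') (p ^ e) = p ^ e := Nat.gcd_eq_right (Dvd.intro _ rfl)
  rw [hg, Nat.mul_div_cancel_left _ (Nat.pos_of_ne_zero hpe)]
  exact (Nat.Prime.coprime_iff_not_dvd hp.out).mpr hn' |>.symm

/-- ambient-group form of `p`-reduced: from the Prelude predicate -/
theorem PRedIn_top_of_isPReducedNormal [Finite G] [Fact p.Prime] {V : Subgroup G}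
    (hV : Cfsg.IsPReducedNormal p V) : PRedIn p ⊤ V := by
  obtain ⟨hVn, hVe, hCn, hC⟩ := hV
  refine ⟨le_top, by rw [Subgroup.normalizer_eq_top_iff.mpr hVn], hVe, ?_⟩
  intro D _ hLD hpow
  have hDn : D.Normal := Subgroup.normalizer_eq_top_iff.mp (top_le_iff.mp hLD)
  have h1 : D.map (QuotientGroup.mk' (Subgroup.centralizer (V : Set G))) ≤
      Cfsg.pCore p (G ⧸ Subgroup.centralizer (V : Set G)) := by
    refine le_pCore (Subgroup.Normal.map hDn _ (QuotientGroup.mk'_surjective _)) ?_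
    apply isPGroup_of_pow
    rintro _ ⟨d, hd, rfl⟩
    obtain ⟨k, hk⟩ := hpow d hd
    refine ⟨k, ?_⟩
    rw [← map_pow]
    exact (QuotientGroup.eq_one_iff _).mpr hk
  rw [hC] at h1
  intro d hd
  have h2 : QuotientGroup.mk' (Subgroup.centralizer (V : Set G)) d ∈
      (⊥ : Subgroup (G ⧸ Subgroup.centralizer (V : Set G))) := h1 ⟨d, hd, rfl⟩
  rw [Subgroup.mem_bot] at h2
  exact (QuotientGroup.eq_one_iff _).mp h2

/-- ambient-group form of `p`-reduced: to the Prelude predicate -/
theorem isPReducedNormal_of_PRedIn_top [Finite G] [Fact p.Prime] {V : Subgroup G}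
    (h : PRedIn p ⊤ V) : Cfsg.IsPReducedNormal p V := by
  obtain ⟨-, hLV, hVe, hred⟩ := h
  have hn : V.Normal := Subgroup.normalizer_eq_top_iff.mp (top_le_iff.mp hLV)
  haveI hCn : (Subgroup.centralizer (V : Set G)).Normal := by
    rw [← Subgroup.normalizer_eq_top_iff, ← top_le_iff]
    exact hLV.trans (normalizer_le_normalizer_centralizer V)
  refine ⟨hn, hVe, hCn, ?_⟩
  rw [eq_bot_iff]
  intro q hq
  obtain ⟨x, rfl⟩ := QuotientGroup.mk_surjective q
  rw [Subgroup.mem_bot, QuotientGroup.eq_one_iff]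
  set K := (Cfsg.pCore p (G ⧸ Subgroup.centralizer (V : Set G))).comap
    (QuotientGroup.mk' (Subgroup.centralizer (V : Set G))) with hK
  haveI hKn : K.Normal := Subgroup.Normal.comap inferInstance _
  have hpow : ∀ d ∈ K, ∃ k : ℕ, d ^ (p ^ k) ∈ Subgroup.centralizer (V : Set G) := by
    intro d hd
    obtain ⟨k, hk⟩ := mem_pCore_pow (Subgroup.mem_comap.mp hd)
    refine ⟨k, ?_⟩
    rw [← map_pow] at hk
    exact (QuotientGroup.eq_one_iff _).mp hk
  exact hred K le_top (by rw [Subgroup.normalizer_eq_top_iff.mpr hKn]) hpow hq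

theorem PRedIn_top_le_largestPReduced [Finite G] [Fact p.Prime] {V : Subgroup G}
    (h : PRedIn p ⊤ V) : V ≤ Cfsg.largestPReduced p G :=
  le_sSup (isPReducedNormal_of_PRedIn_top h)

theorem PRedIn_top_largestPReduced [Finite G] [Fact p.Prime] :
    PRedIn p ⊤ (Cfsg.largestPReduced p G) := by
  haveI := largestPReduced_normal p G
  refine ⟨le_top, by rw [Subgroup.normalizer_eq_top_iff.mpr inferInstance],
    largestPReduced_isElementaryAbelian, ?_⟩
  intro D hDL hLD hpow
  rw [Subgroup.le_centralizer_iff]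
  apply sSup_le
  intro W hW
  rw [← Subgroup.le_centralizer_iff]
  have hWY : W ≤ Cfsg.largestPReduced p G := le_sSup hW
  refine (PRedIn_top_of_isPReducedNormal hW).2.2.2 D hDL hLD fun d hd => ?_
  obtain ⟨k, hk⟩ := hpow d hd
  exact ⟨k, Subgroup.centralizer_le hWY hk⟩

/-- Thompson `A × B`-type lemma in ambient form: a `p'`-element `x` commuting modulo `C(B)` with
a group `D` acting as a `p`-group on the elementary abelian `B` and centralizing `C_B(D)`
centralizes `B` -/
theorem centralizes_of_centralizes_fixed [Finite G] [Fact p.Prime] {B D : Subgroup G} {x : G}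
    (hB : Cfsg.IsElementaryAbelian p B) (hxB : x ∈ Subgroup.normalizer (B : Set G))
    (hDB : D ≤ Subgroup.normalizer (B : Set G)) (hxo : (orderOf x).Coprime p)
    (hDp : ∀ d ∈ D, ∃ k : ℕ, d ^ (p ^ k) ∈ Subgroup.centralizer (B : Set G))
    (hDx : ∀ d ∈ D, d * x * d⁻¹ * x⁻¹ ∈ Subgroup.centralizer (B : Set G))
    (hfix : ∀ b ∈ B ⊓ Subgroup.centralizer (D : Set G), x * b = b * x) :
    ∀ b ∈ B, x * b = b * x := by
  classical
  have hcomm : ∀ a ∈ B, ∀ b ∈ B, a * b = b * a :=
    fun a ha b hb => IsElementaryAbelian_comm hB ha hb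
  have hxc : ∀ b ∈ B, x * b * x⁻¹ ∈ B :=
    fun b hb => (Subgroup.mem_normalizer_iff.mp hxB b).mp hb
  let N : Subgroup G :=
    { carrier := {c | ∃ b ∈ B, c = b * x * b⁻¹ * x⁻¹}
      mul_mem' := by
        rintro _ _ ⟨a, ha, rfl⟩ ⟨b, hb, rfl⟩
        refine ⟨a * b, B.mul_mem ha hb, ?_⟩
        have h1 : (x * a⁻¹ * x⁻¹) * (b * (x * b⁻¹ * x⁻¹)) =
            (b * (x * b⁻¹ * x⁻¹)) * (x * a⁻¹ * x⁻¹) :=
          hcomm _ (hxc _ (B.inv_mem ha)) _ (B.mul_mem hb (hxc _ (B.inv_mem hb)))
        calc a * x * a⁻¹ * x⁻¹ * (b * x * b⁻¹ * x⁻¹)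
            = a * ((x * a⁻¹ * x⁻¹) * (b * (x * b⁻¹ * x⁻¹))) := by group
          _ = a * ((b * (x * b⁻¹ * x⁻¹)) * (x * a⁻¹ * x⁻¹)) := by rw [h1]
          _ = a * b * x * (a * b)⁻¹ * x⁻¹ := by group
      one_mem' := ⟨1, B.one_mem, by group⟩
      inv_mem' := by
        rintro _ ⟨b, hb, rfl⟩
        refine ⟨b⁻¹, B.inv_mem hb, ?_⟩
        have h1 : (x * b * x⁻¹) * b⁻¹ = b⁻¹ * (x * b * x⁻¹) :=
          hcomm _ (hxc _ hb) _ (B.inv_mem hb)
        calc (b * x * b⁻¹ * x⁻¹)⁻¹ = (x * b * x⁻¹) * b⁻¹ := by group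
          _ = b⁻¹ * (x * b * x⁻¹) := h1
          _ = b⁻¹ * x * b⁻¹⁻¹ * x⁻¹ := by group }
  have hNB : N ≤ B := by
    rintro _ ⟨b, hb, rfl⟩
    have e : b * x * b⁻¹ * x⁻¹ = b * (x * b⁻¹ * x⁻¹) := by group
    rw [e]; exact B.mul_mem hb (hxc _ (B.inv_mem hb))
  by_cases hN : N = ⊥
  · intro b hb
    have h1 : b * x * b⁻¹ * x⁻¹ ∈ N := ⟨b, hb, rfl⟩
    rw [hN, Subgroup.mem_bot] at h1
    have e : x * b = (b * x * b⁻¹ * x⁻¹)⁻¹ * (b * x) := by group
    rw [e, h1]; group
  · exfalso
    have hDN : D ≤ Subgroup.normalizer (N : Set G) := by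
      intro d hd
      rw [← cj_eq_self_iff]
      apply cj_eq_of_le
      rintro _ ⟨_, ⟨b, hb, rfl⟩, rfl⟩
      show d * (b * x * b⁻¹ * x⁻¹) * d⁻¹ ∈ N
      have hb' : d * b * d⁻¹ ∈ B := (Subgroup.mem_normalizer_iff.mp (hDB hd) b).mp hb
      refine ⟨d * b * d⁻¹, hb', ?_⟩
      have hec := Subgroup.mem_centralizer_iff.mp (hDx d hd)
      have h1 := hec _ (hxc _ (B.inv_mem hb'))
      calc d * (b * x * b⁻¹ * x⁻¹) * d⁻¹
          = (d * b * d⁻¹) * ((d * x * d⁻¹ * x⁻¹) * (x * (d * b * d⁻¹)⁻¹ * x⁻¹)) *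
              (d * x * d⁻¹ * x⁻¹)⁻¹ := by group
        _ = (d * b * d⁻¹) * ((x * (d * b * d⁻¹)⁻¹ * x⁻¹) * (d * x * d⁻¹ * x⁻¹)) *
              (d * x * d⁻¹ * x⁻¹)⁻¹ := by rw [h1]
        _ = (d * b * d⁻¹) * x * (d * b * d⁻¹)⁻¹ * x⁻¹ := by group
    obtain ⟨P⟩ : Nonempty (Sylow p ↥D) := inferInstance
    have hPD : (P : Subgroup ↥D).map D.subtype ≤ D := Subgroup.map_subtype_le _
    have hPp : IsPGroup p ↥((P : Subgroup ↥D).map D.subtype) := P.isPGroup'.map _
    obtain ⟨y, hyN, hy1, hyP⟩ := exists_ne_one_mem_centralizer_of_isPGroup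
      ((IsElementaryAbelian_isPGroup hB).to_le hNB) hPp hN (hPD.trans hDN)
    have hdec := exists_mul_of_le_normalizer_sylow P (le_refl D) Subgroup.le_normalizer
      (Subgroup.centralizer (B : Set G)) (fun d hd hcop => by
        obtain ⟨k, hk⟩ := hDp d hd
        exact mem_of_pow_mem_of_coprime (Nat.Coprime.pow_left k hcop.symm) hk)
    have hyD : y ∈ B ⊓ Subgroup.centralizer (D : Set G) := by
      refine Subgroup.mem_inf.mpr ⟨hNB hyN, ?_⟩
      rw [Subgroup.mem_centralizer_iff]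
      intro d hd
      obtain ⟨r, hr, s, hs, rfl⟩ := hdec d hd
      have h1 : r * y = y * r :=
        (Subgroup.mem_centralizer_iff.mp (Subgroup.mem_inf.mp hr).1 y (hNB hyN)).symm
      have h2 : s * y = y * s := Subgroup.mem_centralizer_iff.mp hyP s (Subgroup.mem_inf.mp hs).1
      calc r * s * y = r * (s * y) := by group
        _ = r * (y * s) := by rw [h2]
        _ = (r * y) * s := by group
        _ = y * r * s := by rw [h1]
        _ = y * (r * s) := by group
    have hxy := hfix y hyD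
    obtain ⟨b, hb, rfl⟩ := hyN
    have hc : Commute ⁅b, x⁆ x := by
      rw [commutatorElement_def]; exact hxy.symm
    have hp1 : ⁅b, x⁆ ^ (p ^ 1) = 1 := by
      rw [commutatorElement_def, pow_one]; exact hB.2 _ (hNB ⟨b, hb, rfl⟩)
    have h3 := commute_of_coprime_step (pow_orderOf_eq_one x) hxo hc hp1
    apply hy1
    rw [h3]; group

theorem PRedIn_cj [Finite G] {L V : Subgroup G} (h : PRedIn p L V) (g : G) :
    PRedIn p (cj(g, L)) (cj(g, V)) := by
  obtain ⟨hVL, hLV, hVe, hred⟩ := h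
  refine ⟨cj_mono hVL, ?_, IsElementaryAbelian_map hVe _, ?_⟩
  · rw [normalizer_cj]; exact cj_mono hLV
  · intro D hDL hLD hpow
    have h1 : cj(g⁻¹, D) ≤ Subgroup.centralizer (V : Set G) := by
      apply hred (cj(g⁻¹, D)) (le_cj_iff.mp hDL)
      · rw [normalizer_cj, le_cj_iff, inv_inv]; exact hLD
      · intro d' hd'
        rw [mem_cj, inv_inv] at hd'
        obtain ⟨k, hk⟩ := hpow _ hd'
        refine ⟨k, ?_⟩
        rw [centralizer_cj, mem_cj] at hk
        have e : g⁻¹ * (g * d' * g⁻¹) ^ p ^ k * g = d' ^ p ^ k := by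
          rw [conj_pow]; group
        rwa [e] at hk
    rw [centralizer_cj, le_cj_iff]
    exact h1

theorem normalizer_le_normalizer_largestPReducedOf [Finite G] [Fact p.Prime] (L : Subgroup G) :
    Subgroup.normalizer (L : Set G) ≤
      Subgroup.normalizer (Cfsg.largestPReducedOf p L : Set G) := by
  intro k hk
  rw [← cj_eq_self_iff]
  apply cj_eq_of_le
  have h := PRedIn_cj (PRedIn_largestPReducedOf (p := p) L) k
  rw [cj_eq_self_iff.mpr hk] at h
  exact PRedIn_le_largestPReducedOf h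

/-- normal case: `C_L(Y_K) ≤ C_L(Y_L)` for `L ⊴ K` -/
theorem inf_centralizer_largestPReducedOf_le_of_normal [Finite G] [Fact p.Prime]
    {L K : Subgroup G} (hLK : L ≤ K) (hKL : K ≤ Subgroup.normalizer (L : Set G)) :
    L ⊓ Subgroup.centralizer (Cfsg.largestPReducedOf p K : Set G) ≤
      Subgroup.centralizer (Cfsg.largestPReducedOf p L : Set G) := by
  have hA : PRedIn p L (Cfsg.largestPReducedOf p L) := PRedIn_largestPReducedOf L
  have hKA : K ≤ Subgroup.normalizer (Cfsg.largestPReducedOf p L : Set G) :=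
    hKL.trans (normalizer_le_normalizer_largestPReducedOf L)
  set A := Cfsg.largestPReducedOf p L with hAdef
  obtain ⟨hAL, hLA, hAe, hAred⟩ := hA
  let 𝔅 : Set (Subgroup G) := {B | B ≤ A ∧ K ≤ Subgroup.normalizer (B : Set G) ∧
    L ⊓ Subgroup.centralizer (B : Set G) ≤ Subgroup.centralizer (A : Set G)}
  have hA𝔅 : A ∈ 𝔅 := ⟨le_rfl, hKA, inf_le_right⟩
  obtain ⟨B, -, hBmin⟩ := (Set.toFinite 𝔅).exists_le_minimal hA𝔅
  obtain ⟨hBA, hKB, hBC⟩ := hBmin.prop
  have hBe : Cfsg.IsElementaryAbelian p B := IsElementaryAbelian_of_le hAe hBA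
  have hBred : PRedIn p K B := by
    refine ⟨hBA.trans (hAL.trans hLK), hKB, hBe, ?_⟩
    intro D hDK hKD hDp
    by_contra hDB
    have hKB₁ : K ≤ Subgroup.normalizer ((B ⊓ Subgroup.centralizer (D : Set G) : Subgroup G) : Set G) := by
      intro k hk
      rw [← cj_eq_self_iff, cj_inf, cj_eq_self_iff.mpr (hKB hk),
        cj_eq_self_iff.mpr (normalizer_le_normalizer_centralizer D (hKD hk))]
    have hB₁𝔅 : B ⊓ Subgroup.centralizer (D : Set G) ∈ 𝔅 := by
      refine ⟨inf_le_left.trans hBA, hKB₁, ?_⟩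
      apply hAred (L ⊓ Subgroup.centralizer ((B ⊓ Subgroup.centralizer (D : Set G) : Subgroup G) : Set G))
        inf_le_left
      · intro l hl
        rw [← cj_eq_self_iff, cj_inf, cj_eq_self_of_mem hl,
          cj_eq_self_iff.mpr (normalizer_le_normalizer_centralizer _ (hKB₁ (hLK hl)))]
      · intro e he
        obtain ⟨k, hk⟩ := exists_pow_coprime (p := p) e
        have hxL : e ^ (p ^ k) ∈ L := L.pow_mem (Subgroup.mem_inf.mp he).1 _
        have hxC1 : e ^ (p ^ k) ∈ Subgroup.centralizer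
            ((B ⊓ Subgroup.centralizer (D : Set G) : Subgroup G) : Set G) :=
          Subgroup.pow_mem _ (Subgroup.mem_inf.mp he).2 _
        refine ⟨k, hBC (Subgroup.mem_inf.mpr ⟨hxL, ?_⟩)⟩
        rw [Subgroup.mem_centralizer_iff]
        intro b hb
        refine (centralizes_of_centralizes_fixed hBe (hKB (hLK hxL)) (hDK.trans hKB) hk hDp
          ?_ ?_ b hb).symm
        · intro d hd
          have hmem : d * e ^ (p ^ k) * d⁻¹ * (e ^ (p ^ k))⁻¹ ∈ D ⊓ L := by
            refine Subgroup.mem_inf.mpr ⟨?_, ?_⟩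
            · have e1 : d * e ^ (p ^ k) * d⁻¹ * (e ^ (p ^ k))⁻¹ =
                  d * (e ^ (p ^ k) * d⁻¹ * (e ^ (p ^ k))⁻¹) := by group
              rw [e1]
              exact D.mul_mem hd ((Subgroup.mem_normalizer_iff.mp (hKD (hLK hxL)) d⁻¹).mp
                (D.inv_mem hd))
            · exact L.mul_mem ((Subgroup.mem_normalizer_iff.mp (hKL (hDK hd)) _).mp hxL)
                (L.inv_mem hxL)
          have hD'A : D ⊓ L ≤ Subgroup.centralizer (A : Set G) := by
            apply hAred (D ⊓ L) inf_le_right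
            · intro l hl
              rw [← cj_eq_self_iff, cj_inf, cj_eq_self_iff.mpr (hKD (hLK hl)), cj_eq_self_of_mem hl]
            · intro d' hd'
              obtain ⟨j, hj⟩ := hDp d' (Subgroup.mem_inf.mp hd').1
              exact ⟨j, hBC (Subgroup.mem_inf.mpr ⟨L.pow_mem (Subgroup.mem_inf.mp hd').2 _, hj⟩)⟩
          exact Subgroup.centralizer_le hBA (hD'A hmem)
        · intro b' hb'
          exact (Subgroup.mem_centralizer_iff.mp hxC1 b' hb').symm
    have hle : B ≤ B ⊓ Subgroup.centralizer (D : Set G) := hBmin.le_of_le hB₁𝔅 inf_le_left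
    apply hDB
    rw [Subgroup.le_centralizer_iff]
    exact hle.trans inf_le_right
  have hBY : B ≤ Cfsg.largestPReducedOf p K := PRedIn_le_largestPReducedOf hBred
  exact (inf_le_inf_left L (Subgroup.centralizer_le hBY)).trans hBC

/-- subnormal case: `C_L(Y_G) ≤ C_L(Y_L)` -/
theorem inf_centralizer_largestPReduced_le_of_isSubnormal [Finite G] [Fact p.Prime]
    {L : Subgroup G} (hL : L.IsSubnormal) :
    L ⊓ Subgroup.centralizer (Cfsg.largestPReduced p G : Set G) ≤
      Subgroup.centralizer (Cfsg.largestPReducedOf p L : Set G) := by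
  induction hL with
  | top =>
    exact inf_le_right.trans (Subgroup.centralizer_le
      (PRedIn_top_le_largestPReduced (PRedIn_largestPReducedOf (p := p) ⊤)))
  | step L K hle hK hN ih =>
    have hKL : K ≤ Subgroup.normalizer (L : Set G) :=
      (Subgroup.normal_subgroupOf_iff_le_normalizer hle).mp hN
    refine le_trans ?_ (inf_centralizer_largestPReducedOf_le_of_normal hle hKL)
    refine le_inf inf_le_left ?_
    exact (inf_le_inf_right _ hle).trans ih

/-- a `p'`-element of a subnormal subgroup `L` centralizing `Y ∩ L` centralizes the normal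
elementary abelian `Y` -/
theorem centralizes_of_isSubnormal [Finite G] [Fact p.Prime] {L : Subgroup G}
    (hL : L.IsSubnormal) {Y : Subgroup G} (hYn : Y.Normal) (hYe : Cfsg.IsElementaryAbelian p Y) :
    ∀ x ∈ L, (orderOf x).Coprime p → (∀ y ∈ Y ⊓ L, x * y = y * x) → ∀ y ∈ Y, x * y = y * x := by
  induction hL with
  | top =>
    intro x _ _ h y hy
    exact h y (Subgroup.mem_inf.mpr ⟨hy, Subgroup.mem_top y⟩)
  | step L K hle hK hN ih =>
    intro x hx hxo h
    have hKL : K ≤ Subgroup.normalizer (L : Set G) :=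
      (Subgroup.normal_subgroupOf_iff_le_normalizer hle).mp hN
    apply ih x (hle hx) hxo
    intro y hy
    obtain ⟨hyY, hyK⟩ := Subgroup.mem_inf.mp hy
    have hcY : y * x * y⁻¹ * x⁻¹ ∈ Y := by
      have e1 : y * x * y⁻¹ * x⁻¹ = y * (x * y⁻¹ * x⁻¹) := by group
      rw [e1]
      exact Y.mul_mem hyY (hYn.conj_mem _ (Y.inv_mem hyY) x)
    have hcL : y * x * y⁻¹ * x⁻¹ ∈ L :=
      L.mul_mem ((Subgroup.mem_normalizer_iff.mp (hKL hyK) x).mp hx) (L.inv_mem hx)
    have hc : Commute ⁅y, x⁆ x := by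
      rw [commutatorElement_def]
      exact (h _ (Subgroup.mem_inf.mpr ⟨hcY, hcL⟩)).symm
    have hp1 : ⁅y, x⁆ ^ (p ^ 1) = 1 := by
      rw [commutatorElement_def, pow_one]; exact hYe.2 _ hcY
    exact (commute_of_coprime_step (pow_orderOf_eq_one x) hxo hc hp1).symm

/-- a `p`-reduced normal subgroup `Y` of `G` is `p`-reduced for every subnormal subgroup -/
theorem le_centralizer_of_isSubnormal_of_PRedIn_top [Finite G] [Fact p.Prime] {L : Subgroup G}
    (hL : L.IsSubnormal) {Y : Subgroup G} (hY : PRedIn p ⊤ Y) :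
    ∀ D : Subgroup G, D ≤ L → L ≤ Subgroup.normalizer (D : Set G) →
      (∀ d ∈ D, ∃ k : ℕ, d ^ (p ^ k) ∈ Subgroup.centralizer (Y : Set G)) →
      D ≤ Subgroup.centralizer (Y : Set G) := by
  have hYn : Y.Normal := Subgroup.normalizer_eq_top_iff.mp (top_le_iff.mp hY.2.1)
  have hCn : ∀ g : G, cj(g, Subgroup.centralizer (Y : Set G)) = Subgroup.centralizer (Y : Set G) := by
    intro g
    rw [← centralizer_cj, cj_of_normal]
  induction hL with
  | top => exact hY.2.2.2
  | step L K hle hK hN ih =>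
    intro D hDL hLD hDp
    have hKL : K ≤ Subgroup.normalizer (L : Set G) :=
      (Subgroup.normal_subgroupOf_iff_le_normalizer hle).mp hN
    refine (le_iSup_cj K D).trans (ih (⨆ k : ↥K, cj((k : G), D)) ?_ (le_normalizer_iSup_cj K D) ?_)
    · apply iSup_le
      intro k
      calc cj((k : G), D) ≤ cj((k : G), L) := cj_mono hDL
        _ = L := cj_eq_self_iff.mpr (hKL k.2)
        _ ≤ K := hle
    · obtain ⟨P⟩ : Nonempty (Sylow p ↥L) := inferInstance
      have hPL : (P : Subgroup ↥L).map L.subtype ≤ L := Subgroup.map_subtype_le _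
      have hPp : IsPGroup p ↥((P : Subgroup ↥L).map L.subtype) := P.isPGroup'.map _
      have hCLn : L ≤ Subgroup.normalizer ((L ⊓ Subgroup.centralizer (Y : Set G) : Subgroup G) : Set G) := by
        intro l hl
        rw [← cj_eq_self_iff, cj_inf, cj_eq_self_of_mem hl, hCn]
      have hsub : (⨆ k : ↥K, cj((k : G), D)) ≤
          (P : Subgroup ↥L).map L.subtype ⊔ (L ⊓ Subgroup.centralizer (Y : Set G)) := by
        apply iSup_le
        intro k
        have hDkL : cj((k : G), D) ≤ L := by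
          calc cj((k : G), D) ≤ cj((k : G), L) := cj_mono hDL
            _ = L := cj_eq_self_iff.mpr (hKL k.2)
        have hLDk : L ≤ Subgroup.normalizer ((cj((k : G), D) : Subgroup G) : Set G) := by
          rw [normalizer_cj]
          calc L = cj((k : G), L) := (cj_eq_self_iff.mpr (hKL k.2)).symm
            _ ≤ cj((k : G), Subgroup.normalizer (D : Set G)) := cj_mono hLD
        have hdec := exists_mul_of_le_normalizer_sylow P hDkL hLDk
          (Subgroup.centralizer (Y : Set G)) (fun d hd hcop => by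
            rw [mem_cj] at hd
            obtain ⟨j, hj⟩ := hDp _ hd
            have h1 : d ^ (p ^ j) ∈ Subgroup.centralizer (Y : Set G) := by
              rw [← hCn (k : G), mem_cj]
              have e : (k : G)⁻¹ * d ^ p ^ j * (k : G) = ((k : G)⁻¹ * d * (k : G)) ^ p ^ j := by
                have := conj_pow (a := (k : G)⁻¹) (b := d) (i := p ^ j)
                rw [inv_inv] at this
                exact this.symm
              rw [e]; exact hj
            exact mem_of_pow_mem_of_coprime (Nat.Coprime.pow_left j hcop.symm) h1)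
        intro d hd
        obtain ⟨r, hr, s, hs, rfl⟩ := hdec d hd
        exact Subgroup.mul_mem _
          (Subgroup.mem_sup_right (Subgroup.mem_inf.mpr
            ⟨hDkL (Subgroup.mem_inf.mp hr).2, (Subgroup.mem_inf.mp hr).1⟩))
          (Subgroup.mem_sup_left (Subgroup.mem_inf.mp hs).1)
      intro d hd
      obtain ⟨u, hu, hun⟩ := pow_mem_sup_of_le_normalizer (hPL.trans hCLn) (hsub hd)
      obtain ⟨j, hj⟩ := isPGroup_pow hPp hu
      obtain ⟨c, hc, hdc⟩ := hun (p ^ j)
      refine ⟨j, ?_⟩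
      rw [hdc, hj, one_mul]
      exact (Subgroup.mem_inf.mp hc).2

/-- `Y_G ∩ L` for subnormal `L`: all assertions of the subnormal lemma -/
theorem largestPReduced_inf_of_isSubnormal [Finite G] [Fact p.Prime] {L : Subgroup G}
    (hL : L.IsSubnormal) :
    Cfsg.largestPReduced p G ⊓ L = Cfsg.largestPReduced p G ⊓ Cfsg.largestPReducedOf p L ∧
    Cfsg.IsPReducedNormal p ((Cfsg.largestPReduced p G ⊓ L).subgroupOf L) ∧
    L ⊓ Subgroup.centralizer (Cfsg.largestPReducedOf p L : Set G) =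
      L ⊓ Subgroup.centralizer (Cfsg.largestPReduced p G : Set G) ∧
    L ⊓ Subgroup.centralizer (Cfsg.largestPReduced p G : Set G) =
      L ⊓ Subgroup.centralizer ((Cfsg.largestPReduced p G ⊓ L : Subgroup G) : Set G) ∧
    (Cfsg.pResidual p G ≤ L → (⁅Cfsg.largestPReducedOf p L, L⁆ = ⊥ ↔
      ⁅Cfsg.largestPReduced p G, (⊤ : Subgroup G)⁆ = ⊥)) := by
  have hY : PRedIn p ⊤ (Cfsg.largestPReduced p G) := PRedIn_top_largestPReduced
  have hYn : (Cfsg.largestPReduced p G).Normal := largestPReduced_normal p G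
  have hYe : Cfsg.IsElementaryAbelian p (Cfsg.largestPReduced p G) :=
    largestPReduced_isElementaryAbelian
  set Y := Cfsg.largestPReduced p G with hYdef
  have hred := le_centralizer_of_isSubnormal_of_PRedIn_top hL hY
  have hLV : L ≤ Subgroup.normalizer ((Y ⊓ L : Subgroup G) : Set G) := by
    intro l hl
    rw [← cj_eq_self_iff, cj_inf, cj_of_normal, cj_eq_self_of_mem hl]
  -- (4)
  have h4 : L ⊓ Subgroup.centralizer (Y : Set G) =
      L ⊓ Subgroup.centralizer ((Y ⊓ L : Subgroup G) : Set G) := by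
    have h4a : L ⊓ Subgroup.centralizer (Y : Set G) ≤
        L ⊓ Subgroup.centralizer ((Y ⊓ L : Subgroup G) : Set G) :=
      inf_le_inf_left L (Subgroup.centralizer_le (SetLike.coe_subset_coe.mpr inf_le_left))
    apply le_antisymm h4a
    refine le_inf inf_le_left ?_
    apply hred _ inf_le_left
    · intro l hl
      rw [← cj_eq_self_iff, cj_inf, cj_eq_self_of_mem hl,
        cj_eq_self_iff.mpr (normalizer_le_normalizer_centralizer _ (hLV hl))]
    · intro d hd
      obtain ⟨k, hk⟩ := exists_pow_coprime (p := p) d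
      refine ⟨k, ?_⟩
      have hxL : d ^ (p ^ k) ∈ L := L.pow_mem (Subgroup.mem_inf.mp hd).1 _
      have hxC : d ^ (p ^ k) ∈ Subgroup.centralizer ((Y ⊓ L : Subgroup G) : Set G) :=
        Subgroup.pow_mem _ (Subgroup.mem_inf.mp hd).2 _
      rw [Subgroup.mem_centralizer_iff]
      intro y hy
      exact (centralizes_of_isSubnormal hL hYn hYe _ hxL hk
        (fun y' hy' => (Subgroup.mem_centralizer_iff.mp hxC y' hy').symm) y hy).symm
  -- (2)
  have h2 : PRedIn p L (Y ⊓ L) := by
    refine ⟨inf_le_right, hLV, IsElementaryAbelian_of_le hYe inf_le_left, ?_⟩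
    intro D hDL hLD hDp
    refine (hred D hDL hLD ?_).trans (Subgroup.centralizer_le (SetLike.coe_subset_coe.mpr inf_le_left))
    intro d hd
    obtain ⟨k, hk⟩ := hDp d hd
    have h5 : d ^ (p ^ k) ∈ L ⊓ Subgroup.centralizer ((Y ⊓ L : Subgroup G) : Set G) :=
      Subgroup.mem_inf.mpr ⟨L.pow_mem (hDL hd) _, hk⟩
    rw [← h4] at h5
    exact ⟨k, (Subgroup.mem_inf.mp h5).2⟩
  have hVY : Y ⊓ L ≤ Cfsg.largestPReducedOf p L := PRedIn_le_largestPReducedOf h2
  have h3' := inf_centralizer_largestPReduced_le_of_isSubnormal (p := p) hL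
  rw [← hYdef] at h3'
  have h3 : L ⊓ Subgroup.centralizer (Cfsg.largestPReducedOf p L : Set G) =
      L ⊓ Subgroup.centralizer (Y : Set G) := by
    apply le_antisymm
    · rw [h4]
      exact inf_le_inf_left L (Subgroup.centralizer_le hVY)
    · exact le_inf inf_le_left h3'
  refine ⟨?_, isPReducedNormal_of_PRedIn h2, h3, h4, ?_⟩
  · exact le_antisymm (le_inf inf_le_left hVY) (inf_le_inf_left Y (largestPReducedOf_le p L))
  · intro hRL
    rw [Subgroup.commutator_eq_bot_iff_le_centralizer, Subgroup.commutator_eq_bot_iff_le_centralizer,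
      Subgroup.le_centralizer_iff, Subgroup.le_centralizer_iff (H := Y)]
    constructor
    · intro h
      have h6 : L ≤ Subgroup.centralizer (Y : Set G) := by
        have : L ≤ L ⊓ Subgroup.centralizer (Cfsg.largestPReducedOf p L : Set G) := le_inf le_rfl h
        rw [h3] at this
        exact this.trans inf_le_right
      apply hY.2.2.2 ⊤ le_top (by rw [Subgroup.normalizer_eq_top_iff.mpr inferInstance])
      intro d _
      obtain ⟨k, hk⟩ := exists_pow_mem_pResidual (p := p) d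
      exact ⟨k, h6 (hRL hk)⟩
    · intro h
      have : L ≤ L ⊓ Subgroup.centralizer (Y : Set G) := le_inf le_rfl (le_top.trans h)
      rw [← h3] at this
      exact this.trans inf_le_right

end suby

end Cfsg.Agent.Helper47
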