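import Cfsg.Agent.Helper47.Conj

set_option autoImplicit false

namespace Cfsg.Agent.Helper47

open scoped commutatorElement Pointwise

local notation "cj(" g "," Q ")" => Subgroup.map (MulEquiv.toMonoidHom (MulAut.conj g)) Q

section wc

variable {G : Type*} [Group G] [Finite G] {p : ℕ} [hp : Fact p.Prime]

/-- If `Q` is a weakly closed subgroup, then every conjugate of `Q` inside a `p`-subgroup
containing `Q` equals `Q`. -/
theorem wc_of_le_pgroup {Q : Subgroup G} (hwc : Cfsg.IsWeaklyClosedSubgroup p Q) {R : Subgroup G}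
    (hR : IsPGroup p ↥R) (hQR : Q ≤ R) {g : G} (hg : cj(g, Q) ≤ R) : cj(g, Q) = Q := by
  obtain ⟨T, hQT, hT⟩ := hwc
  obtain ⟨h, hh⟩ := exists_cj_le_sylow hR T
  have h1 : cj(h, Q) = Q := hT h ((cj_mono hQR).trans hh)
  have h2 : cj(h * g, Q) = Q := hT (h * g) (by rw [← cj_cj]; exact (cj_mono hg).trans hh)
  rw [← cj_cj] at h2
  exact Subgroup.map_injective (MulAut.conj h).injective (h2.trans h1.symm)

/-- conjugates of a weakly closed subgroup `Q` inside a subgroup `K ≥ Q` are `K`-conjugate to `Q` -/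
theorem wc_conj_in_subgroup {Q : Subgroup G} (hQp : IsPGroup p ↥Q)
    (hwc : Cfsg.IsWeaklyClosedSubgroup p Q) {K : Subgroup G} (hQK : Q ≤ K) {g : G}
    (hg : cj(g, Q) ≤ K) : ∃ k ∈ K, cj(g, Q) = cj(k, Q) := by
  obtain ⟨TK, hTK⟩ := (hQp.comap_subtype (K := K)).exists_le_sylow
  have hQR : Q ≤ (TK : Subgroup ↥K).map K.subtype := by
    intro x hx
    exact ⟨⟨x, hQK hx⟩, hTK (Subgroup.mem_comap.mpr hx), rfl⟩
  obtain ⟨k, hk, hkR⟩ := exists_cj_le_sylow_subgroup (isPGroup_cj hQp g) hg TK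
  rw [cj_cj] at hkR
  have h1 := wc_of_le_pgroup hwc (TK.isPGroup'.map K.subtype) hQR hkR
  refine ⟨k⁻¹, K.inv_mem hk, ?_⟩
  have h2 : cj(k⁻¹, cj(k * g, Q)) = cj(g, Q) := by
    rw [cj_cj, inv_mul_cancel_left]
  rw [← h2, h1]

theorem wc_normalizer_le {Q : Subgroup G} (hwc : Cfsg.IsWeaklyClosedSubgroup p Q) {R : Subgroup G}
    (hR : IsPGroup p ↥R) (hQR : Q ≤ R) :
    Subgroup.normalizer (R : Set G) ≤ Subgroup.normalizer (Q : Set G) := by
  intro n hn
  rw [← cj_eq_self_iff]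
  apply wc_of_le_pgroup hwc hR hQR
  calc cj(n, Q) ≤ cj(n, R) := cj_mono hQR
    _ = R := cj_eq_self_iff.mpr hn

end wc

end Cfsg.Agent.Helper47
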