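import Cfsg.Agent.Helper47.WC

set_option autoImplicit false

namespace Cfsg.Agent.Helper47

open scoped commutatorElement Pointwise

local notation "cj(" g "," Q ")" => Subgroup.map (MulEquiv.toMonoidHom (MulAut.conj g)) Q

section wc2

variable {G : Type*} [Group G]

theorem map_cj {G' : Type*} [Group G'] (f : G →* G') (g : G) (Q : Subgroup G) :
    (cj(g, Q)).map f = cj(f g, Q.map f) := by
  rw [Subgroup.map_map, Subgroup.map_map]
  congr 1
  ext x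
  simp

theorem mem_cj_subgroupOf {K Q : Subgroup G} (k x : ↥K) :
    x ∈ cj(k, Q.subgroupOf K) ↔ (x : G) ∈ cj((k : G), Q) := by
  rw [mem_cj, mem_cj, Subgroup.mem_subgroupOf]
  simp

theorem cj_mul_of_mem_normalizer {Q : Subgroup G} {n t : G}
    (ht : t ∈ Subgroup.normalizer (Q : Set G)) : cj(n * t, Q) = cj(n, Q) := by
  rw [← cj_cj, cj_eq_self_iff.mpr ht]

variable [Finite G] {p : ℕ} [hp : Fact p.Prime]

/-- elements of `N Q` (with `N` normal, `Q` a `p`-group) of order prime to `p` lie in `N` -/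
theorem mem_of_coprime_of_mem_sup {N Q : Subgroup G} [N.Normal] (hQ : IsPGroup p ↥Q) {g : G}
    (hg : g ∈ N ⊔ Q) (hcop : (orderOf g).Coprime p) : g ∈ N := by
  obtain ⟨k, hk⟩ := pow_mem_of_mem_sup_normal hQ hg
  have hc : (p ^ k).Coprime (orderOf g) := Nat.Coprime.pow_left k (Nat.Coprime.symm hcop)
  obtain ⟨m, hm⟩ := exists_pow_eq_self_of_coprime hc
  rw [← hm]
  exact N.pow_mem hk m

/-- `O^p(N Q) ≤ O^p(N)` for `N` normal and `Q` a `p`-subgroup (as subgroups of `G`) -/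
theorem pResidual_sup_le {N Q : Subgroup G} [N.Normal] (hQ : IsPGroup p ↥Q) :
    (Cfsg.pResidual p ↥(N ⊔ Q)).map (N ⊔ Q).subtype ≤ (Cfsg.pResidual p ↥N).map N.subtype := by
  unfold Cfsg.pResidual
  rw [MonoidHom.map_closure, Subgroup.closure_le]
  rintro _ ⟨g, hg, rfl⟩
  have hcop : (orderOf (g : G)).Coprime p := by rw [Subgroup.orderOf_coe]; exact hg
  have hgN : (g : G) ∈ N := mem_of_coprime_of_mem_sup hQ g.2 hcop
  refine ⟨⟨g, hgN⟩, Subgroup.subset_closure ?_, rfl⟩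
  show (orderOf (⟨(g : G), hgN⟩ : ↥N)).Coprime p
  rw [← Subgroup.orderOf_coe]
  exact hcop

theorem pResidual_map_le (N : Subgroup G) :
    (Cfsg.pResidual p ↥N).map N.subtype ≤ N := Subgroup.map_subtype_le _

/-- for a weakly closed `p`-subgroup `Q` and normal `N`: `N = N_N(Q) O^p(N)`, elementwise -/
theorem wc_normal_factor {Q : Subgroup G} (hQp : IsPGroup p ↥Q)
    (hwc : Cfsg.IsWeaklyClosedSubgroup p Q) (N : Subgroup G) [N.Normal] {n : G} (hn : n ∈ N) :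
    ∃ r ∈ (Cfsg.pResidual p ↥N).map N.subtype, ∃ s ∈ N ⊓ Subgroup.normalizer (Q : Set G),
      n = r * s := by
  obtain ⟨SX, hSX⟩ := (hQp.comap_subtype (K := N ⊔ Q)).exists_le_sylow
  have hQS : Q ≤ (SX : Subgroup ↥(N ⊔ Q)).map (N ⊔ Q).subtype := by
    intro x hx
    exact ⟨⟨x, (le_sup_right : Q ≤ N ⊔ Q) hx⟩, hSX (Subgroup.mem_comap.mpr hx), rfl⟩
  have hSN : (SX : Subgroup ↥(N ⊔ Q)).map (N ⊔ Q).subtype ≤ Subgroup.normalizer (Q : Set G) :=
    Subgroup.le_normalizer.trans (wc_normalizer_le hwc (SX.isPGroup'.map _) hQS)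
  have htop := pResidual_sup_sylow SX
  have hmem : (⟨n, (le_sup_left : N ≤ N ⊔ Q) hn⟩ : ↥(N ⊔ Q)) ∈
      ((Cfsg.pResidual p ↥(N ⊔ Q) ⊔ (SX : Subgroup ↥(N ⊔ Q)) : Subgroup ↥(N ⊔ Q)) : Set ↥(N ⊔ Q)) := by
    rw [htop]; exact Subgroup.mem_top _
  rw [Subgroup.normal_mul] at hmem
  obtain ⟨r, hr, s, hs, hrs⟩ := Set.mem_mul.mp hmem
  have hrN : (r : G) ∈ (Cfsg.pResidual p ↥N).map N.subtype :=
    pResidual_sup_le hQp ⟨r, hr, rfl⟩
  have hrs' : (r : G) * (s : G) = n := congrArg Subtype.val hrs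
  have hsN : (s : G) ∈ N := by
    have : (s : G) = (r : G)⁻¹ * n := by rw [← hrs']; group
    rw [this]
    exact N.mul_mem (N.inv_mem (pResidual_map_le N hrN)) hn
  exact ⟨r, hrN, s, ⟨hsN, hSN ⟨s, hs, rfl⟩⟩, hrs'.symm⟩

end wc2

end Cfsg.Agent.Helper47
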