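import Cfsg.Agent.Helper47.WCF

set_option autoImplicit false

namespace Cfsg.Agent.Helper47

open scoped commutatorElement Pointwise

local notation "cj(" g "," Q ")" => Subgroup.map (MulEquiv.toMonoidHom (MulAut.conj g)) Q

section wcf2

variable {G : Type*} [Group G] [Finite G] {p : ℕ} [hp : Fact p.Prime]

/-- one half of the factorization lemma for the weak closure of a weakly closed subgroup -/
theorem wcf_half {Q : Subgroup G} (hQp : IsPGroup p ↥Q)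
    (hwc : Cfsg.IsWeaklyClosedSubgroup p Q) {Hc H₁ H₂ : Subgroup G}
    (hHc : Hc = Cfsg.weakClosure Q ⊤)
    (hH₁ : H₁ ≤ Hc) (hn₁ : Hc ≤ Subgroup.normalizer (H₁ : Set G))
    (hH₂ : H₂ ≤ Hc) (hn₂ : Hc ≤ Subgroup.normalizer (H₂ : Set G))
    (hprod : H₁ ⊔ H₂ = Hc) (hcomm : ⁅H₁, H₂⁆ ≤ Subgroup.normalizer (Q : Set G))
    {K₁ : Subgroup G}
    (hK₁ : K₁ = (Cfsg.pResidual p ↥(Cfsg.weakClosure Q (H₁ ⊔ Q))).map
      (Cfsg.weakClosure Q (H₁ ⊔ Q)).subtype) :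
    ⁅K₁, Q⁆ = K₁ ∧ ⁅K₁, H₁⁆ = K₁ ∧ K₁ ≤ ⁅H₁, H₁⁆ ∧
      Hc ≤ Subgroup.normalizer (K₁ : Set G) ∧ K₁ ≤ H₁ ∧ ⁅K₁, H₂⁆ ≤ Cfsg.pCoreOf p Hc ∧
      (∀ h ∈ H₁, ∃ r ∈ K₁, cj(h, Q) = cj(r, Q)) ∧ K₁ ≤ (Cfsg.pResidual p ↥Hc).map Hc.subtype := by
  obtain ⟨W, hW⟩ : ∃ W, W = Cfsg.weakClosure Q (H₁ ⊔ Q) := ⟨_, rfl⟩
  rw [← hW] at hK₁
  have hQHc : Q ≤ Hc := by rw [hHc]; exact self_le_weakClosure le_top
  have hQW : Q ≤ W := by rw [hW]; exact self_le_weakClosure le_sup_right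
  have hWL : W ≤ H₁ ⊔ Q := by rw [hW]; exact weakClosure_le _ _
  have hLHc : H₁ ⊔ Q ≤ Hc := sup_le hH₁ hQHc
  have hQn₁ : Q ≤ Subgroup.normalizer (H₁ : Set G) := hQHc.trans hn₁
  have hK₁W : K₁ ≤ W := by rw [hK₁]; exact Subgroup.map_subtype_le _
  have hK₁H₁ : K₁ ≤ H₁ := by
    apply wcf_pResidual_map_le_of_le_sup hK₁ hQp hQn₁
    exact hK₁W.trans (hWL.trans (by rw [sup_comm]))
  have hLW : H₁ ⊔ Q ≤ Subgroup.normalizer (W : Set G) := by
    rw [hW]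
    exact Subgroup.le_normalizer.trans (wcf_normalizer_le_normalizer_weakClosure Q (H₁ ⊔ Q))
  have hNWK : Subgroup.normalizer (W : Set G) ≤ Subgroup.normalizer (K₁ : Set G) := by
    rw [hK₁]; exact normalizer_le_normalizer_map_of_characteristic W (Cfsg.pResidual p ↥W)
  have hLK : H₁ ⊔ Q ≤ Subgroup.normalizer (K₁ : Set G) := hLW.trans hNWK
  have hH₁K : H₁ ≤ Subgroup.normalizer (K₁ : Set G) := le_sup_left.trans hLK
  have hQK : Q ≤ Subgroup.normalizer (K₁ : Set G) := le_sup_right.trans hLK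
  -- (1)
  have h1 : ⁅K₁, Q⁆ = K₁ := by
    refine wcf_commutator_pResidual_eq hQp hwc hQW ?_ hK₁
    rw [hW]; exact wcf_weakClosure_idem Q (H₁ ⊔ Q)
  -- the p-core of Hc
  obtain ⟨P₀, hP₀⟩ : ∃ P₀, P₀ = Cfsg.pCoreOf p Hc := ⟨_, rfl⟩
  rw [← hP₀]
  have hP₀p : IsPGroup p ↥P₀ := by rw [hP₀]; exact pCoreOf_isPGroup Hc
  have hP₀Hc : P₀ ≤ Hc := by rw [hP₀]; exact pCoreOf_le p Hc
  have hHcP₀ : Hc ≤ Subgroup.normalizer (P₀ : Set G) := by
    rw [hP₀]; exact le_normalizer_pCoreOf Hc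
  have hP₀Q : P₀ ≤ Subgroup.normalizer (Q : Set G) := by
    have hpg : IsPGroup p ↥(P₀ ⊔ Q) := isPGroup_sup_of_le_normalizer hP₀p hQp (hQHc.trans hHcP₀)
    have := wc_normalizer_le hwc hpg le_sup_right
    exact le_sup_left.trans (Subgroup.le_normalizer.trans this)
  have hP₀K : P₀ ≤ Subgroup.normalizer (K₁ : Set G) := by
    have h1 : P₀ ≤ Subgroup.normalizer ((H₁ ⊔ Q : Subgroup G) : Set G) :=
      le_trans (le_inf (hP₀Hc.trans hn₁) hP₀Q)
        (Subgroup.normalizer_inf_normalizer_le_normalizer_sup _ _)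
    refine h1.trans (le_trans ?_ hNWK)
    rw [hW]; exact wcf_normalizer_le_normalizer_weakClosure Q (H₁ ⊔ Q)
  -- D = [H₁, H₂]
  obtain ⟨D, hD⟩ : ∃ D, D = ⁅H₁, H₂⁆ := ⟨_, rfl⟩
  rw [← hD] at hcomm
  have hDHc : D ≤ Hc := by
    rw [hD, Subgroup.commutator_le]
    intro a ha b hb
    rw [commutatorElement_def]
    exact Hc.mul_mem (Hc.mul_mem (Hc.mul_mem (hH₁ ha) (hH₂ hb)) (Hc.inv_mem (hH₁ ha)))
      (Hc.inv_mem (hH₂ hb))
  have hHcD : Hc ≤ Subgroup.normalizer (D : Set G) := by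
    rw [hD]
    exact le_trans (le_inf hn₁ hn₂) (normalizer_inf_normalizer_le_normalizer_commutator H₁ H₂)
  have hiSup : (⨆ g : {g : G // cj(g, Q) ≤ (⊤ : Subgroup G)}, cj((g : G), Q)) = Hc := hHc.symm
  have hDP : ⁅Hc, D⁆ ≤ P₀ := by
    have key := commutator_iSup_le
      (fun g : {g : G // cj(g, Q) ≤ (⊤ : Subgroup G)} => cj((g : G), Q)) D P₀
      (by rw [hiSup]; exact hHcP₀)
      (by
        rintro ⟨g, hg⟩ a ha d hd
        have hQ'Hc : cj(g, Q) ≤ Hc := by rw [hHc]; exact le_weakClosure hg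
        obtain ⟨h, hh, e⟩ := wc_conj_in_subgroup hQp hwc hQHc hQ'Hc
        have hDN : D ≤ Subgroup.normalizer ((cj(g, Q) : Subgroup G) : Set G) := by
          rw [e, normalizer_cj]
          calc D = cj(h, D) := (cj_eq_self_iff.mpr (hHcD hh)).symm
            _ ≤ cj(h, Subgroup.normalizer (Q : Set G)) := cj_mono hcomm
        have hQ'D : cj(g, Q) ≤ Subgroup.normalizer (D : Set G) := hQ'Hc.trans hHcD
        have hmem : ⁅a, d⁆ ∈ D ⊓ cj(g, Q) :=
          ⟨wcf_commutator_le_right hQ'D (Subgroup.commutator_mem_commutator ha hd),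
            wcf_commutator_le_left hDN (Subgroup.commutator_mem_commutator ha hd)⟩
        have hle : D ⊓ cj(g, Q) ≤ Cfsg.pCoreOf p D := by
          apply le_pCoreOf inf_le_left ((isPGroup_cj hQp g).to_le inf_le_right)
          exact le_trans (le_inf Subgroup.le_normalizer hDN)
            Subgroup.inf_normalizer_le_normalizer_inf
        rw [hP₀]
        exact pCoreOf_le_pCoreOf hDHc hHcD (hle hmem))
    rwa [hiSup] at key
  -- C = [K₁, H₁]
  obtain ⟨C, hC⟩ : ∃ C, C = ⁅K₁, H₁⁆ := ⟨_, rfl⟩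
  rw [← hC]
  have hCK : C ≤ K₁ := by rw [hC]; exact wcf_commutator_le_left hH₁K
  have hLC : H₁ ⊔ Q ≤ Subgroup.normalizer (C : Set G) := by
    rw [hC]
    exact le_trans (le_inf hLK (sup_le Subgroup.le_normalizer hQn₁))
      (normalizer_inf_normalizer_le_normalizer_commutator K₁ H₁)
  have h2a : K₁ ≤ C ⊔ D := by
    conv_lhs => rw [← h1]
    rw [Subgroup.commutator_le]
    intro k hk q hq
    have hq' : q ∈ ((H₁ ⊔ H₂ : Subgroup G) : Set G) := by rw [hprod]; exact hQHc hq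
    rw [Subgroup.coe_mul_of_left_le_normalizer_right H₁ H₂ (hH₁.trans hn₂)] at hq'
    obtain ⟨a, ha, b, hb, rfl⟩ := Set.mem_mul.mp hq'
    have e : ⁅k, a * b⁆ = ⁅k, a⁆ * (a * ⁅k, b⁆ * a⁻¹) := by
      simp [commutatorElement_def, mul_assoc]
    rw [e]
    refine Subgroup.mul_mem _ (Subgroup.mem_sup_left ?_) (Subgroup.mem_sup_right ?_)
    · rw [hC]; exact Subgroup.commutator_mem_commutator hk ha
    · have hkb : ⁅k, b⁆ ∈ D := by
        rw [hD]; exact Subgroup.commutator_mem_commutator (hK₁H₁ hk) hb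
      exact (Subgroup.mem_normalizer_iff.mp (hHcD (hH₁ ha)) _).mp hkb
  have hCHc : C ≤ Hc := hCK.trans (hK₁H₁.trans hH₁)
  have h2b : K₁ ≤ (P₀ ⊓ K₁) ⊔ C := by
    conv_lhs => rw [← h1]
    rw [Subgroup.commutator_le]
    intro k hk q hq
    have hk' : k ∈ ((C ⊔ D : Subgroup G) : Set G) := h2a hk
    rw [Subgroup.coe_mul_of_left_le_normalizer_right C D (hCHc.trans hHcD)] at hk'
    obtain ⟨c, hc, d, hd, rfl⟩ := Set.mem_mul.mp hk'
    have hdK : d ∈ K₁ := by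
      have : d = c⁻¹ * (c * d) := by group
      rw [this]; exact K₁.mul_mem (K₁.inv_mem (hCK hc)) hk
    have e : ⁅c * d, q⁆ = (c * ⁅d, q⁆ * c⁻¹) * ⁅c, q⁆ := by
      simp [commutatorElement_def, mul_assoc]
    rw [e]
    refine Subgroup.mul_mem _ (Subgroup.mem_sup_left ?_) (Subgroup.mem_sup_right ?_)
    · have hdq : ⁅d, q⁆ ∈ P₀ ⊓ K₁ := by
        refine ⟨?_, ?_⟩
        · have h3 := hDP (Subgroup.commutator_mem_commutator (hQHc hq) hd)
          have e2 : ⁅d, q⁆ = (⁅q, d⁆)⁻¹ := (commutatorElement_inv q d).symm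
          rw [e2]; exact P₀.inv_mem h3
        · have h3 := Subgroup.commutator_mem_commutator hdK hq
          rw [h1] at h3; exact h3
      have hcn : c ∈ Subgroup.normalizer ((P₀ ⊓ K₁ : Subgroup G) : Set G) :=
        Subgroup.inf_normalizer_le_normalizer_inf
          ⟨hHcP₀ (hCHc hc), Subgroup.le_normalizer (hCK hc)⟩
      exact (Subgroup.mem_normalizer_iff.mp hcn _).mp hdq
    · exact wcf_commutator_le_left (le_sup_right.trans hLC)
        (Subgroup.commutator_mem_commutator hc hq)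
  have h2 : C = K₁ := by
    apply le_antisymm hCK
    apply wcf_pResidual_map_le_of_le_sup hK₁ (hP₀p.to_le inf_le_left) ?_ h2b
    exact inf_le_right.trans (hK₁H₁.trans (le_sup_left.trans hLC))
  have h3 : K₁ ≤ ⁅H₁, H₁⁆ := by
    conv_lhs => rw [← h2, hC]
    exact Subgroup.commutator_mono hK₁H₁ le_rfl
  have h5 : ⁅K₁, H₂⁆ ≤ P₀ := by
    have h5' : ⁅⁅K₁, H₁⁆, H₂⁆ ≤ P₀ := by
      apply wcf_commutator_commutator_le_of_rotate_rel (M := Hc) (hK₁H₁.trans hH₁) hH₁ hH₂ hHcP₀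
      · rw [← hD, Subgroup.commutator_comm]
        exact (Subgroup.commutator_mono (hK₁H₁.trans hH₁) le_rfl).trans hDP
      · rw [Subgroup.commutator_comm]
        refine (Subgroup.commutator_mono hH₁ ?_).trans hDP
        rw [hD, Subgroup.commutator_comm]
        exact Subgroup.commutator_mono hK₁H₁ le_rfl
    rw [← hC, h2] at h5'
    exact h5'
  have h4 : Hc ≤ Subgroup.normalizer (K₁ : Set G) := by
    rw [← hprod]
    refine sup_le hH₁K ?_
    intro h hh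
    apply wcf_mem_normalizer_pResidual_map hK₁ hP₀p hP₀K
    rintro _ ⟨k, hk, rfl⟩
    have e : (MulAut.conj h).toMonoidHom k = (⁅k, h⁆)⁻¹ * k := by
      simp [commutatorElement_def, mul_assoc]
    rw [e]
    exact Subgroup.mul_mem _
      (Subgroup.mem_sup_left (P₀.inv_mem (h5 (Subgroup.commutator_mem_commutator hk hh))))
      (Subgroup.mem_sup_right hk)
  have h7 : ∀ h ∈ H₁, ∃ r ∈ K₁, cj(h, Q) = cj(r, Q) := by
    intro h hh
    have hg : cj(h, Q) ≤ W := by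
      rw [hW]
      apply le_weakClosure
      calc cj(h, Q) ≤ cj(h, H₁ ⊔ Q) := cj_mono le_sup_right
        _ = H₁ ⊔ Q := cj_eq_self_of_mem (Subgroup.mem_sup_left hh)
    rw [hK₁]
    exact wcf_conj_pResidual hQp hwc hQW hg
  have h8 : K₁ ≤ (Cfsg.pResidual p ↥Hc).map Hc.subtype := by
    rw [hK₁]; exact pResidual_map_mono (hWL.trans hLHc)
  exact ⟨h1, h2, h3, h4, hK₁H₁, h5, h7, h8⟩

end wcf2

end Cfsg.Agent.Helper47
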