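import Cfsg.Agent.Helper47.LargeP

set_option autoImplicit false

namespace Cfsg.Agent.Helper47

open scoped commutatorElement Pointwise

local notation "cj(" g "," Q ")" => Subgroup.map (MulEquiv.toMonoidHom (MulAut.conj g)) Q

section wcl

variable {G : Type*} [Group G] {p : ℕ}

/-- if the generators `S i` of `W = ⨆ S i` satisfy `[S i, C] ⊆ N` with `N` normalized by `W`,
then `[W, C] ≤ N` -/
theorem commutator_iSup_le {ι : Sort*} (S : ι → Subgroup G) (C N : Subgroup G)
    (hN : (⨆ i, S i) ≤ Subgroup.normalizer (N : Set G))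
    (h : ∀ i, ∀ a ∈ S i, ∀ c ∈ C, ⁅a, c⁆ ∈ N) : ⁅⨆ i, S i, C⁆ ≤ N := by
  rw [Subgroup.commutator_le]
  intro a ha
  induction ha using Subgroup.iSup_induction' with
  | hp i x hx => exact h i x hx
  | h1 =>
    intro c _
    rw [commutatorElement_one_left]
    exact N.one_mem
  | hmul x y hx hy ihx ihy =>
    intro c hc
    have e : ⁅x * y, c⁆ = x * ⁅y, c⁆ * x⁻¹ * ⁅x, c⁆ := by
      simp only [commutatorElement_def]; group
    rw [e]
    exact N.mul_mem ((Subgroup.mem_normalizer_iff.mp (hN hx) _).mp (ihy c hc)) (ihx c hc)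

/-- `Q!`: the centralizer of a nontrivial element of `C(Q)` normalizes the large subgroup `Q` -/
theorem isLarge_centralizer_singleton_le {Q : Subgroup G} (hL : Cfsg.IsLarge Q) {y : G}
    (hy1 : y ≠ 1) (hyQ : y ∈ Subgroup.centralizer (Q : Set G)) :
    Subgroup.centralizer ({y} : Set G) ≤ Subgroup.normalizer (Q : Set G) := by
  refine (centralizer_singleton_le_normalizer_zpowers y).trans (hL.2 _ ?_ ?_)
  · rw [Subgroup.zpowers_le]; exact hyQ
  · intro h
    apply hy1
    have : y ∈ Subgroup.zpowers y := Subgroup.mem_zpowers y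
    rw [h, Subgroup.mem_bot] at this
    exact this

/-- for a large `p`-subgroup `Q` normalizing a nontrivial `p`-subgroup `Y`: `C(Y) ≤ N(Q)` -/
theorem isLarge_centralizer_le_normalizer [Finite G] [Fact p.Prime] {Q : Subgroup G}
    (hQp : IsPGroup p ↥Q) (hL : Cfsg.IsLarge Q) {Y : Subgroup G} (hYp : IsPGroup p ↥Y)
    (hY1 : Y ≠ ⊥) (hQY : Q ≤ Subgroup.normalizer (Y : Set G)) :
    Subgroup.centralizer (Y : Set G) ≤ Subgroup.normalizer (Q : Set G) := by
  obtain ⟨y, hyY, hy1, hyQ⟩ := exists_ne_one_mem_centralizer_of_isPGroup hYp hQp hY1 hQY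
  exact (Subgroup.centralizer_le (Set.singleton_subset_iff.mpr hyY)).trans
    (isLarge_centralizer_singleton_le hL hy1 hyQ)

theorem le_weakClosure {Q L : Subgroup G} {g : G} (hg : cj(g, Q) ≤ L) :
    cj(g, Q) ≤ Cfsg.weakClosure Q L :=
  le_iSup (fun g : {g : G // cj(g, Q) ≤ L} => cj((g : G), Q)) ⟨g, hg⟩

theorem weakClosure_le (Q L : Subgroup G) : Cfsg.weakClosure Q L ≤ L := by
  unfold Cfsg.weakClosure
  apply iSup_le
  rintro ⟨g, hg⟩
  exact hg

theorem self_le_weakClosure {Q L : Subgroup G} (hQL : Q ≤ L) : Q ≤ Cfsg.weakClosure Q L := by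
  have h1L : cj((1 : G), Q) ≤ L := by rw [cj_one]; exact hQL
  have := le_weakClosure h1L
  rw [cj_one] at this
  exact this

end wcl

end Cfsg.Agent.Helper47
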