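import Cfsg.Agent.Helper47.SN

set_option autoImplicit false

namespace Cfsg.Agent.Helper47

open scoped commutatorElement Pointwise

local notation "cj(" g "," Q ")" => Subgroup.map (MulEquiv.toMonoidHom (MulAut.conj g)) Q

section yl

variable {G : Type*} [Group G] {p : ℕ}

theorem largestPReduced_normal (p : ℕ) (L : Type*) [Group L] :
    (Cfsg.largestPReduced p L).Normal :=
  Subgroup.sSup_normal _ (fun _ hV => hV.1)

theorem pCore_le_centralizer_of_isPReducedNormal [Fact p.Prime] [Finite G] {V : Subgroup G}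
    (hV : Cfsg.IsPReducedNormal p V) : Cfsg.pCore p G ≤ Subgroup.centralizer (V : Set G) := by
  obtain ⟨_, _, hCn, hC⟩ := hV
  have h1 : (Cfsg.pCore p G).map (QuotientGroup.mk' (Subgroup.centralizer (V : Set G))) ≤
      Cfsg.pCore p (G ⧸ Subgroup.centralizer (V : Set G)) :=
    le_pCore (Subgroup.Normal.map inferInstance _ (QuotientGroup.mk'_surjective _))
      ((pCore_isPGroup p G).map _)
  rw [hC] at h1
  intro x hx
  have h2 : QuotientGroup.mk' (Subgroup.centralizer (V : Set G)) x ∈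
      (⊥ : Subgroup (G ⧸ Subgroup.centralizer (V : Set G))) := h1 ⟨x, hx, rfl⟩
  rw [Subgroup.mem_bot] at h2
  exact (QuotientGroup.eq_one_iff x).mp h2

theorem pCore_le_centralizer_largestPReduced [Fact p.Prime] [Finite G] :
    Cfsg.pCore p G ≤ Subgroup.centralizer (Cfsg.largestPReduced p G : Set G) := by
  rw [Subgroup.le_centralizer_iff]
  apply sSup_le
  intro V hV
  rw [← Subgroup.le_centralizer_iff]
  exact pCore_le_centralizer_of_isPReducedNormal hV

theorem le_normalizer_map_subtype_of_normal (M : Subgroup G) (N : Subgroup ↥M) [hN : N.Normal] :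
    M ≤ Subgroup.normalizer ((N.map M.subtype : Subgroup G) : Set G) := by
  have h := Subgroup.le_normalizer_map (H := N) M.subtype
  rw [Subgroup.normalizer_eq_top_iff.mpr hN] at h
  have e : (⊤ : Subgroup ↥M).map M.subtype = M := by
    rw [← MonoidHom.range_eq_map, Subgroup.range_subtype]
  rwa [e] at h

theorem le_normalizer_largestPReducedOf (p : ℕ) (M : Subgroup G) :
    M ≤ Subgroup.normalizer (Cfsg.largestPReducedOf p M : Set G) :=
  haveI := largestPReduced_normal p ↥M
  le_normalizer_map_subtype_of_normal M _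

theorem largestPReducedOf_le (p : ℕ) (M : Subgroup G) : Cfsg.largestPReducedOf p M ≤ M :=
  Subgroup.map_subtype_le _

theorem pCoreOf_le (p : ℕ) (M : Subgroup G) : Cfsg.pCoreOf p M ≤ M :=
  Subgroup.map_subtype_le _

theorem pCoreOf_isPGroup [Fact p.Prime] [Finite G] (M : Subgroup G) :
    IsPGroup p ↥(Cfsg.pCoreOf p M) :=
  (pCore_isPGroup p ↥M).map _

theorem le_normalizer_pCoreOf [Fact p.Prime] [Finite G] (M : Subgroup G) :
    M ≤ Subgroup.normalizer (Cfsg.pCoreOf p M : Set G) :=
  le_normalizer_map_subtype_of_normal M _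

theorem normalizer_le_normalizer_pCoreOf [Fact p.Prime] [Finite G] (M : Subgroup G) :
    Subgroup.normalizer (M : Set G) ≤ Subgroup.normalizer (Cfsg.pCoreOf p M : Set G) :=
  normalizer_le_normalizer_map_of_characteristic M _

theorem le_pCoreOf {M P : Subgroup G} (hPM : P ≤ M) (hP : IsPGroup p ↥P)
    (hn : M ≤ Subgroup.normalizer (P : Set G)) : P ≤ Cfsg.pCoreOf p M := by
  have hN : (P.subgroupOf M).Normal := (Subgroup.normal_subgroupOf_iff_le_normalizer hPM).mpr hn
  have h := le_pCore hN (hP.comap_subtype (K := M))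
  intro x hx
  exact ⟨⟨x, hPM hx⟩, h (Subgroup.mem_subgroupOf.mpr hx), rfl⟩

theorem pCoreOf_le_sylow [Fact p.Prime] [Finite G] {M : Subgroup G} (S : Sylow p G)
    (hSM : (S : Subgroup G) ≤ M) : Cfsg.pCoreOf p M ≤ S := by
  rintro _ ⟨x, hx, rfl⟩
  exact Subgroup.mem_subgroupOf.mp (pCore_le_sylow (S.subtype hSM) hx)

theorem pCoreOf_le_centralizer_largestPReducedOf [Fact p.Prime] [Finite G] (M : Subgroup G) :
    Cfsg.pCoreOf p M ≤ Subgroup.centralizer (Cfsg.largestPReducedOf p M : Set G) := by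
  rintro _ ⟨x, hx, rfl⟩
  rw [Subgroup.mem_centralizer_iff]
  rintro _ ⟨y, hy, rfl⟩
  have h := pCore_le_centralizer_largestPReduced hx
  rw [Subgroup.mem_centralizer_iff] at h
  exact congrArg Subtype.val (h y hy)

/-- in a `p`-closed subgroup, every `p`-subgroup lies in the `p`-core -/
theorem le_pCoreOf_of_isPClosed [Fact p.Prime] [Finite G] {D R : Subgroup G}
    (h : Cfsg.IsPClosed p ↥D) (hR : IsPGroup p ↥R) (hRD : R ≤ D) : R ≤ Cfsg.pCoreOf p D := by
  obtain ⟨P, hP⟩ := (hR.comap_subtype (K := D)).exists_le_sylow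
  rw [sylow_eq_pCore_of_isPClosed h P] at hP
  intro x hx
  exact ⟨⟨x, hRD hx⟩, hP (Subgroup.mem_subgroupOf.mpr hx), rfl⟩

/-- `O_p` of a subgroup `D ≤ M` normalized by `M` lies in `O_p(M)` -/
theorem pCoreOf_le_pCoreOf [Fact p.Prime] [Finite G] {D M : Subgroup G} (hDM : D ≤ M)
    (hn : M ≤ Subgroup.normalizer (D : Set G)) : Cfsg.pCoreOf p D ≤ Cfsg.pCoreOf p M :=
  le_pCoreOf ((pCoreOf_le p D).trans hDM) (pCoreOf_isPGroup D)
    (hn.trans (normalizer_le_normalizer_pCoreOf D))

theorem normalizer_le_normalizer_centralizer (Y : Subgroup G) :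
    Subgroup.normalizer (Y : Set G) ≤
      Subgroup.normalizer ((Subgroup.centralizer (Y : Set G) : Subgroup G) : Set G) := by
  intro g hg
  rw [← cj_eq_self_iff, ← centralizer_cj, cj_eq_self_iff.mpr hg]

/-- `O_p(M) = S ∩ C_G(Y_M)` when `C_M(Y_M)` is `p`-closed and `S ≤ M` is Sylow. -/
theorem pCoreOf_eq_sylow_inf_centralizer [Fact p.Prime] [Finite G] (S : Sylow p G) {M : Subgroup G}
    (hSM : (S : Subgroup G) ≤ M)
    (hcl : Cfsg.IsPClosed p ↥(M ⊓ Subgroup.centralizer (Cfsg.largestPReducedOf p M : Set G))) :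
    Cfsg.pCoreOf p M = (S : Subgroup G) ⊓ Subgroup.centralizer (Cfsg.largestPReducedOf p M : Set G) := by
  apply le_antisymm
  · exact le_inf (pCoreOf_le_sylow S hSM) (pCoreOf_le_centralizer_largestPReducedOf M)
  · have h1 : (S : Subgroup G) ⊓ Subgroup.centralizer (Cfsg.largestPReducedOf p M : Set G) ≤
        M ⊓ Subgroup.centralizer (Cfsg.largestPReducedOf p M : Set G) :=
      inf_le_inf_right _ hSM
    have h2 := le_pCoreOf_of_isPClosed hcl (S.isPGroup'.to_le inf_le_left) h1
    refine h2.trans (pCoreOf_le_pCoreOf inf_le_left ?_)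
    intro m hm
    rw [← cj_eq_self_iff, cj_inf, cj_eq_self_of_mem hm,
      cj_eq_self_iff.mpr (normalizer_le_normalizer_centralizer _
        (le_normalizer_largestPReducedOf p M hm))]

end yl

end Cfsg.Agent.Helper47
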