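import Cfsg.Agent.Helper47.Burn

set_option autoImplicit false

namespace Cfsg.Agent.Helper47

open scoped commutatorElement Pointwise

local notation "cj(" g "," Q ")" => Subgroup.map (MulEquiv.toMonoidHom (MulAut.conj g)) Q

section ymin

variable {L : Type*} [Group L]

theorem isCoatom_cj {M : Subgroup L} (hM : IsCoatom M) (g : L) : IsCoatom (cj(g, M)) :=
  ((MulAut.conj g).mapSubgroup.isCoatom_iff M).mpr hM

/-- binary version of `commutator_iSup_le` -/
theorem commutator_sup_le {H₁ H₂ C N : Subgroup L}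
    (hN : H₁ ⊔ H₂ ≤ Subgroup.normalizer (N : Set L))
    (h₁ : ⁅H₁, C⁆ ≤ N) (h₂ : ⁅H₂, C⁆ ≤ N) : ⁅H₁ ⊔ H₂, C⁆ ≤ N := by
  rw [sup_eq_iSup] at hN ⊢
  apply commutator_iSup_le _ C N hN
  intro b a ha c hc
  cases b with
  | true => exact h₁ (Subgroup.commutator_mem_commutator ha hc)
  | false => exact h₂ (Subgroup.commutator_mem_commutator ha hc)

variable [Finite L]

/-- the unique maximal subgroup over `Y` of a `Y`-minimal group is self-normalizing -/
theorem isMinimalOver_not_normal {Y L₀ : Subgroup L} (hmin : Cfsg.IsMinimalOver Y)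
    (hL₀ : IsCoatom L₀) (hY : Y ≤ L₀) : ¬ L₀.Normal := by
  intro hn
  have h1 : Subgroup.normalClosure (Y : Set L) ≤ L₀ := Subgroup.normalClosure_le_normal hY
  rw [hmin.1] at h1
  exact hL₀.1 (top_le_iff.mp h1)

theorem isMinimalOver_normalizer_eq {Y L₀ : Subgroup L} (hmin : Cfsg.IsMinimalOver Y)
    (hL₀ : IsCoatom L₀) (hY : Y ≤ L₀) : Subgroup.normalizer (L₀ : Set L) = L₀ := by
  by_contra hne
  have hlt : L₀ < Subgroup.normalizer (L₀ : Set L) := lt_of_le_of_ne Subgroup.le_normalizer (Ne.symm hne)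
  have htop := hL₀.2 _ hlt
  exact isMinimalOver_not_normal hmin hL₀ hY (Subgroup.normalizer_eq_top_iff.mp htop)

theorem isMinimalOver_coatom_unique {Y L₀ M : Subgroup L} (hmin : Cfsg.IsMinimalOver Y)
    (hL₀ : IsCoatom L₀) (hY : Y ≤ L₀) (hM : IsCoatom M) (hYM : Y ≤ M) : M = L₀ := by
  obtain ⟨M₀, -, huniq⟩ := hmin.2
  rw [huniq M ⟨hM, hYM⟩, huniq L₀ ⟨hL₀, hY⟩]

/-- a proper subgroup containing `Y` lies in the unique maximal subgroup over `Y` -/
theorem isMinimalOver_le_of_ne_top {Y L₀ X : Subgroup L} (hmin : Cfsg.IsMinimalOver Y)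
    (hL₀ : IsCoatom L₀) (hY : Y ≤ L₀) (hYX : Y ≤ X) (hX : X ≠ ⊤) : X ≤ L₀ := by
  obtain ⟨M, hM, hXM⟩ := (eq_top_or_exists_le_coatom X).resolve_left hX
  rw [← isMinimalOver_coatom_unique hmin hL₀ hY hM (hYX.trans hXM)]
  exact hXM

/-- `L = ⟨Y, Y^g⟩` for `g` outside the unique maximal subgroup over `Y` -/
theorem isMinimalOver_sup_cj_eq_top {Y L₀ : Subgroup L} (hmin : Cfsg.IsMinimalOver Y)
    (hL₀ : IsCoatom L₀) (hY : Y ≤ L₀) {g : L} (hg : g ∉ L₀) : Y ⊔ cj(g, Y) = ⊤ := by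
  by_contra hne
  have h1 : Y ⊔ cj(g, Y) ≤ L₀ := isMinimalOver_le_of_ne_top hmin hL₀ hY le_sup_left hne
  have h2 : Y ≤ cj(g⁻¹, L₀) := cj_le_iff.mp (le_sup_right.trans h1)
  have h3 : cj(g⁻¹, L₀) = L₀ :=
    isMinimalOver_coatom_unique hmin hL₀ hY (isCoatom_cj hL₀ g⁻¹) h2
  have h4 : g⁻¹ ∈ Subgroup.normalizer (L₀ : Set L) := cj_eq_self_iff.mp h3
  rw [isMinimalOver_normalizer_eq hmin hL₀ hY] at h4
  exact hg (by simpa using L₀.inv_mem h4)

/-- structure of `A = ⟨(O_p(L) ∩ Y)^L⟩` in a `Y`-minimal group with `O_p(L) ≤ N(Y)` -/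
theorem yminimal_structure {p : ℕ} [Fact p.Prime] {L₀ Y : Subgroup L} (hL₀ : IsCoatom L₀)
    (hYL₀ : Y ≤ L₀) (hYel : Cfsg.IsElementaryAbelian p Y) (hmin : Cfsg.IsMinimalOver Y)
    (hOY : Cfsg.pCore p L ≤ Subgroup.normalizer (Y : Set L)) (A : Subgroup L)
    (hA : A = Subgroup.normalClosure (((Cfsg.pCore p L ⊓ Y : Subgroup L)) : Set L)) {g : L}
    (hg : g ∉ L₀) :
    (frattini ↥A).map A.subtype = ⁅A, A⁆ ∧ ⁅A, A⁆ = ⁅A ⊓ Y, A⁆ ∧
    ⁅A ⊓ Y, A⁆ = ⁅A ⊓ Y, A ⊓ cj(g, Y)⁆ ∧ ⁅A ⊓ Y, A⁆ ≤ Y ⊓ Subgroup.center L ∧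
    Y ⊓ cj(g, Y) = Y ⊓ Subgroup.center L ∧
    (A ⊓ Y) ⊓ (A ⊓ cj(g, Y)) = Y ⊓ Subgroup.center L ∧
    A ⊓ Subgroup.center L = Y ⊓ Subgroup.center L := by
  have hgen := isMinimalOver_sup_cj_eq_top hmin hL₀ hYL₀ hg
  have hYg : Cfsg.IsElementaryAbelian p (cj(g, Y)) := IsElementaryAbelian_map hYel _
  have hQn : (Cfsg.pCore p L).Normal := inferInstance
  have hQp : IsPGroup p ↥(Cfsg.pCore p L) := pCore_isPGroup p L
  set Q := Cfsg.pCore p L with hQ
  have hcen : ∀ x : L, (∀ y ∈ Y, x * y = y * x) → (∀ y ∈ cj(g, Y), x * y = y * x) →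
      x ∈ Subgroup.center L := by
    intro x h1 h2
    have h3 : (⊤ : Subgroup L) ≤ Subgroup.centralizer ({x} : Set L) := by
      rw [← hgen]
      apply sup_le
      · intro y hy
        rw [Subgroup.mem_centralizer_iff]
        intro z hz
        rw [Set.mem_singleton_iff] at hz
        rw [hz]; exact h1 y hy
      · intro y hy
        rw [Subgroup.mem_centralizer_iff]
        intro z hz
        rw [Set.mem_singleton_iff] at hz
        rw [hz]; exact h2 y hy
    rw [Subgroup.mem_center_iff]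
    intro z
    exact (Subgroup.mem_centralizer_iff.mp (h3 (Subgroup.mem_top z)) x rfl).symm
  have hconjc : ∀ x ∈ Subgroup.center L, g⁻¹ * x * g = x := by
    intro x hx
    have h1 := Subgroup.mem_center_iff.mp hx g
    rw [mul_assoc, ← h1, inv_mul_cancel_left]
  have hZ : Y ⊓ cj(g, Y) = Y ⊓ Subgroup.center L := by
    apply le_antisymm
    · intro x hx
      obtain ⟨hxY, hxYg⟩ := Subgroup.mem_inf.mp hx
      exact Subgroup.mem_inf.mpr ⟨hxY, hcen x (fun y hy => IsElementaryAbelian_comm hYel hxY hy)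
        (fun y hy => IsElementaryAbelian_comm hYg hxYg hy)⟩
    · intro x hx
      obtain ⟨hxY, hxZ⟩ := Subgroup.mem_inf.mp hx
      refine Subgroup.mem_inf.mpr ⟨hxY, ?_⟩
      rw [mem_cj, hconjc x hxZ]; exact hxY
  have hDA : Q ⊓ Y ≤ A := by rw [hA]; exact Subgroup.le_normalClosure
  have hAn : A.Normal := by rw [hA]; exact Subgroup.normalClosure_normal
  have hAQ : A ≤ Q := by
    rw [hA]; exact Subgroup.normalClosure_le_normal (SetLike.coe_subset_coe.mpr inf_le_left)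
  have hAY : A ⊓ Y = Q ⊓ Y :=
    le_antisymm (le_inf (inf_le_left.trans hAQ) inf_le_right) (le_inf hDA inf_le_right)
  have hAYg : A ⊓ cj(g, Y) = cj(g, Q ⊓ Y) := by
    rw [← hAY, cj_inf, cj_of_normal g A]
  set D := Q ⊓ Y with hD
  have hD'Q : cj(g, D) ≤ Q := by
    calc cj(g, D) ≤ cj(g, Q) := cj_mono inf_le_left
      _ = Q := cj_of_normal g Q
  have hD'Yg : cj(g, D) ≤ cj(g, Y) := cj_mono inf_le_right
  have hD'A : cj(g, D) ≤ A := by
    calc cj(g, D) ≤ cj(g, A) := cj_mono hDA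
      _ = A := cj_of_normal g A
  have hQY : ∀ q ∈ Q, ∀ y ∈ Y, q * y * q⁻¹ * y⁻¹ ∈ D := by
    intro q hq y hy
    refine Subgroup.mem_inf.mpr ⟨?_, ?_⟩
    · have e : q * y * q⁻¹ * y⁻¹ = q * (y * q⁻¹ * y⁻¹) := by group
      rw [e]; exact Q.mul_mem hq (hQn.conj_mem _ (Q.inv_mem hq) y)
    · exact Y.mul_mem ((Subgroup.mem_normalizer_iff.mp (hOY hq) y).mp hy) (Y.inv_mem hy)
  have hQYg : ∀ q ∈ Q, ∀ y ∈ cj(g, Y), q * y * q⁻¹ * y⁻¹ ∈ cj(g, D) := by
    intro q hq y hy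
    rw [mem_cj] at hy
    have hq' : g⁻¹ * q * g ∈ Q := by
      have := hQn.conj_mem q hq g⁻¹
      simpa using this
    have h1 := hQY _ hq' _ hy
    rw [mem_cj]
    have e : g⁻¹ * (q * y * q⁻¹ * y⁻¹) * g =
        (g⁻¹ * q * g) * (g⁻¹ * y * g) * (g⁻¹ * q * g)⁻¹ * (g⁻¹ * y * g)⁻¹ := by group
    rw [e]; exact h1
  set D' := cj(g, D) with hD'
  have hDD' : ⁅D, D'⁆ ≤ D ⊓ D' := by
    rw [Subgroup.commutator_le]
    intro d hd e he
    rw [commutatorElement_def]
    refine Subgroup.mem_inf.mpr ⟨?_, ?_⟩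
    · have h1 := hQY e (hD'Q he) d (Subgroup.mem_inf.mp hd).2
      have e1 : d * e * d⁻¹ * e⁻¹ = (e * d * e⁻¹ * d⁻¹)⁻¹ := by group
      rw [e1]; exact D.inv_mem h1
    · exact hQYg d (Subgroup.mem_inf.mp hd).1 e (hD'Yg he)
  have hDD'Z : D ⊓ D' ≤ Y ⊓ Subgroup.center L := by
    rw [← hZ]
    exact inf_le_inf inf_le_right hD'Yg
  have hZ₀Q : Y ⊓ Subgroup.center L ≤ Q := by
    apply le_pCore
    · constructor
      intro n hn x
      have h1 := Subgroup.mem_center_iff.mp (Subgroup.mem_inf.mp hn).2 x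
      rw [h1, mul_inv_cancel_right]; exact hn
    · exact (IsElementaryAbelian_isPGroup hYel).to_le inf_le_left
  have hZ₀D : Y ⊓ Subgroup.center L ≤ D := le_inf hZ₀Q inf_le_left
  have hZ₀D' : Y ⊓ Subgroup.center L ≤ D' := by
    intro x hx
    rw [hD', mem_cj, hconjc x (Subgroup.mem_inf.mp hx).2]
    exact hZ₀D hx
  have hDD'eq : D ⊓ D' = Y ⊓ Subgroup.center L := le_antisymm hDD'Z (le_inf hZ₀D hZ₀D')
  have hDn : D ≤ Subgroup.normalizer (D' : Set L) :=
    Subgroup.le_normalizer_iff_commutator_le_right.mpr (hDD'.trans inf_le_right)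
  have hEn : (D ⊔ D').Normal := by
    rw [← Subgroup.normalizer_eq_top_iff, eq_top_iff, ← hgen]
    apply sup_le
    · intro y hy
      rw [← cj_eq_self_iff]
      apply cj_eq_of_le
      rw [cj_sup]
      apply sup_le
      · rintro _ ⟨d, hd, rfl⟩
        show y * d * y⁻¹ ∈ D ⊔ D'
        have h1 := IsElementaryAbelian_comm hYel hy (Subgroup.mem_inf.mp hd).2
        rw [h1, mul_inv_cancel_right]; exact Subgroup.mem_sup_left hd
      · rintro _ ⟨e, he, rfl⟩
        show y * e * y⁻¹ ∈ D ⊔ D'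
        have h1 := hQY e (hD'Q he) y hy
        have e1 : y * e * y⁻¹ = (e * y * e⁻¹ * y⁻¹)⁻¹ * e := by group
        rw [e1]
        exact Subgroup.mul_mem _ (Subgroup.mem_sup_left (D.inv_mem h1)) (Subgroup.mem_sup_right he)
    · intro y hy
      rw [← cj_eq_self_iff]
      apply cj_eq_of_le
      rw [cj_sup]
      apply sup_le
      · rintro _ ⟨d, hd, rfl⟩
        show y * d * y⁻¹ ∈ D ⊔ D'
        have h1 := hQYg d (Subgroup.mem_inf.mp hd).1 y hy
        have e1 : y * d * y⁻¹ = (d * y * d⁻¹ * y⁻¹)⁻¹ * d := by group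
        rw [e1]
        exact Subgroup.mul_mem _ (Subgroup.mem_sup_right (D'.inv_mem h1)) (Subgroup.mem_sup_left hd)
      · rintro _ ⟨e, he, rfl⟩
        show y * e * y⁻¹ ∈ D ⊔ D'
        have h1 := IsElementaryAbelian_comm hYg hy (hD'Yg he)
        rw [h1, mul_inv_cancel_right]; exact Subgroup.mem_sup_right he
  have hAeq : A = D ⊔ D' := by
    apply le_antisymm
    · rw [hA]
      exact Subgroup.normalClosure_le_normal (SetLike.coe_subset_coe.mpr (le_sup_left : D ≤ D ⊔ D'))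
    · exact sup_le hDA hD'A
  have hDc : ⁅D, D⁆ = ⊥ := by
    rw [Subgroup.commutator_eq_bot_iff_le_centralizer]
    intro a ha
    rw [Subgroup.mem_centralizer_iff]
    intro b hb
    exact IsElementaryAbelian_comm hYel (Subgroup.mem_inf.mp hb).2 (Subgroup.mem_inf.mp ha).2
  have hD'c : ⁅D', D'⁆ = ⊥ := by
    rw [Subgroup.commutator_eq_bot_iff_le_centralizer]
    intro a ha
    rw [Subgroup.mem_centralizer_iff]
    intro b hb
    exact IsElementaryAbelian_comm hYg (hD'Yg hb) (hD'Yg ha)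
  have hcen' : ⁅D, D'⁆ ≤ Subgroup.center L := (hDD'.trans hDD'Z).trans inf_le_right
  have hNall : ∀ H : Subgroup L, H ≤ Subgroup.normalizer ((⁅D, D'⁆ : Subgroup L) : Set L) := by
    intro H x _
    rw [← cj_eq_self_iff]
    apply cj_eq_of_le
    rintro _ ⟨n, hn, rfl⟩
    show x * n * x⁻¹ ∈ ⁅D, D'⁆
    have h1 := Subgroup.mem_center_iff.mp (hcen' hn) x
    rw [h1, mul_inv_cancel_right]; exact hn
  have hAA : ⁅A, A⁆ = ⁅D, D'⁆ := by
    apply le_antisymm
    · rw [hAeq]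
      apply commutator_sup_le (hNall _)
      · refine (Subgroup.commutator_comm D (D ⊔ D')).le.trans ?_
        apply commutator_sup_le (hNall _)
        · rw [hDc]; exact bot_le
        · exact (Subgroup.commutator_comm D' D).le
      · refine (Subgroup.commutator_comm D' (D ⊔ D')).le.trans ?_
        apply commutator_sup_le (hNall _)
        · exact le_rfl
        · rw [hD'c]; exact bot_le
    · exact Subgroup.commutator_mono hDA hD'A
  have h2 : ⁅A, A⁆ = ⁅A ⊓ Y, A⁆ := by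
    rw [hAY]
    apply le_antisymm
    · rw [hAA]; exact Subgroup.commutator_mono le_rfl hD'A
    · exact Subgroup.commutator_mono hDA le_rfl
  have h3 : ⁅A ⊓ Y, A⁆ = ⁅A ⊓ Y, A ⊓ cj(g, Y)⁆ := by
    rw [← h2, hAA, hAY, hAYg]
  have h4 : ⁅A ⊓ Y, A⁆ ≤ Y ⊓ Subgroup.center L := by
    rw [← h2, hAA]; exact hDD'.trans hDD'Z
  have h6 : (A ⊓ Y) ⊓ (A ⊓ cj(g, Y)) = Y ⊓ Subgroup.center L := by
    rw [hAY, hAYg]; exact hDD'eq
  have h7 : A ⊓ Subgroup.center L = Y ⊓ Subgroup.center L := by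
    apply le_antisymm
    · intro a ha
      obtain ⟨haA, haZ⟩ := Subgroup.mem_inf.mp ha
      have haE : a ∈ ((D ⊔ D' : Subgroup L) : Set L) := by rw [← hAeq]; exact haA
      rw [Subgroup.coe_mul_of_left_le_normalizer_right D D' hDn] at haE
      obtain ⟨d, hd, e, he, rfl⟩ := Set.mem_mul.mp haE
      have hdY : d ∈ Y := (Subgroup.mem_inf.mp hd).2
      have heZ : e ∈ Subgroup.center L := by
        apply hcen
        · intro y hy
          have h5 := Subgroup.mem_center_iff.mp haZ y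
          have h6' := IsElementaryAbelian_comm hYel hdY hy
          calc e * y = d⁻¹ * ((d * e) * y) := by group
            _ = d⁻¹ * (y * (d * e)) := by rw [h5]
            _ = d⁻¹ * (y * d) * e := by group
            _ = d⁻¹ * (d * y) * e := by rw [h6']
            _ = y * e := by group
        · intro y hy
          exact IsElementaryAbelian_comm hYg (hD'Yg he) hy
      have heY : e ∈ Y := by
        have h8 := hD'Yg he
        rw [mem_cj, hconjc e heZ] at h8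
        exact h8
      exact Subgroup.mem_inf.mpr ⟨Y.mul_mem hdY heY, haZ⟩
    · exact le_inf (hZ₀D.trans hDA) inf_le_right
  have h1 : (frattini ↥A).map A.subtype = ⁅A, A⁆ := by
    have hAp : IsPGroup p ↥A := hQp.to_le hAQ
    rw [← Subgroup.map_subtype_commutator]
    congr 1
    apply le_antisymm
    · have hker : ∀ x : ↥A, (Abelianization.of x : Abelianization ↥A) ^ p = 1 := by
        intro x
        have hx : (x : L) ∈ ((D ⊔ D' : Subgroup L) : Set L) := by rw [← hAeq]; exact x.2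
        rw [Subgroup.coe_mul_of_left_le_normalizer_right D D' hDn] at hx
        obtain ⟨d, hd, e, he, hxe⟩ := Set.mem_mul.mp hx
        have e3 : x = (⟨d, hDA hd⟩ : ↥A) * ⟨e, hD'A he⟩ := Subtype.ext hxe.symm
        have hd1 : (⟨d, hDA hd⟩ : ↥A) ^ p = 1 :=
          Subtype.ext (by simpa using hYel.2 d (Subgroup.mem_inf.mp hd).2)
        have he1 : (⟨e, hD'A he⟩ : ↥A) ^ p = 1 :=
          Subtype.ext (by simpa using hYg.2 e (hD'Yg he))
        rw [e3, map_mul, mul_pow, ← map_pow, ← map_pow, hd1, he1, map_one, one_mul]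
      have h9 := frattini_le_ker p (Abelianization.of : ↥A →* Abelianization ↥A) hker
      rwa [Abelianization.ker_of] at h9
    · exact Cfsg.Agent.Helper2.commutator_le_frattini_of_isPGroup hAp
  exact ⟨h1, h2, h3, h4, hZ, h6, h7⟩

end ymin

end Cfsg.Agent.Helper47
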