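import Cfsg.Agent.Helper47.YMin

set_option autoImplicit false

namespace Cfsg.Agent.Helper47

open scoped commutatorElement Pointwise

local notation "cj(" g "," Q ")" => Subgroup.map (MulEquiv.toMonoidHom (MulAut.conj g)) Q

section corr

variable {G : Type*} [Group G]

theorem isCoatom_comap_mk' {N : Subgroup G} [N.Normal] {M : Subgroup (G ⧸ N)} (h : IsCoatom M) :
    IsCoatom (M.comap (QuotientGroup.mk' N)) := by
  have hs := QuotientGroup.mk'_surjective N
  constructor
  · intro htop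
    apply h.1
    rw [← Subgroup.map_comap_eq_self_of_surjective hs M, htop, Subgroup.map_top_of_surjective _ hs]
  · intro X hX
    have hker : (QuotientGroup.mk' N).ker ≤ X := (Subgroup.ker_le_comap _ M).trans hX.le
    have h1 : M ≤ X.map (QuotientGroup.mk' N) := by
      rw [← Subgroup.map_comap_eq_self_of_surjective hs M]
      exact Subgroup.map_mono hX.le
    have h2 : M ≠ X.map (QuotientGroup.mk' N) := by
      intro heq
      have h3 : X ≤ M.comap (QuotientGroup.mk' N) := by rw [heq]; exact Subgroup.le_comap_map _ _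
      exact (not_le_of_gt hX) h3
    have h3 := h.2 _ (lt_of_le_of_ne h1 h2)
    rw [← Subgroup.comap_map_eq_self hker, h3, Subgroup.comap_top]

theorem isCoatom_map_mk' {N M : Subgroup G} [N.Normal] (h : IsCoatom M) (hN : N ≤ M) :
    IsCoatom (M.map (QuotientGroup.mk' N)) := by
  have hs := QuotientGroup.mk'_surjective N
  have hker : (QuotientGroup.mk' N).ker ≤ M := by rw [QuotientGroup.ker_mk']; exact hN
  constructor
  · intro htop
    apply h.1
    rw [← Subgroup.comap_map_eq_self hker, htop, Subgroup.comap_top]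
  · intro X hX
    have h1 : M ≤ X.comap (QuotientGroup.mk' N) := by
      rw [← Subgroup.comap_map_eq_self hker]
      exact Subgroup.comap_mono hX.le
    have h2 : M ≠ X.comap (QuotientGroup.mk' N) := by
      intro heq
      have h3 : X ≤ M.map (QuotientGroup.mk' N) := by
        rw [heq, Subgroup.map_comap_eq_self_of_surjective hs]
      exact (not_le_of_gt hX) h3
    have h3 := h.2 _ (lt_of_le_of_ne h1 h2)
    rw [← Subgroup.map_comap_eq_self_of_surjective hs X, h3, Subgroup.map_top_of_surjective _ hs]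

end corr

section ymin2

variable {L : Type*} [Group L] [Finite L] {p : ℕ} [Fact p.Prime]

/-- in a `Y`-minimal group, `S ∩ N` is normal for `N ⊴ L` inside the maximal subgroup over `Y` -/
theorem isMinimalOver_sylow_inf_normal {Y L₀ : Subgroup L} (hmin : Cfsg.IsMinimalOver Y)
    (hL₀ : IsCoatom L₀) (hY : Y ≤ L₀) (S : Sylow p L) (hYS : Y ≤ (S : Subgroup L))
    (N : Subgroup L) [hN : N.Normal] (hNL₀ : N ≤ L₀) : ((S : Subgroup L) ⊓ N).Normal := by
  have h := Sylow.normalizer_sup_eq_top (sylowInfNormal S N)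
  rw [sylowInfNormal_map] at h
  have hYn : Y ≤ Subgroup.normalizer (((S : Subgroup L) ⊓ N : Subgroup L) : Set L) := by
    intro y hy
    rw [← cj_eq_self_iff, cj_inf, cj_eq_self_of_mem (hYS hy), cj_of_normal y N]
  rw [← Subgroup.normalizer_eq_top_iff]
  by_contra hne
  have hle := isMinimalOver_le_of_ne_top hmin hL₀ hY hYn hne
  have h2 : (⊤ : Subgroup L) ≤ L₀ := by rw [← h]; exact sup_le hle hNL₀
  exact hL₀.1 (top_le_iff.mp h2)

theorem isMinimalOver_isPClosed {Y L₀ : Subgroup L} (hmin : Cfsg.IsMinimalOver Y)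
    (hL₀ : IsCoatom L₀) (hY : Y ≤ L₀) (hYp : IsPGroup p ↥Y)
    (N : Subgroup L) [hN : N.Normal] (hNL₀ : N ≤ L₀) : Cfsg.IsPClosed p ↥N := by
  obtain ⟨S, hYS⟩ := hYp.exists_le_sylow
  have hn := isMinimalOver_sylow_inf_normal hmin hL₀ hY S hYS N hNL₀
  have hPn : ((sylowInfNormal S N : Sylow p ↥N) : Subgroup ↥N).Normal := by
    constructor
    intro x hx n
    rw [sylowInfNormal_coe, Subgroup.mem_subgroupOf] at hx ⊢
    have h1 := hn.conj_mem (x : L) (Subgroup.mem_inf.mpr ⟨hx, x.2⟩) (n : L)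
    exact (Subgroup.mem_inf.mp h1).1
  intro P'
  haveI := Sylow.unique_of_normal (sylowInfNormal S N) hPn
  have h2 : P' = sylowInfNormal S N := Subsingleton.elim _ _
  rw [h2]; exact hPn

theorem isMinimalOver_pCore_le {Y L₀ : Subgroup L} (hmin : Cfsg.IsMinimalOver Y)
    (hL₀ : IsCoatom L₀) (hY : Y ≤ L₀) (hYp : IsPGroup p ↥Y) : Cfsg.pCore p L ≤ L₀ := by
  have hsup : IsPGroup p ↥(Cfsg.pCore p L ⊔ Y) :=
    isPGroup_sup_of_le_normalizer (pCore_isPGroup p L) hYp
      (by rw [Subgroup.normalizer_eq_top_iff.mpr inferInstance]; exact le_top)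
  by_cases htop : Cfsg.pCore p L ⊔ Y = ⊤
  · exfalso
    have hLp : IsPGroup p L := by
      rw [htop] at hsup
      exact hsup.of_equiv Subgroup.topEquiv
    exact isMinimalOver_not_normal hmin hL₀ hY
      (Cfsg.Agent.Helper2.coatom_normal_of_isPGroup hLp L₀ hL₀)
  · exact le_sup_left.trans (isMinimalOver_le_of_ne_top hmin hL₀ hY le_sup_right htop)

/-- the core of the maximal subgroup over `Y` lies in every maximal subgroup containing `O_p(L)` -/
theorem isMinimalOver_core_le_coatom {Y L₀ : Subgroup L} (hmin : Cfsg.IsMinimalOver Y)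
    (hL₀ : IsCoatom L₀) (hY : Y ≤ L₀) (hYp : IsPGroup p ↥Y) {M : Subgroup L} (hM : IsCoatom M)
    (hQM : Cfsg.pCore p L ≤ M) : L₀.normalCore ≤ M := by
  by_contra hDM
  have htop : M ⊔ L₀.normalCore = ⊤ :=
    hM.2 _ (lt_of_le_of_ne le_sup_left (fun h => hDM (by rw [h]; exact le_sup_right)))
  obtain ⟨S, hYS⟩ := hYp.exists_le_sylow
  have hSDn := isMinimalOver_sylow_inf_normal hmin hL₀ hY S hYS L₀.normalCore
    (Subgroup.normalCore_le L₀)
  have hSDQ : (S : Subgroup L) ⊓ L₀.normalCore ≤ Cfsg.pCore p L :=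
    le_pCore hSDn (S.isPGroup'.to_le inf_le_left)
  have hidx : ¬ p ∣ M.index := by
    have h1 : M.relIndex (M ⊔ L₀.normalCore) = M.relIndex L₀.normalCore :=
      relIndex_sup_of_normal M L₀.normalCore
    rw [htop, Subgroup.relIndex_top_right] at h1
    rw [h1, ← Subgroup.inf_relIndex_right]
    intro hdvd
    have h2 : (M ⊓ L₀.normalCore).relIndex L₀.normalCore ∣
        ((S : Subgroup L) ⊓ L₀.normalCore).relIndex L₀.normalCore :=
      Subgroup.relIndex_dvd_of_le_left L₀.normalCore (le_inf (hSDQ.trans hQM) inf_le_right)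
    have h3 : ((S : Subgroup L) ⊓ L₀.normalCore).relIndex L₀.normalCore =
        (S : Subgroup L).relIndex L₀.normalCore := Subgroup.inf_relIndex_right _ _
    rw [h3] at h2
    exact (sylowInfNormal S L₀.normalCore).not_dvd_index (hdvd.trans h2)
  obtain ⟨q, hq⟩ := S.isPGroup'.nonempty_fixed_point_of_prime_not_dvd_card (L ⧸ M)
    (by rwa [← Subgroup.index_eq_card])
  obtain ⟨x, rfl⟩ := QuotientGroup.mk_surjective q
  have hSx : (S : Subgroup L) ≤ cj(x, M) := by
    intro s hs
    rw [mem_cj]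
    have h3 := hq ⟨s, hs⟩
    have h4 : ((s * x : L) : L ⧸ M) = (x : L ⧸ M) := h3
    rw [QuotientGroup.eq] at h4
    have e : x⁻¹ * s * x = ((s * x)⁻¹ * x)⁻¹ := by group
    rw [e]; exact M.inv_mem h4
  have h5 : cj(x, M) = L₀ :=
    isMinimalOver_coatom_unique hmin hL₀ hY (isCoatom_cj hM x) (hYS.trans hSx)
  apply hDM
  calc L₀.normalCore = cj(x⁻¹, L₀.normalCore) := (cj_of_normal x⁻¹ L₀.normalCore).symm
    _ ≤ cj(x⁻¹, L₀) := cj_mono (Subgroup.normalCore_le L₀)
    _ = M := by rw [← h5, cj_cj, inv_mul_cancel, cj_one]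

/-- the core of the maximal subgroup of a `Y`-minimal group: Frattini quotient, `p`-closure -/
theorem yminimal_core {L₀ : Subgroup L} (hL₀ : IsCoatom L₀) (T : Sylow p ↥L₀) {Y : Subgroup L}
    (hYT : Y ≤ (T : Subgroup ↥L₀).map L₀.subtype) (hmin : Cfsg.IsMinimalOver Y) :
    (Cfsg.pCore p L ≤ L₀.normalCore ∧
      (L₀.normalCore).map (QuotientGroup.mk' (Cfsg.pCore p L)) = frattini (L ⧸ Cfsg.pCore p L) ∧
      Cfsg.IsPClosed p ↥(L₀.normalCore)) ∧
    ∀ (N : Subgroup L) [N.Normal], N ≤ L₀ → Cfsg.IsPClosed p ↥N ∧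
      Group.IsNilpotent (↥N ⧸ Cfsg.pCore p ↥N) ∧ (Nat.card (↥N ⧸ Cfsg.pCore p ↥N)).Coprime p := by
  have hY : Y ≤ L₀ := hYT.trans (Subgroup.map_subtype_le _)
  have hYp : IsPGroup p ↥Y := (T.isPGroup'.map _).to_le hYT
  have hQL₀ := isMinimalOver_pCore_le hmin hL₀ hY hYp
  have hQD : Cfsg.pCore p L ≤ L₀.normalCore := Subgroup.normal_le_normalCore.mpr hQL₀
  have hfr : (L₀.normalCore).map (QuotientGroup.mk' (Cfsg.pCore p L)) =
      frattini (L ⧸ Cfsg.pCore p L) := by
    have hs := QuotientGroup.mk'_surjective (Cfsg.pCore p L)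
    apply le_antisymm
    · rw [frattini, Order.radical]
      simp only [le_iInf_iff]
      intro M hM
      rw [Subgroup.map_le_iff_le_comap]
      apply isMinimalOver_core_le_coatom hmin hL₀ hY hYp (isCoatom_comap_mk' hM)
      have h1 := Subgroup.ker_le_comap (QuotientGroup.mk' (Cfsg.pCore p L)) M
      rwa [QuotientGroup.ker_mk'] at h1
    · have hF : (frattini (L ⧸ Cfsg.pCore p L)).comap (QuotientGroup.mk' (Cfsg.pCore p L)) ≤
          L₀.normalCore := by
        haveI : ((frattini (L ⧸ Cfsg.pCore p L)).comap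
            (QuotientGroup.mk' (Cfsg.pCore p L))).Normal := Subgroup.Normal.comap inferInstance _
        rw [Subgroup.normal_le_normalCore]
        have h1 := frattini_le_coatom (isCoatom_map_mk' hL₀ hQL₀)
        have h2 := Subgroup.comap_mono (f := QuotientGroup.mk' (Cfsg.pCore p L)) h1
        rwa [Subgroup.comap_map_eq_self (by rw [QuotientGroup.ker_mk']; exact hQL₀)] at h2
      rw [← Subgroup.map_comap_eq_self_of_surjective hs (frattini (L ⧸ Cfsg.pCore p L))]
      exact Subgroup.map_mono hF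
  refine ⟨⟨hQD, hfr, isMinimalOver_isPClosed hmin hL₀ hY hYp _ (Subgroup.normalCore_le L₀)⟩, ?_⟩
  intro N hN hNL₀
  have hcl := isMinimalOver_isPClosed hmin hL₀ hY hYp N hNL₀
  refine ⟨hcl, ?_, ?_⟩
  · let φ : ↥N →* L ⧸ Cfsg.pCore p L := (QuotientGroup.mk' (Cfsg.pCore p L)).comp N.subtype
    have hmem : ∀ x : ↥N, x ∈ φ.ker ↔ (x : L) ∈ Cfsg.pCore p L := by
      intro x
      rw [MonoidHom.mem_ker]
      show (QuotientGroup.mk' (Cfsg.pCore p L)) (x : L) = 1 ↔ _
      exact QuotientGroup.eq_one_iff _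
    have hle : Cfsg.pCore p ↥N ≤ φ.ker := by
      intro x hx
      rw [hmem]
      have hn := normal_map_of_characteristic N (Cfsg.pCore p ↥N)
      exact le_pCore hn ((pCore_isPGroup p ↥N).map _) ⟨x, hx, rfl⟩
    have hge : φ.ker ≤ Cfsg.pCore p ↥N := by
      apply le_pCore (MonoidHom.normal_ker φ)
      apply isPGroup_of_pow
      intro c hc
      obtain ⟨k, hk⟩ := mem_pCore_pow ((hmem c).mp hc)
      exact ⟨k, Subtype.ext (by simpa using hk)⟩
    have hinj : Function.Injective (QuotientGroup.lift (Cfsg.pCore p ↥N) φ hle) := by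
      rw [← MonoidHom.ker_eq_bot_iff, QuotientGroup.ker_lift, eq_bot_iff]
      rintro _ ⟨x, hx, rfl⟩
      rw [Subgroup.mem_bot]
      exact (QuotientGroup.eq_one_iff x).mpr (hge hx)
    have hrange : ∀ q, QuotientGroup.lift (Cfsg.pCore p ↥N) φ hle q ∈
        frattini (L ⧸ Cfsg.pCore p L) := by
      intro q
      obtain ⟨x, rfl⟩ := QuotientGroup.mk_surjective q
      rw [← hfr]
      exact ⟨(x : L), Subgroup.normal_le_normalCore.mpr hNL₀ x.2, rfl⟩
    have hinj' : Function.Injective ((QuotientGroup.lift (Cfsg.pCore p ↥N) φ hle).codRestrict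
        (frattini (L ⧸ Cfsg.pCore p L)) hrange) := by
      intro a b hab
      apply hinj
      exact congrArg Subtype.val hab
    haveI : Group.IsNilpotent ↥(frattini (L ⧸ Cfsg.pCore p L)) := frattini_nilpotent
    exact Group.nilpotent_of_mulEquiv (MonoidHom.ofInjective hinj').symm
  · obtain ⟨P⟩ : Nonempty (Sylow p ↥N) := inferInstance
    rw [← Subgroup.index_eq_card, ← sylow_eq_pCore_of_isPClosed hcl P]
    exact ((Nat.Prime.coprime_iff_not_dvd Fact.out).mpr P.not_dvd_index).symm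

end ymin2

end Cfsg.Agent.Helper47
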