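import Cfsg.Agent.Helper47.ZL2

set_option autoImplicit false

namespace Cfsg.Agent.Helper47

open scoped commutatorElement Pointwise

local notation "cj(" g "," Q ")" => Subgroup.map (MulEquiv.toMonoidHom (MulAut.conj g)) Q

section ystar

variable {G : Type*} [Group G] {p : ℕ} [Finite G] [Fact p.Prime]

/-- Frattini argument: `M = (M ∩ C)(M ∩ N(T ∩ C))` for `T ≤ M` Sylow and `M ≤ N(C)` -/
theorem frattini_inf (T : Sylow p G) {M C : Subgroup G} (hTM : (T : Subgroup G) ≤ M)
    (hMC : M ≤ Subgroup.normalizer (C : Set G)) :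
    M ≤ (M ⊓ C) ⊔ (M ⊓ Subgroup.normalizer (((T : Subgroup G) ⊓ C : Subgroup G) : Set G)) := by
  have hMK : M ≤ Subgroup.normalizer ((M ⊓ C : Subgroup G) : Set G) := by
    intro m hm
    rw [← cj_eq_self_iff, cj_inf, cj_eq_self_of_mem hm, cj_eq_self_iff.mpr (hMC hm)]
  have hTK : (T : Subgroup G) ⊓ (M ⊓ C) = (T : Subgroup G) ⊓ C := by
    rw [← inf_assoc, inf_eq_left.mpr hTM]
  obtain ⟨P, hP⟩ := sylow_inf_subgroupOf T (hTM.trans hMK)
  have hPmap : (P : Subgroup ↥(M ⊓ C)).map (M ⊓ C).subtype = (T : Subgroup G) ⊓ C := by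
    rw [hP, Subgroup.subgroupOf_map_subtype, hTK]
  intro m hm
  have h1 : cj(m, (T : Subgroup G) ⊓ C) ≤ M ⊓ C := by
    rw [← hTK]
    calc cj(m, (T : Subgroup G) ⊓ (M ⊓ C)) ≤ cj(m, M ⊓ C) := cj_mono inf_le_right
      _ = M ⊓ C := cj_eq_self_iff.mpr (hMK hm)
  obtain ⟨k, hk, hkR⟩ := exists_cj_le_sylow_subgroup
    (isPGroup_cj (T.isPGroup'.to_le inf_le_left : IsPGroup p ↥((T : Subgroup G) ⊓ C)) m) h1 P
  rw [hPmap, cj_cj] at hkR
  have hkm : k * m ∈ Subgroup.normalizer (((T : Subgroup G) ⊓ C : Subgroup G) : Set G) :=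
    cj_eq_self_iff.mp (cj_eq_of_le hkR)
  have e : m = k⁻¹ * (k * m) := by group
  rw [e]
  exact Subgroup.mul_mem _ (Subgroup.mem_sup_left (Subgroup.inv_mem _ hk))
    (Subgroup.mem_sup_right (Subgroup.mem_inf.mpr ⟨M.mul_mem (Subgroup.mem_inf.mp hk).1 hm, hkm⟩))

/-- `Y_L = Ω₁(Z(C_T(Y_L)))` for `L` of characteristic `p` containing the Sylow subgroup `T` -/
theorem largestPReducedOf_eq_omegaOne_center (T : Sylow p G) {L : Subgroup G}
    (hTL : (T : Subgroup G) ≤ L)
    (hL : L ⊓ Subgroup.centralizer (Cfsg.pCoreOf p L : Set G) ≤ Cfsg.pCoreOf p L) :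
    Cfsg.largestPReducedOf p L =
      Cfsg.omegaOne p (((T : Subgroup G) ⊓ Subgroup.centralizer (Cfsg.largestPReducedOf p L : Set G)) ⊓
        Subgroup.centralizer ((((T : Subgroup G) ⊓
          Subgroup.centralizer (Cfsg.largestPReducedOf p L : Set G) : Subgroup G)) : Set G)) := by
  set Y := Cfsg.largestPReducedOf p L with hY
  set T₀ := (T : Subgroup G) ⊓ Subgroup.centralizer (Y : Set G) with hT₀
  set Z₀ := Cfsg.omegaOne p (T₀ ⊓ Subgroup.centralizer (T₀ : Set G)) with hZ₀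
  set O := Cfsg.pCoreOf p L with hO
  have hOT₀ : O ≤ T₀ := le_inf (pCoreOf_le_sylow T hTL) (pCoreOf_le_centralizer_largestPReducedOf L)
  have hYZ₀ : Y ≤ Z₀ := by
    intro y hy
    apply mem_omegaOne
    · refine Subgroup.mem_inf.mpr ⟨hOT₀ (largestPReducedOf_le_pCoreOf L hy), ?_⟩
      have : T₀ ≤ Subgroup.centralizer (Y : Set G) := inf_le_right
      rw [Subgroup.le_centralizer_iff] at this
      exact this hy
    · exact (largestPReducedOf_isElementaryAbelian (p := p) L).2 y hy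
  apply le_antisymm hYZ₀
  set Z₁ := Cfsg.omegaOne p (O ⊓ Subgroup.centralizer (O : Set G)) with hZ₁
  have hZ₀Z₁ : Z₀ ≤ Z₁ := by
    apply omegaOne_mono
    have h1 : T₀ ⊓ Subgroup.centralizer (T₀ : Set G) ≤ L ⊓ Subgroup.centralizer (O : Set G) :=
      inf_le_inf (inf_le_left.trans hTL) (Subgroup.centralizer_le hOT₀)
    exact le_inf (h1.trans hL) (inf_le_right.trans (Subgroup.centralizer_le hOT₀))
  set W := ⨆ l : ↥L, cj((l : G), Z₀) with hW
  have hWZ₁ : W ≤ Z₁ := by
    apply iSup_le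
    intro l
    calc cj((l : G), Z₀) ≤ cj((l : G), Z₁) := cj_mono hZ₀Z₁
      _ = Z₁ := cj_eq_self_iff.mpr (le_normalizer_omegaOne_center_pCoreOf L l.2)
  have hZ₀W : Z₀ ≤ W := le_iSup_cj L Z₀
  have hPW : PRedIn p L W := by
    refine PRedIn_of_generated (A := Z₀) (T.subtype hTL) ?_ (le_normalizer_iSup_cj L Z₀)
      (IsElementaryAbelian_of_le (omegaOne_center_isElementaryAbelian p _) hWZ₁) hZ₀W ?_ ?_
    · exact hWZ₁.trans ((omegaOne_le p _).trans (inf_le_left.trans (pCoreOf_le p L)))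
    · intro X hX
      exact iSup_le fun l => hX l l.2
    · intro D hDL hLD hpow
      rw [sylow_subtype_map]
      have hDY : D ≤ Subgroup.centralizer (Y : Set G) :=
        (PRedIn_largestPReducedOf L).2.2.2 D hDL hLD fun d hd => by
          obtain ⟨k, hk⟩ := hpow d hd
          exact ⟨k, Subgroup.centralizer_le (hYZ₀.trans hZ₀W) hk⟩
      have h2 : (T : Subgroup G) ⊓ D ≤ T₀ := inf_le_inf_left _ hDY
      refine h2.trans ?_
      rw [Subgroup.le_centralizer_iff]
      exact (omegaOne_le p _).trans inf_le_right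
  exact hZ₀W.trans (PRedIn_le_largestPReducedOf hPW)

/-- `L* = N_M(C_T(Y_L))`: `Y_{L*} = Y_L` and `L C(Y_L) = L* C(Y_L)` -/
theorem largestPReducedOf_star (T : Sylow p G) {L M : Subgroup G} (hTL : (T : Subgroup G) ≤ L)
    (hTM : (T : Subgroup G) ≤ M)
    (hL : L ⊓ Subgroup.centralizer (Cfsg.pCoreOf p L : Set G) ≤ Cfsg.pCoreOf p L)
    (hfac : M ⊔ Subgroup.centralizer (Cfsg.largestPReducedOf p L : Set G) =
      L ⊔ Subgroup.centralizer (Cfsg.largestPReducedOf p L : Set G)) :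
    Cfsg.largestPReducedOf p (M ⊓ Subgroup.normalizer ((((T : Subgroup G) ⊓
        Subgroup.centralizer (Cfsg.largestPReducedOf p L : Set G) : Subgroup G)) : Set G)) =
      Cfsg.largestPReducedOf p L ∧
    L ⊔ Subgroup.centralizer (Cfsg.largestPReducedOf p L : Set G) =
      (M ⊓ Subgroup.normalizer ((((T : Subgroup G) ⊓
        Subgroup.centralizer (Cfsg.largestPReducedOf p L : Set G) : Subgroup G)) : Set G)) ⊔
        Subgroup.centralizer (Cfsg.largestPReducedOf p L : Set G) := by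
  have hYeq := largestPReducedOf_eq_omegaOne_center T hTL hL
  set Y := Cfsg.largestPReducedOf p L with hY
  set C := Subgroup.centralizer (Y : Set G) with hC
  set T₀ := (T : Subgroup G) ⊓ C with hT₀
  set Ls := M ⊓ Subgroup.normalizer (T₀ : Set G) with hLs
  have hLNY : L ≤ Subgroup.normalizer (Y : Set G) := le_normalizer_largestPReducedOf p L
  have hMNY : M ≤ Subgroup.normalizer (Y : Set G) := by
    calc M ≤ M ⊔ C := le_sup_left
      _ = L ⊔ C := hfac
      _ ≤ Subgroup.normalizer (Y : Set G) := sup_le hLNY (Subgroup.centralizer_le_normalizer _)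
  have hMC : M ≤ Subgroup.normalizer (C : Set G) :=
    hMNY.trans (normalizer_le_normalizer_centralizer Y)
  -- second claim
  have h2 : L ⊔ C = Ls ⊔ C := by
    rw [← hfac]
    apply le_antisymm
    · refine sup_le ?_ le_sup_right
      refine (frattini_inf T hTM hMC).trans (sup_le ?_ le_sup_left)
      exact inf_le_right.trans le_sup_right
    · exact sup_le (inf_le_left.trans le_sup_left) le_sup_right
  refine ⟨?_, h2⟩
  have hTLs : (T : Subgroup G) ≤ Ls := by
    refine le_inf hTM ?_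
    intro t ht
    rw [← cj_eq_self_iff, cj_inf, cj_eq_self_of_mem ht, cj_eq_self_iff.mpr (hMC (hTM ht))]
  have hYT₀ : Y ≤ T₀ := by
    refine le_inf ((largestPReducedOf_le_pCoreOf L).trans (pCoreOf_le_sylow T hTL)) ?_
    intro y hy
    rw [Subgroup.mem_centralizer_iff]
    intro z hz
    exact IsElementaryAbelian_comm (largestPReducedOf_isElementaryAbelian (p := p) L) hz hy
  have hT₀Ls : T₀ ≤ Ls := inf_le_left.trans hTLs
  apply le_antisymm
  · -- Y* ≤ Y
    set Ys := Cfsg.largestPReducedOf p Ls with hYs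
    have hT₀O : T₀ ≤ Cfsg.pCoreOf p Ls :=
      le_pCoreOf hT₀Ls (T.isPGroup'.to_le inf_le_left) inf_le_right
    have hYsT₀ : Ys ≤ Subgroup.centralizer (T₀ : Set G) := by
      rw [Subgroup.le_centralizer_iff]
      exact hT₀O.trans (pCoreOf_le_centralizer_largestPReducedOf Ls)
    have hYsT : Ys ≤ T₀ := by
      refine le_inf ((largestPReducedOf_le_pCoreOf Ls).trans (pCoreOf_le_sylow T hTLs)) ?_
      exact hYsT₀.trans (Subgroup.centralizer_le hYT₀)
    rw [hYeq]
    intro y hy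
    exact mem_omegaOne (Subgroup.mem_inf.mpr ⟨hYsT hy, hYsT₀ hy⟩)
      ((largestPReducedOf_isElementaryAbelian (p := p) Ls).2 y hy)
  · -- Y ≤ Y*
    exact PRedIn_le_largestPReducedOf
      (PRedIn_of_sup_centralizer_eq (PRedIn_largestPReducedOf L) (hYT₀.trans hT₀Ls) h2.symm)

end ystar

end Cfsg.Agent.Helper47
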