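import Cfsg.Agent.Helper47.PRed

set_option autoImplicit false

namespace Cfsg.Agent.Helper47

open scoped commutatorElement Pointwise

local notation "cj(" g "," Q ")" => Subgroup.map (MulEquiv.toMonoidHom (MulAut.conj g)) Q

section zl

variable {G : Type*} [Group G] {p : ℕ}

theorem omegaOne_le (p : ℕ) (K : Subgroup G) : Cfsg.omegaOne p K ≤ K := by
  unfold Cfsg.omegaOne
  rw [Subgroup.closure_le]
  intro x hx
  exact hx.1

theorem omegaOne_mono (p : ℕ) {K K' : Subgroup G} (h : K ≤ K') :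
    Cfsg.omegaOne p K ≤ Cfsg.omegaOne p K' := by
  unfold Cfsg.omegaOne
  apply Subgroup.closure_mono
  intro x hx
  exact ⟨h hx.1, hx.2⟩

theorem mem_omegaOne {K : Subgroup G} {x : G} (hx : x ∈ K) (hxp : x ^ p = 1) :
    x ∈ Cfsg.omegaOne p K :=
  Subgroup.subset_closure ⟨hx, hxp⟩

theorem omegaOne_cj (p : ℕ) (g : G) (K : Subgroup G) :
    cj(g, Cfsg.omegaOne p K) = Cfsg.omegaOne p (cj(g, K)) := by
  unfold Cfsg.omegaOne
  rw [MonoidHom.map_closure]
  congr 1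
  ext x
  constructor
  · rintro ⟨y, ⟨hy, hyp⟩, rfl⟩
    refine ⟨⟨y, hy, rfl⟩, ?_⟩
    rw [← map_pow, hyp, map_one]
  · rintro ⟨⟨y, hy, rfl⟩, hyp⟩
    refine ⟨y, ⟨hy, ?_⟩, rfl⟩
    rw [← map_pow] at hyp
    exact (MulAut.conj g).injective (by rw [map_one]; exact hyp)

theorem IsElementaryAbelian_of_le {A B : Subgroup G} (hB : Cfsg.IsElementaryAbelian p B)
    (h : A ≤ B) : Cfsg.IsElementaryAbelian p A := by
  refine ⟨isMulCommutative_iff.mpr ?_, fun a ha => hB.2 a (h ha)⟩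
  rintro ⟨a, ha⟩ ⟨b, hb⟩
  apply Subtype.ext
  exact IsElementaryAbelian_comm hB (h ha) (h hb)

/-- `Ω₁(Z(O))` is elementary abelian -/
theorem omegaOne_center_isElementaryAbelian (p : ℕ) (O : Subgroup G) :
    Cfsg.IsElementaryAbelian p (Cfsg.omegaOne p (O ⊓ Subgroup.centralizer (O : Set G))) := by
  apply isElementaryAbelian_closure
  · rintro a ⟨ha, -⟩ b ⟨hb, -⟩
    exact Subgroup.mem_centralizer_iff.mp (Subgroup.mem_inf.mp hb).2 a (Subgroup.mem_inf.mp ha).1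
  · rintro a ⟨-, ha⟩
    exact ha

theorem le_iSup_cj (L A : Subgroup G) : A ≤ ⨆ l : ↥L, cj((l : G), A) := by
  have := le_iSup (fun l : ↥L => cj((l : G), A)) (1 : ↥L)
  have e : cj((((1 : ↥L) : ↥L) : G), A) = A := by
    rw [show (((1 : ↥L) : ↥L) : G) = 1 from rfl, cj_one]
  rw [e] at this
  exact this

theorem le_normalizer_iSup_cj [Finite G] (L A : Subgroup G) :
    L ≤ Subgroup.normalizer ((⨆ l : ↥L, cj((l : G), A) : Subgroup G) : Set G) := by
  intro k hk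
  rw [← cj_eq_self_iff]
  apply cj_eq_of_le
  rw [Subgroup.map_iSup]
  apply iSup_le
  intro k'
  rw [cj_cj]
  exact le_iSup (fun l : ↥L => cj((l : G), A)) (⟨k, hk⟩ * k')

theorem mem_of_pow_mem_of_coprime {N : Subgroup G} {d : G} {m : ℕ}
    (hm : m.Coprime (orderOf d)) (h : d ^ m ∈ N) : d ∈ N := by
  obtain ⟨j, hj⟩ := exists_pow_eq_self_of_coprime hm
  rw [← hj]
  exact N.pow_mem h j

variable [Finite G] [Fact p.Prime]

/-- the intersection of a Sylow subgroup `T` with a subgroup `C` normalized by `T` is a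
Sylow subgroup of `C` -/
theorem sylow_inf_subgroupOf (T : Sylow p G) {C : Subgroup G}
    (h : (T : Subgroup G) ≤ Subgroup.normalizer (C : Set G)) :
    ∃ P : Sylow p ↥C, (P : Subgroup ↥C) = (T : Subgroup G).subgroupOf C := by
  obtain ⟨P, hP⟩ := (T.isPGroup'.comap_subtype (K := C)).exists_le_sylow
  refine ⟨P, ?_⟩
  have hP'C : (P : Subgroup ↥C).map C.subtype ≤ C := Subgroup.map_subtype_le _
  have hTP : (T : Subgroup G) ⊓ C ≤ (P : Subgroup ↥C).map C.subtype := by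
    intro x hx
    obtain ⟨hxT, hxC⟩ := Subgroup.mem_inf.mp hx
    exact ⟨⟨x, hxC⟩, hP (Subgroup.mem_subgroupOf.mpr hxT), rfl⟩
  obtain ⟨k, hk, hkR⟩ := exists_cj_le_sylow_subgroup (P.isPGroup'.map C.subtype)
    (hP'C.trans (le_sup_right : C ≤ (T : Subgroup G) ⊔ C)) (T.subtype le_sup_left)
  have hkT : cj(k, (P : Subgroup ↥C).map C.subtype) ≤ (T : Subgroup G) := by
    refine hkR.trans ?_
    rintro _ ⟨x, hx, rfl⟩
    exact Subgroup.mem_subgroupOf.mp hx
  have hk' : k ∈ (((T : Subgroup G) ⊔ C : Subgroup G) : Set G) := hk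
  rw [Subgroup.coe_mul_of_left_le_normalizer_right _ C h] at hk'
  obtain ⟨t, ht, c, hc, rfl⟩ := Set.mem_mul.mp hk'
  have hcT : cj(c, (P : Subgroup ↥C).map C.subtype) ≤ (T : Subgroup G) := by
    rw [← cj_cj, cj_le_iff, cj_eq_self_of_mem (Subgroup.inv_mem _ ht)] at hkT
    exact hkT
  have hcC : cj(c, (P : Subgroup ↥C).map C.subtype) ≤ C := by
    calc cj(c, (P : Subgroup ↥C).map C.subtype) ≤ cj(c, C) := cj_mono hP'C
      _ = C := cj_eq_self_of_mem hc
  have h1 : cj(c, (P : Subgroup ↥C).map C.subtype) ≤ (P : Subgroup ↥C).map C.subtype :=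
    (le_inf hcT hcC).trans hTP
  have h2 := cj_eq_of_le h1
  have h3 : (P : Subgroup ↥C).map C.subtype ≤ (T : Subgroup G) := by
    rw [← h2]; exact hcT
  apply le_antisymm _ hP
  intro x hx
  exact Subgroup.mem_subgroupOf.mpr (h3 ⟨x, hx, rfl⟩)

/-- factorization `D = (N ∩ D)(S ∩ D)` for `D` normal, `S` Sylow and `N` containing the
`p'`-elements of `D` -/
theorem exists_mul_of_normal_sylow (S : Sylow p G) (D : Subgroup G) [D.Normal] (N : Subgroup G)
    (hN : ∀ d ∈ D, (orderOf d).Coprime p → d ∈ N) :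
    ∀ d ∈ D, ∃ r ∈ N ⊓ D, ∃ s ∈ (S : Subgroup G) ⊓ D, d = r * s := by
  intro d hd
  have h := pResidual_sup_sylow (sylowInfNormal S D)
  have hmem : (⟨d, hd⟩ : ↥D) ∈
      ((Cfsg.pResidual p ↥D ⊔ ((sylowInfNormal S D : Sylow p ↥D) : Subgroup ↥D) : Subgroup ↥D) :
        Set ↥D) := by
    rw [h]; exact Subgroup.mem_top _
  rw [Subgroup.normal_mul] at hmem
  obtain ⟨r, hr, s, hs, hrs⟩ := Set.mem_mul.mp hmem
  have hle : Cfsg.pResidual p ↥D ≤ N.subgroupOf D := by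
    unfold Cfsg.pResidual
    rw [Subgroup.closure_le]
    intro g hg
    have hg' : (orderOf g).Coprime p := hg
    rw [← Subgroup.orderOf_coe] at hg'
    exact Subgroup.mem_subgroupOf.mpr (hN g g.2 hg')
  refine ⟨r, Subgroup.mem_inf.mpr ⟨Subgroup.mem_subgroupOf.mp (hle hr), r.2⟩, s,
    Subgroup.mem_inf.mpr ⟨?_, s.2⟩, ?_⟩
  · have hs' : s ∈ (S : Subgroup G).subgroupOf D := hs
    exact Subgroup.mem_subgroupOf.mp hs'
  · exact (congrArg Subtype.val hrs).symm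

/-- ambient version of `exists_mul_of_normal_sylow` -/
theorem exists_mul_of_le_normalizer_sylow {L : Subgroup G} (S : Sylow p ↥L) {D : Subgroup G}
    (hDL : D ≤ L) (hLD : L ≤ Subgroup.normalizer (D : Set G)) (N : Subgroup G)
    (hN : ∀ d ∈ D, (orderOf d).Coprime p → d ∈ N) :
    ∀ d ∈ D, ∃ r ∈ N ⊓ D, ∃ s ∈ (S : Subgroup ↥L).map L.subtype ⊓ D, d = r * s := by
  haveI : (D.subgroupOf L).Normal := (Subgroup.normal_subgroupOf_iff_le_normalizer hDL).mpr hLD
  intro d hd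
  obtain ⟨r, hr, s, hs, hrs⟩ := exists_mul_of_normal_sylow S (D.subgroupOf L) (N.subgroupOf L)
    (fun d' hd' hcop => Subgroup.mem_subgroupOf.mpr
      (hN d' (Subgroup.mem_subgroupOf.mp hd') (by rwa [Subgroup.orderOf_coe])))
    ⟨d, hDL hd⟩ (Subgroup.mem_subgroupOf.mpr hd)
  obtain ⟨hr1, hr2⟩ := Subgroup.mem_inf.mp hr
  obtain ⟨hs1, hs2⟩ := Subgroup.mem_inf.mp hs
  refine ⟨r, Subgroup.mem_inf.mpr ⟨Subgroup.mem_subgroupOf.mp hr1, Subgroup.mem_subgroupOf.mp hr2⟩,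
    s, Subgroup.mem_inf.mpr ⟨⟨s, hs1, rfl⟩, Subgroup.mem_subgroupOf.mp hs2⟩, ?_⟩
  exact congrArg Subtype.val hrs

/-- criterion: a normal elementary abelian subgroup `W` of `L` generated by the `L`-conjugates
of `A` is `p`-reduced, provided `S ∩ D` centralizes `A` for the relevant normal subgroups `D` -/
theorem PRedIn_of_generated {L W A : Subgroup G} (S : Sylow p ↥L) (hWL : W ≤ L)
    (hLW : L ≤ Subgroup.normalizer (W : Set G)) (hWe : Cfsg.IsElementaryAbelian p W) (hAW : A ≤ W)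
    (hgen : ∀ X : Subgroup G, (∀ l ∈ L, cj(l, A) ≤ X) → W ≤ X)
    (hkey : ∀ D : Subgroup G, D ≤ L → L ≤ Subgroup.normalizer (D : Set G) →
      (∀ d ∈ D, ∃ k : ℕ, d ^ (p ^ k) ∈ Subgroup.centralizer (W : Set G)) →
      (S : Subgroup ↥L).map L.subtype ⊓ D ≤ Subgroup.centralizer (A : Set G)) :
    PRedIn p L W := by
  refine ⟨hWL, hLW, hWe, ?_⟩
  intro D hDL hLD hpow
  have hN : ∀ d ∈ D, (orderOf d).Coprime p → d ∈ Subgroup.centralizer (W : Set G) := by
    intro d hd hcop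
    obtain ⟨k, hk⟩ := hpow d hd
    exact mem_of_pow_mem_of_coprime (Nat.Coprime.pow_left k hcop.symm) hk
  have hDA : D ≤ Subgroup.centralizer (A : Set G) := by
    intro d hd
    obtain ⟨r, hr, s, hs, rfl⟩ := exists_mul_of_le_normalizer_sylow S hDL hLD _ hN d hd
    exact Subgroup.mul_mem _ (Subgroup.centralizer_le hAW (Subgroup.mem_inf.mp hr).1)
      (hkey D hDL hLD hpow hs)
  rw [Subgroup.le_centralizer_iff]
  apply hgen
  intro l hl
  rw [← Subgroup.le_centralizer_iff, centralizer_cj]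
  calc D = cj(l, D) := (cj_eq_self_iff.mpr (hLD hl)).symm
    _ ≤ cj(l, Subgroup.centralizer (A : Set G)) := cj_mono hDA

end zl

end Cfsg.Agent.Helper47
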