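import Cfsg.Agent.Helper47.ZL

set_option autoImplicit false

namespace Cfsg.Agent.Helper47

open scoped commutatorElement Pointwise

local notation "cj(" g "," Q ")" => Subgroup.map (MulEquiv.toMonoidHom (MulAut.conj g)) Q

section zl2

variable {G : Type*} [Group G] {p : ℕ} [Finite G] [Fact p.Prime]

/-- the generator `Ω₁(Z(S))` of `Z_L` attached to a Sylow subgroup `S` of `L` -/
def zTerm (p : ℕ) (L : Subgroup G) (S : Sylow p ↥L) : Subgroup G :=
  Cfsg.omegaOne p (((S : Subgroup ↥L).map L.subtype) ⊓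
    Subgroup.centralizer (((S : Subgroup ↥L).map L.subtype : Subgroup G) : Set G))

theorem sylowCenterClosure_eq (p : ℕ) (L : Subgroup G) :
    Cfsg.sylowCenterClosure p L = ⨆ S : Sylow p ↥L, zTerm p L S := rfl

theorem sylow_smul_map {L : Subgroup G} (l : ↥L) (S : Sylow p ↥L) :
    ((l • S : Sylow p ↥L) : Subgroup ↥L).map L.subtype =
      cj((l : G), (S : Subgroup ↥L).map L.subtype) := by
  rw [sylow_smul_coe, map_cj]
  rfl

theorem zTerm_smul {L : Subgroup G} (l : ↥L) (S : Sylow p ↥L) :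
    zTerm p L (l • S) = cj((l : G), zTerm p L S) := by
  unfold zTerm
  rw [omegaOne_cj, cj_inf, ← centralizer_cj, sylow_smul_map]

theorem zTerm_le {L : Subgroup G} (S : Sylow p ↥L) :
    zTerm p L S ≤ ((S : Subgroup ↥L).map L.subtype) ⊓
      Subgroup.centralizer (((S : Subgroup ↥L).map L.subtype : Subgroup G) : Set G) :=
  omegaOne_le p _

theorem pCoreOf_le_sylow_map {L : Subgroup G} (S : Sylow p ↥L) :
    Cfsg.pCoreOf p L ≤ (S : Subgroup ↥L).map L.subtype :=
  Subgroup.map_mono (pCore_le_sylow S)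

/-- `L ≤ N(Ω₁(Z(O_p(L))))` -/
theorem le_normalizer_omegaOne_center_pCoreOf (L : Subgroup G) :
    L ≤ Subgroup.normalizer ((Cfsg.omegaOne p (Cfsg.pCoreOf p L ⊓
      Subgroup.centralizer (Cfsg.pCoreOf p L : Set G)) : Subgroup G) : Set G) := by
  intro l hl
  rw [← cj_eq_self_iff, omegaOne_cj, cj_inf, ← centralizer_cj,
    cj_eq_self_iff.mpr (le_normalizer_pCoreOf L hl)]

/-- in a group of characteristic `p`, `Ω₁(Z(S)) ≤ Ω₁(Z(O_p(L)))` -/
theorem zTerm_le_omegaOne_center {L : Subgroup G}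
    (hL : L ⊓ Subgroup.centralizer (Cfsg.pCoreOf p L : Set G) ≤ Cfsg.pCoreOf p L)
    (S : Sylow p ↥L) :
    zTerm p L S ≤ Cfsg.omegaOne p (Cfsg.pCoreOf p L ⊓
      Subgroup.centralizer (Cfsg.pCoreOf p L : Set G)) := by
  apply omegaOne_mono
  have hO := pCoreOf_le_sylow_map (p := p) S
  have h1 : ((S : Subgroup ↥L).map L.subtype) ⊓
      Subgroup.centralizer (((S : Subgroup ↥L).map L.subtype : Subgroup G) : Set G) ≤
      L ⊓ Subgroup.centralizer (Cfsg.pCoreOf p L : Set G) :=
    inf_le_inf (Subgroup.map_subtype_le _) (Subgroup.centralizer_le hO)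
  exact le_inf (h1.trans hL) (inf_le_right.trans (Subgroup.centralizer_le hO))

theorem sylowCenterClosure_le_omegaOne_center {L : Subgroup G}
    (hL : L ⊓ Subgroup.centralizer (Cfsg.pCoreOf p L : Set G) ≤ Cfsg.pCoreOf p L) :
    Cfsg.sylowCenterClosure p L ≤ Cfsg.omegaOne p (Cfsg.pCoreOf p L ⊓
      Subgroup.centralizer (Cfsg.pCoreOf p L : Set G)) := by
  rw [sylowCenterClosure_eq]
  exact iSup_le fun S => zTerm_le_omegaOne_center hL S

theorem le_normalizer_sylowCenterClosure (L : Subgroup G) :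
    L ≤ Subgroup.normalizer ((Cfsg.sylowCenterClosure p L : Subgroup G) : Set G) := by
  intro l hl
  rw [← cj_eq_self_iff]
  apply cj_eq_of_le
  rw [sylowCenterClosure_eq, Subgroup.map_iSup]
  apply iSup_le
  intro S
  have := zTerm_smul (⟨l, hl⟩ : ↥L) S
  rw [← this]
  exact le_iSup (fun S : Sylow p ↥L => zTerm p L S) _

/-- in a group `L` of characteristic `p`, `Z_L` is a `p`-reduced normal subgroup -/
theorem PRedIn_sylowCenterClosure {L : Subgroup G}
    (hL : L ⊓ Subgroup.centralizer (Cfsg.pCoreOf p L : Set G) ≤ Cfsg.pCoreOf p L) :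
    PRedIn p L (Cfsg.sylowCenterClosure p L) := by
  obtain ⟨S₀⟩ : Nonempty (Sylow p ↥L) := inferInstance
  have hZ1 := sylowCenterClosure_le_omegaOne_center hL
  refine PRedIn_of_generated (A := zTerm p L S₀) S₀ ?_ (le_normalizer_sylowCenterClosure L)
    (IsElementaryAbelian_of_le (omegaOne_center_isElementaryAbelian p _) hZ1) ?_ ?_ ?_
  · exact hZ1.trans ((omegaOne_le p _).trans (inf_le_left.trans (pCoreOf_le p L)))
  · rw [sylowCenterClosure_eq]
    exact le_iSup (fun S : Sylow p ↥L => zTerm p L S) S₀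
  · intro X hX
    rw [sylowCenterClosure_eq]
    apply iSup_le
    intro S
    obtain ⟨l, rfl⟩ := MulAction.exists_smul_eq ↥L S₀ S
    rw [zTerm_smul]
    exact hX l l.2
  · intro D _ _ _
    refine inf_le_left.trans ?_
    rw [Subgroup.le_centralizer_iff]
    exact (zTerm_le S₀).trans inf_le_right

theorem sylowCenterClosure_le_largestPReducedOf {L : Subgroup G}
    (hL : L ⊓ Subgroup.centralizer (Cfsg.pCoreOf p L : Set G) ≤ Cfsg.pCoreOf p L) :
    Cfsg.sylowCenterClosure p L ≤ Cfsg.largestPReducedOf p L :=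
  PRedIn_le_largestPReducedOf (PRedIn_sylowCenterClosure hL)

/-- `Y_L ≤ Ω₁(Z(O_p(L)))` -/
theorem largestPReducedOf_le_omegaOne_center (L : Subgroup G) :
    Cfsg.largestPReducedOf p L ≤ Cfsg.omegaOne p (Cfsg.pCoreOf p L ⊓
      Subgroup.centralizer (Cfsg.pCoreOf p L : Set G)) := by
  intro y hy
  apply mem_omegaOne
  · refine Subgroup.mem_inf.mpr ⟨largestPReducedOf_le_pCoreOf L hy, ?_⟩
    have := pCoreOf_le_centralizer_largestPReducedOf (p := p) L
    rw [Subgroup.le_centralizer_iff] at this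
    exact this hy
  · exact (largestPReducedOf_isElementaryAbelian (p := p) L).2 y hy

/-- a Sylow subgroup `T` of `G` inside `L`, as the map of a Sylow subgroup of `L` -/
theorem sylow_subtype_map (T : Sylow p G) {L : Subgroup G} (hTL : (T : Subgroup G) ≤ L) :
    ((T.subtype hTL : Sylow p ↥L) : Subgroup ↥L).map L.subtype = (T : Subgroup G) := by
  show ((T : Subgroup G).subgroupOf L).map L.subtype = (T : Subgroup G)
  rw [Subgroup.subgroupOf_map_subtype]
  exact inf_eq_left.mpr hTL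

theorem omegaOne_center_sylow_le_sylowCenterClosure (T : Sylow p G) {L : Subgroup G}
    (hTL : (T : Subgroup G) ≤ L) :
    Cfsg.omegaOne p ((T : Subgroup G) ⊓ Subgroup.centralizer ((T : Subgroup G) : Set G)) ≤
      Cfsg.sylowCenterClosure p L := by
  have h := le_iSup (fun S : Sylow p ↥L => zTerm p L S) (T.subtype hTL)
  unfold zTerm at h
  rw [sylow_subtype_map] at h
  exact h

end zl2

end Cfsg.Agent.Helper47
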